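import Cfsg.Agent.Lib.AltDegree.Canon

/-!
# Cycles in alternating groups, for canonical lifts
-/

set_option autoImplicit false
set_option linter.unusedSectionVars false

namespace CfsgLib.AltDegree

open Equiv Equiv.Perm

variable {Ω : Type*} [Fintype Ω] [DecidableEq Ω]

/-- The subgroup of elements supported on `S`, as a homomorphism, is perfect. -/
theorem commutator_range_ofSubtype (S : Finset Ω) (h : 5 ≤ S.card) :
    commutator (alternatingGroup.ofSubtype S).range = ⊤ := by
  have h1 : commutator (alternatingGroup S) = ⊤ :=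
    commutator_alternatingGroup_eq_top (by simpa using h)
  have hs := (alternatingGroup.ofSubtype S).rangeRestrict_surjective
  rw [commutator_def, ← Subgroup.map_top_of_surjective _ hs, ← Subgroup.map_commutator,
    ← commutator_def, h1]

/-- Elements with disjoint support commute. -/
theorem commute_of_support {x y : alternatingGroup Ω}
    (h : Disjoint (x : Perm Ω).support (y : Perm Ω).support) : x * y = y * x :=
  Subtype.ext (Perm.disjoint_iff_disjoint_support.2 h).commute.eq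

theorem good_of_isCycle {g : alternatingGroup Ω} {n : ℕ} (hg : (g : Perm Ω).IsCycle)
    (hn : (g : Perm Ω).support.card = n) (hodd : Odd n) (h5 : n + 5 ≤ Fintype.card Ω) :
    Good g n := by
  set σ : Perm Ω := (g : Perm Ω) with hσ
  have hcard : 5 ≤ (σ.supportᶜ).card := by rw [Finset.card_compl, hn]; omega
  refine ⟨hodd, Subtype.ext (by push_cast; rw [← hn, ← hg.orderOf, pow_orderOf_eq_one]), ?_, ?_⟩
  · obtain ⟨τ, hτ⟩ := isConj_iff.1 (Equiv.Perm.isConj_iff_cycleType_eq.2 (cycleType_inv σ).symm)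
    have hτ' : τ * σ = σ⁻¹ * τ := mul_inv_eq_iff_eq_mul.1 hτ
    by_cases hs : Perm.sign τ = 1
    · exact ⟨⟨τ, hs⟩, Subtype.ext hτ'⟩
    · obtain ⟨u, hu, v, hv, huv⟩ := Finset.one_lt_card.1 (show 1 < (σ.supportᶜ).card by omega)
      rw [Finset.mem_compl, Perm.notMem_support] at hu hv
      have hc : Equiv.swap u v * σ = σ * Equiv.swap u v := by
        rw [Equiv.mul_swap_eq_swap_mul, hu, hv]
      refine ⟨⟨τ * Equiv.swap u v, ?_⟩, Subtype.ext ?_⟩
      · rw [mem_alternatingGroup, map_mul, Perm.sign_swap huv,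
          (Int.units_eq_one_or _).resolve_left hs, neg_mul_neg, one_mul]
      · show τ * Equiv.swap u v * σ = σ⁻¹ * (τ * Equiv.swap u v)
        rw [mul_assoc, hc, ← mul_assoc, hτ', mul_assoc]
  · intro z hz
    obtain ⟨a, ha⟩ : σ.support.Nonempty := by
      rw [← Finset.card_pos, hn]; exact hodd.pos
    have hzc : (z : Perm Ω) * σ = σ * z := congrArg Subtype.val hz
    have hza : σ ((z : Perm Ω) a) ≠ (z : Perm Ω) a := by
      rw [show σ ((z : Perm Ω) a) = (z : Perm Ω) (σ a) from (Perm.congr_fun hzc a).symm]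
      exact fun h => Perm.mem_support.1 ha ((z : Perm Ω).injective h)
    obtain ⟨i, hi⟩ := hg.exists_pow_eq (Perm.mem_support.1 ha) hza
    refine ⟨i, (g ^ i)⁻¹ * z, (mul_inv_cancel_left _ _).symm,
      (alternatingGroup.ofSubtype σ.supportᶜ).range, commutator_range_ofSubtype _ hcard, ?_, ?_⟩
    · rw [alternatingGroup.mem_range_ofSubtype_iff]
      intro x hx
      rw [Finset.mem_compl]
      intro hxσ
      refine Perm.mem_support.1 hx ?_
      obtain ⟨j, rfl⟩ := hg.exists_pow_eq (Perm.mem_support.1 ha) (Perm.mem_support.1 hxσ)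
      have h1 : Commute ((σ ^ i)⁻¹ * (z : Perm Ω)) (σ ^ j) :=
        Commute.mul_left ((Commute.pow_pow_self σ i j).inv_left) ((Commute.pow_right hzc j))
      show ((σ ^ i)⁻¹ * (z : Perm Ω)) ((σ ^ j) a) = (σ ^ j) a
      rw [← Perm.mul_apply, h1.eq, Perm.mul_apply, Perm.mul_apply, ← hi,
        Perm.inv_eq_iff_eq.2 rfl]
    · intro x hx
      rw [alternatingGroup.mem_range_ofSubtype_iff] at hx
      exact commute_of_support (Finset.disjoint_left.2 fun y hy hy' =>
        Finset.mem_compl.1 (hx hy) hy')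

/-- The 3-cycle `a ↦ b ↦ c ↦ a` (`1` unless even). -/
def cyc (a b c : Ω) : alternatingGroup Ω :=
  if h : Perm.sign (Equiv.swap a b * Equiv.swap b c) = 1 then ⟨_, mem_alternatingGroup.2 h⟩ else 1

variable {a b c d : Ω}

theorem cyc_coe (hab : a ≠ b) (hbc : b ≠ c) :
    ((cyc a b c : alternatingGroup Ω) : Perm Ω) = Equiv.swap a b * Equiv.swap b c := by
  rw [cyc, dif_pos]
  rw [map_mul, Perm.sign_swap hab, Perm.sign_swap hbc]
  rfl

theorem cyc_isThreeCycle (hab : a ≠ b) (hac : a ≠ c) (hbc : b ≠ c) :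
    ((cyc a b c : alternatingGroup Ω) : Perm Ω).IsThreeCycle := by
  rw [cyc_coe hab hbc, Equiv.swap_comm a b]
  exact isThreeCycle_swap_mul_swap_same hab.symm hbc hac

theorem cyc_support (hab : a ≠ b) (hac : a ≠ c) (hbc : b ≠ c) :
    ((cyc a b c : alternatingGroup Ω) : Perm Ω).support ⊆ {a, b, c} := by
  intro x hx
  rw [Perm.mem_support, cyc_coe hab hbc, Perm.mul_apply] at hx
  simp only [Finset.mem_insert, Finset.mem_singleton]
  by_contra hne
  push Not at hne
  exact hx (by rw [Equiv.swap_apply_of_ne_of_ne hne.2.1 hne.2.2,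
    Equiv.swap_apply_of_ne_of_ne hne.1 hne.2.1])

theorem good_cyc (hab : a ≠ b) (hac : a ≠ c) (hbc : b ≠ c) (h8 : 8 ≤ Fintype.card Ω) :
    Good (cyc a b c) 3 :=
  good_of_isCycle (cyc_isThreeCycle hab hac hbc).isCycle (cyc_isThreeCycle hab hac hbc).card_support
    (by decide) (by omega)

theorem cyc_conj (h : alternatingGroup Ω) (hab : a ≠ b) (hbc : b ≠ c) :
    h * cyc a b c = cyc ((h : Perm Ω) a) ((h : Perm Ω) b) ((h : Perm Ω) c) * h := by
  refine Subtype.ext ?_
  rw [Subgroup.coe_mul, Subgroup.coe_mul, cyc_coe hab hbc,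
    cyc_coe ((h : Perm Ω).injective.ne hab) ((h : Perm Ω).injective.ne hbc), ← mul_assoc,
    Equiv.mul_swap_eq_swap_mul (h : Perm Ω) a b, mul_assoc, Equiv.mul_swap_eq_swap_mul (h : Perm Ω) b c,
    ← mul_assoc]

theorem cyc_rot (hab : a ≠ b) (hac : a ≠ c) (hbc : b ≠ c) : cyc a b c = cyc b c a := by
  refine Subtype.ext ?_
  rw [cyc_coe hab hbc, cyc_coe hbc hac.symm]
  refine Equiv.ext fun x => ?_
  simp only [Perm.mul_apply, Equiv.swap_apply_def]
  grind

theorem cyc_swap (hab : a ≠ b) (hac : a ≠ c) (hbc : b ≠ c) : cyc b a c = (cyc a b c)⁻¹ := by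
  refine Subtype.ext ?_
  rw [Subgroup.coe_inv, cyc_coe hab hbc, cyc_coe hab.symm hac, mul_inv_rev, Equiv.swap_inv,
    Equiv.swap_inv]
  refine Equiv.ext fun x => ?_
  simp only [Perm.mul_apply, Equiv.swap_apply_def]
  grind

theorem cyc_pair_sq (hab : a ≠ b) (hac : a ≠ c) (hbc : b ≠ c) (had : a ≠ d) (hbd : b ≠ d)
    (hcd : c ≠ d) : (cyc a b c * cyc a b d) * (cyc a b c * cyc a b d) = 1 := by
  refine Subtype.ext ?_
  simp only [Subgroup.coe_mul, Subgroup.coe_one, cyc_coe hab hbc, cyc_coe hab hbd]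
  refine Equiv.ext fun x => ?_
  simp only [Perm.mul_apply, Perm.one_apply, Equiv.swap_apply_def]
  grind

theorem cyc_apply_left (hab : a ≠ b) (hac : a ≠ c) (hbc : b ≠ c) :
    ((cyc a b c : alternatingGroup Ω) : Perm Ω) a = b := by
  rw [cyc_coe hab hbc, Perm.mul_apply, Equiv.swap_apply_of_ne_of_ne hab hac, Equiv.swap_apply_left]

theorem cyc_apply_mid (hab : a ≠ b) (hac : a ≠ c) (hbc : b ≠ c) :
    ((cyc a b c : alternatingGroup Ω) : Perm Ω) b = c := by
  rw [cyc_coe hab hbc, Perm.mul_apply, Equiv.swap_apply_left,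
    Equiv.swap_apply_of_ne_of_ne hac.symm hbc.symm]

theorem cyc_apply_right (hab : a ≠ b) (hbc : b ≠ c) :
    ((cyc a b c : alternatingGroup Ω) : Perm Ω) c = a := by
  rw [cyc_coe hab hbc, Perm.mul_apply, Equiv.swap_apply_right, Equiv.swap_apply_right]

theorem cyc_apply_of_notMem (hab : a ≠ b) (hbc : b ≠ c) {x : Ω} (h1 : x ≠ a) (h2 : x ≠ b)
    (h3 : x ≠ c) : ((cyc a b c : alternatingGroup Ω) : Perm Ω) x = x := by
  rw [cyc_coe hab hbc, Perm.mul_apply, Equiv.swap_apply_of_ne_of_ne h2 h3,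
    Equiv.swap_apply_of_ne_of_ne h1 h2]

theorem exists_cyc {x : alternatingGroup Ω} (hx : (x : Perm Ω).IsThreeCycle) :
    ∃ a b c : Ω, a ≠ b ∧ a ≠ c ∧ b ≠ c ∧ x = cyc a b c := by
  obtain ⟨a, ha⟩ : (x : Perm Ω).support.Nonempty := by
    rw [← Finset.card_pos, hx.card_support]; omega
  set σ : Perm Ω := (x : Perm Ω) with hσ
  have h3 : σ (σ (σ a)) = a := by
    have h := congrArg (fun f : Perm Ω => f a) (hx.orderOf ▸ pow_orderOf_eq_one σ)
    simpa [pow_succ, Perm.mul_apply] using h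
  have hab : σ a ≠ a := Perm.mem_support.1 ha
  have hbc : σ (σ a) ≠ σ a := fun h => hab (σ.injective h)
  have hac : σ (σ a) ≠ a := fun h => hab (by rw [h] at h3; exact h3)
  refine ⟨a, σ a, σ (σ a), hab.symm, hac.symm, hbc.symm, Subtype.ext (Equiv.ext fun z => ?_)⟩
  by_cases hza : z = a
  · rw [hza, cyc_apply_left hab.symm hac.symm hbc.symm]
  by_cases hzb : z = σ a
  · rw [hzb, cyc_apply_mid hab.symm hac.symm hbc.symm]
  by_cases hzc : z = σ (σ a)
  · rw [hzc, cyc_apply_right hab.symm hbc.symm, ← hσ, h3]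
  rw [cyc_apply_of_notMem hab.symm hbc.symm hza hzb hzc, ← hσ]
  refine Perm.notMem_support.1 fun hz => ?_
  have hsub : ({a, σ a, σ (σ a), z} : Finset Ω) ⊆ σ.support := by
    intro y hy
    simp only [Finset.mem_insert, Finset.mem_singleton] at hy
    rcases hy with rfl | rfl | rfl | rfl
    · exact ha
    · exact Perm.apply_mem_support.2 ha
    · exact Perm.apply_mem_support.2 (Perm.apply_mem_support.2 ha)
    · exact hz
  have := Finset.card_le_card hsub
  rw [hx.card_support, Finset.card_insert_of_notMem (by simp [hab.symm, hac.symm, Ne.symm hza]),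
    Finset.card_insert_of_notMem (by simp [hbc.symm, Ne.symm hzb]),
    Finset.card_pair (Ne.symm hzc)] at this
  omega

theorem closure_cyc :
    Subgroup.closure {g : alternatingGroup Ω | (g : Perm Ω).IsThreeCycle} = ⊤ := by
  rw [← closure_three_cycles_eq_alternating]
  exact Subgroup.closure_closure_coe_preimage

end CfsgLib.AltDegree
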