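import Cfsg.Agent.Lib.AltDegree.Proj

/-!
# Canonical lifts of inverted elements of odd order

If `g` has odd order `n`, is inverted, and everything centralizing `g` is a power of `g` times an
element of a perfect subgroup centralizing `g`, then exactly one lift of `g` has order dividing `n`
and is inverted by the lifts of every element inverting `g`.
-/

set_option autoImplicit false
set_option linter.unusedSectionVars false

namespace CfsgLib.AltDegree

open scoped commutatorElement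

variable {k : Type*} [Field k] {V : Type*} [AddCommGroup V] [Module k V] {G : Type*} [Group G]
variable {T : G → Module.End k V}

/-- The hypothesis on `g` for the existence of a canonical lift. -/
structure Good (g : G) (n : ℕ) : Prop where
  odd : Odd n
  pow_eq : g ^ n = 1
  inverted : ∃ h, h * g = g⁻¹ * h
  cent : ∀ z, z * g = g * z → ∃ (i : ℕ) (s : G), z = g ^ i * s ∧
    ∃ H : Subgroup G, commutator H = ⊤ ∧ s ∈ H ∧ ∀ x ∈ H, x * g = g * x

theorem IsProj.commute_inv (hT : IsProj T) {x : G} {A : Module.End k V} (h : Commute (T x) A) :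
    Commute (T x⁻¹) A := by
  obtain ⟨u, hu⟩ := hT.isUnit x
  obtain ⟨c, hc, e⟩ := hT.map_prod x⁻¹ x
  obtain ⟨d, hd, ed⟩ := hT.map_one
  rw [inv_mul_cancel, ed, smul_smul] at e
  have h2 : T x⁻¹ = (c * d) • (↑u⁻¹ : Module.End k V) := by
    calc T x⁻¹ = T x⁻¹ * T x * ↑u⁻¹ := by rw [← hu, mul_assoc, Units.mul_inv, mul_one]
      _ = _ := by rw [e, smul_mul_assoc, one_mul]
  rw [h2]
  exact ((hu ▸ h : Commute (↑u) A).units_inv_left).smul_left _

theorem commute_of_perfect (hT : IsProj T) {g : G} {A : Module.End k V} (hA : IsLift T g A)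
    {H : Subgroup G} (hH : commutator H = ⊤) (hc : ∀ x ∈ H, x * g = g * x) {s : G} (hs : s ∈ H) :
    Commute (T s) A := by
  let S : Subgroup G :=
    { carrier := {x | Commute (T x) A}
      one_mem' := by
        obtain ⟨c, -, e⟩ := hT.map_one
        show Commute (T 1) A
        rw [e]
        exact (Commute.one_left A).smul_left c
      mul_mem' := by
        intro x y hx hy
        obtain ⟨c, -, e⟩ := hT.map_mul x y
        show Commute (T (x * y)) A
        rw [e]
        exact (Commute.mul_left hx hy).smul_left c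
      inv_mem' := fun {x} hx => hT.commute_inv hx }
  suffices hle : ⁅H, H⁆ ≤ S by
    have hHH : ⁅H, H⁆ = H := by rw [← Subgroup.map_subtype_commutator, hH, ← MonoidHom.range_eq_map, Subgroup.range_subtype]
    exact hle (hHH.symm ▸ hs)
  rw [Subgroup.commutator_le]
  intro x hx y hy
  obtain ⟨μ, hμ, eμ⟩ := hT.lift_comm (hc x hx) hA hA
  obtain ⟨ν, hν, eν⟩ := hT.lift_comm (hc y hy) hA hA
  obtain ⟨c, hc0, e⟩ := hT.map_prod ⁅x, y⁆ (y * x)
  rw [show ⁅x, y⁆ * (y * x) = x * y by group] at e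
  obtain ⟨d, hd, ed⟩ := hT.map_prod x y
  obtain ⟨d', hd', ed'⟩ := hT.map_prod y x
  -- `T ⁅x, y⁆` times `T y * T x` is a scalar times `T x * T y`
  have key : T ⁅x, y⁆ * (T y * T x) = (d' * c * d⁻¹) • (T x * T y) := by
    rw [ed', ed, mul_smul_comm, e, smul_smul, smul_smul]
    congr 1
    field_simp
  have hyx : T y * T x * A = (ν * μ) • (A * (T y * T x)) := by
    rw [mul_assoc, eμ, mul_smul_comm, ← mul_assoc, eν, smul_mul_assoc, smul_smul, mul_assoc,
      mul_comm μ]
  have hxy : T x * T y * A = (ν * μ) • (A * (T x * T y)) := by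
    rw [mul_assoc, eν, mul_smul_comm, ← mul_assoc, eμ, smul_mul_assoc, smul_smul, mul_assoc]
  have hu := (hT.isUnit y).mul (hT.isUnit x)
  refine hu.mul_right_cancel ?_
  have h1 : T ⁅x, y⁆ * (T y * T x) * A = (ν * μ) • (A * (T ⁅x, y⁆ * (T y * T x))) := by
    rw [key, smul_mul_assoc, hxy, mul_smul_comm, smul_smul, smul_smul, mul_comm]
  rw [mul_assoc, hyx, mul_smul_comm] at h1
  have hne : ν * μ ≠ 0 := mul_ne_zero hν hμ
  have h2 := smul_right_injective (Module.End k V) hne h1
  rw [mul_assoc, mul_assoc]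
  exact h2

theorem Good.commute (hT : IsProj T) {g : G} {n : ℕ} (hg : Good g n) {A : Module.End k V}
    (hA : IsLift T g A) {z : G} (hz : z * g = g * z) : Commute (T z) A := by
  obtain ⟨i, s, rfl, H, hH, hs, hc⟩ := hg.cent z hz
  obtain ⟨c, hc0, e⟩ := hT.map_mul (g ^ i) s
  obtain ⟨a, ha, e'⟩ := (hA.pow hT i).eq_smul (IsLift.refl (T := T) (g ^ i))
  rw [e, e']
  exact ((((Commute.refl A).pow_left i).smul_left a).mul_left
    (commute_of_perfect hT hA hH hc hs)).smul_left c

/-- The defining property of the canonical lift. -/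
def IsCanon (T : G → Module.End k V) (g : G) (n : ℕ) (A : Module.End k V) : Prop :=
  IsLift T g A ∧ A ^ n = 1 ∧ ∀ h, h * g = g⁻¹ * h → T h * A = A ^ (n - 1) * T h

theorem exists_canon [IsAlgClosed k] [Nontrivial V] (hT : IsProj T) {g : G} {n : ℕ}
    (hg : Good g n) : ∃ A, IsCanon T g n A := by
  have hn : 0 < n := hg.odd.pos
  obtain ⟨B, hB, hBn⟩ := exists_lift_pow hT hn hg.pow_eq
  obtain ⟨h₀, hh₀⟩ := hg.inverted
  have hgi : g ^ (n - 1) = g⁻¹ := eq_inv_of_mul_eq_one_left (by
    rw [← pow_succ, Nat.sub_add_cancel hn, hg.pow_eq])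
  obtain ⟨μ, hμ0, hμ⟩ := hT.lift_comm hh₀ hB (hgi ▸ hB.pow hT (n - 1))
  have hB' : B ^ (n - 1) * B = 1 := by rw [← pow_succ, Nat.sub_add_cancel hn, hBn]
  have hB'n : (B ^ (n - 1)) ^ n = 1 := by rw [← pow_mul, mul_comm, pow_mul, hBn, one_pow]
  -- `μ` is an `n`-th root of unity
  have hpow : ∀ j : ℕ, T h₀ * B ^ j = μ ^ j • ((B ^ (n - 1)) ^ j * T h₀) := by
    intro j
    induction j with
    | zero => simp
    | succ j ih =>
      rw [pow_succ, ← mul_assoc, ih, smul_mul_assoc, mul_assoc, hμ, mul_smul_comm, smul_smul,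
        ← mul_assoc, pow_succ (B ^ (n - 1)) j, ← pow_succ μ]
  have hμn : μ ^ n = 1 := by
    have := hpow n
    rw [hBn, mul_one, hB'n, one_mul] at this
    exact smul_eq_one_of_unit (hT.isUnit h₀) this.symm
  set ν := μ ^ ((n - 1) / 2) with hν
  have hνn : ν ^ n = 1 := by rw [hν, ← pow_mul, mul_comm, pow_mul, hμn, one_pow]
  have hν0 : ν ≠ 0 := pow_ne_zero _ hμ0
  refine ⟨ν • B, hB.smul hν0, by rw [smul_pow, hBn, hνn, one_smul], fun h hh => ?_⟩
  have hz : (h₀⁻¹ * h) * g = g * (h₀⁻¹ * h) := by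
    have e1 : h₀⁻¹ * g⁻¹ = g * h₀⁻¹ := by
      rw [inv_mul_eq_iff_eq_mul, ← mul_assoc, hh₀]; group
    rw [mul_assoc, hh, ← mul_assoc, e1, mul_assoc]
  have h0 : T h₀ * (ν • B) = (ν • B) ^ (n - 1) * T h₀ := by
    have hνν : ν * μ = ν ^ (n - 1) := by
      obtain ⟨m, rfl⟩ := hg.odd
      have hm : (2 * m + 1 - 1) / 2 = m := by omega
      have hm' : 2 * m + 1 - 1 = 2 * m := by omega
      rw [hν, hm, hm', ← pow_succ, ← pow_mul]
      have h2 : μ ^ (m * (2 * m)) * μ ^ m = 1 := by
        rw [← pow_add, show m * (2 * m) + m = (2 * m + 1) * m by ring, pow_mul, hμn, one_pow]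
      refine mul_right_cancel₀ (pow_ne_zero m hμ0) ?_
      rw [h2, ← pow_add, show m + 1 + m = 2 * m + 1 by ring, hμn]
    rw [mul_smul_comm, hμ, smul_smul, smul_pow, hνν, smul_mul_assoc]
  obtain ⟨c, -, e⟩ := hT.map_mul h₀ (h₀⁻¹ * h)
  rw [mul_inv_cancel_left] at e
  rw [e, smul_mul_assoc, mul_assoc, (hg.commute hT (hB.smul hν0) hz).eq, ← mul_assoc, h0,
    mul_smul_comm, mul_assoc]

theorem IsCanon.unique [Nontrivial V] (hT : IsProj T) {g : G} {n : ℕ} (hg : Good g n)
    {A B : Module.End k V} (hA : IsCanon T g n A) (hB : IsCanon T g n B) : A = B := by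
  obtain ⟨c, hc0, rfl⟩ := hA.1.eq_smul hB.1
  obtain ⟨h, hh⟩ := hg.inverted
  have e1 := hB.2.2 h hh
  rw [mul_smul_comm, hA.2.2 h hh, smul_pow, smul_mul_assoc] at e1
  have hu : IsUnit (A ^ (n - 1) * T h) := ((hA.1.isUnit hT).pow _).mul (hT.isUnit h)
  have hcn : c ^ n = 1 := by
    have := hB.2.1
    rw [smul_pow, hA.2.1] at this
    exact scalar_eq_one this
  have hn : 0 < n := hg.odd.pos
  have e2 : c = c ^ (n - 1) := by
    obtain ⟨D, hD⟩ := hu.exists_right_inv
    have e3 := congrArg (fun X => X * D) e1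
    simp only [smul_mul_assoc, hD] at e3
    exact smul_left_injective k (one_ne_zero (α := Module.End k V)) e3
  have hc2 : c * c = 1 := by
    conv_lhs => arg 1; rw [e2]
    rw [← pow_succ, Nat.sub_add_cancel hn, hcn]
  obtain ⟨m, rfl⟩ := hg.odd
  rw [pow_succ, pow_mul, sq, hc2, one_pow, one_mul] at hcn
  rw [hcn, one_smul]

open Classical in
/-- The canonical lift (`1` if there is none). -/
noncomputable def canon (T : G → Module.End k V) (g : G) (n : ℕ) : Module.End k V :=
  if h : ∃ A, IsCanon T g n A then h.choose else 1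

theorem canon_spec [IsAlgClosed k] [Nontrivial V] (hT : IsProj T) {g : G} {n : ℕ} (hg : Good g n) :
    IsCanon T g n (canon T g n) := by
  rw [canon, dif_pos (exists_canon hT hg)]
  exact (exists_canon hT hg).choose_spec

theorem canon_eq [IsAlgClosed k] [Nontrivial V] (hT : IsProj T) {g : G} {n : ℕ} (hg : Good g n)
    {A : Module.End k V} (hA : IsCanon T g n A) : canon T g n = A :=
  (canon_spec hT hg).unique hT hg hA

/-- Equivariance of canonical lifts. -/
theorem canon_conj [IsAlgClosed k] [Nontrivial V] (hT : IsProj T) {g g' x : G} {n : ℕ}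
    (hg : Good g n) (hg' : Good g' n) (e : x * g = g' * x) :
    T x * canon T g n = canon T g' n * T x := by
  obtain ⟨hA, hAn, hAinv⟩ := canon_spec (T := T) hT hg
  obtain ⟨u, hu⟩ := hT.isUnit x
  set A := canon T g n
  have hlift : IsLift T g' (↑u * A * ↑u⁻¹) := by
    obtain ⟨c, hc, ec⟩ := (e ▸ (IsLift.refl (T := T) x).mul hT hA).eq_smul
      ((IsLift.refl (T := T) g').mul hT (IsLift.refl x))
    refine ⟨c⁻¹, inv_ne_zero hc, ?_⟩
    rw [hu, show T g' = (T g' * T x) * ↑u⁻¹ by rw [← hu, mul_assoc, Units.mul_inv, mul_one], ec,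
      smul_mul_assoc, smul_smul, inv_mul_cancel₀ hc, one_smul]
  have hconj : ∀ j : ℕ, (↑u * A * ↑u⁻¹ : Module.End k V) ^ j = ↑u * A ^ j * ↑u⁻¹ := by
    intro j
    induction j with
    | zero => simp
    | succ j ih =>
      rw [pow_succ, ih, pow_succ]
      simp only [mul_assoc, Units.inv_mul_cancel_left]
  have hcan : IsCanon T g' n (↑u * A * ↑u⁻¹) := by
    refine ⟨hlift, by rw [hconj, hAn, mul_one, Units.mul_inv], fun h hh => ?_⟩
    have hg'e : g' = x * g * x⁻¹ := by rw [e, mul_inv_cancel_right]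
    have hh' : (x⁻¹ * h * x) * g = g⁻¹ * (x⁻¹ * h * x) :=
      calc (x⁻¹ * h * x) * g = x⁻¹ * (h * g') * x := by rw [mul_assoc, e]; group
        _ = x⁻¹ * (g'⁻¹ * h) * x := by rw [hh]
        _ = _ := by rw [hg'e]; group
    obtain ⟨c, -, ec⟩ := (((IsLift.refl (T := T) x).mul hT (IsLift.refl (x⁻¹ * h * x)))).eq_smul
      (show IsLift T (x * (x⁻¹ * h * x)) (T h * T x) from
        (show h * x = x * (x⁻¹ * h * x) by group) ▸ (IsLift.refl h).mul hT (IsLift.refl x))
    have key := hAinv _ hh'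
    rw [hconj]
    calc T h * (↑u * A * ↑u⁻¹) = (T h * T x) * A * ↑u⁻¹ := by rw [← hu]; simp only [mul_assoc]
      _ = c • (T x * A ^ (n - 1) * T (x⁻¹ * h * x) * ↑u⁻¹) := by
        rw [ec, smul_mul_assoc, smul_mul_assoc, mul_assoc (T x), key]; simp only [mul_assoc]
      _ = ↑u * A ^ (n - 1) * ↑u⁻¹ * (c • (T x * T (x⁻¹ * h * x))) * ↑u⁻¹ := by
        rw [← hu]; simp only [mul_smul_comm, smul_mul_assoc, mul_assoc, Units.inv_mul_cancel_left]
      _ = _ := by rw [← ec, ← hu]; simp only [mul_assoc, Units.mul_inv, mul_one]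
  rw [canon_eq hT hg' hcan, ← hu]
  simp only [mul_assoc, Units.inv_mul, mul_one]

end CfsgLib.AltDegree
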