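import Mathlib

/-!
# Eigenspaces of operators of finite order prime to the characteristic
-/

set_option autoImplicit false
set_option linter.unusedSectionVars false

namespace CfsgLib.AltDegree

variable {k : Type*} [Field k] {V : Type*} [AddCommGroup V] [Module k V]

theorem finrank_biSup [FiniteDimensional k V] {ι : Type*} [DecidableEq ι]
    {p : ι → Submodule k V} (hp : iSupIndep p) (s : Finset ι) :
    Module.finrank k ↥(⨆ i ∈ s, p i) = ∑ i ∈ s, Module.finrank k (p i) := by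
  induction s using Finset.induction with
  | empty => simp
  | insert a s ha ih =>
    have hd : p a ⊓ ⨆ i ∈ s, p i = ⊥ := by
      refine disjoint_iff.1 ((hp a).mono_right ?_)
      exact iSup₂_le fun i hi => le_iSup₂_of_le i (fun e => ha (e ▸ hi)) le_rfl
    have h := Submodule.finrank_sup_add_finrank_inf_eq (p a) (⨆ i ∈ s, p i)
    rw [hd, finrank_bot] at h
    rw [Finset.sum_insert ha, ← ih, Finset.iSup_insert]
    omega

variable {A : Module.End k V} {n : ℕ} {ζ : k} {U : Submodule k V}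

/-- Decomposition of an invariant subspace into eigenvectors. -/
theorem iSup_inf_eigenspace (hn : (n : k) ≠ 0) (hA : A ^ n = 1) (hζ : IsPrimitiveRoot ζ n)
    (hU : ∀ u ∈ U, A u ∈ U) :
    ⨆ i : Fin n, U ⊓ A.eigenspace (ζ ^ (i : ℕ)) = U := by
  refine le_antisymm (iSup_le fun i => inf_le_left) fun u hu => ?_
  have hn0 : 0 < n := Nat.pos_of_ne_zero (by rintro rfl; exact hn Nat.cast_zero)
  have hpow : ∀ j : ℕ, (A ^ j) u ∈ U := by
    intro j
    induction j with
    | zero => simpa using hu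
    | succ j ih => rw [pow_succ', Module.End.mul_apply]; exact hU _ ih
  let c : Fin n → Fin n → k := fun i j => ((ζ ^ (i : ℕ))⁻¹) ^ (j : ℕ)
  let P : Fin n → V := fun i => ∑ j : Fin n, c i j • (A ^ (j : ℕ)) u
  have hzi : ∀ i : ℕ, (ζ ^ i) ≠ 0 := fun i => pow_ne_zero _ (hζ.ne_zero hn0.ne')
  have hP : ∀ i : Fin n, P i ∈ U ⊓ A.eigenspace (ζ ^ (i : ℕ)) := by
    intro i
    refine ⟨Submodule.sum_mem _ fun j _ => U.smul_mem _ (hpow _), ?_⟩
    set x := ζ ^ (i : ℕ) with hx
    have hxn : x⁻¹ ^ n = 1 := by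
      rw [inv_pow, hx, ← pow_mul, mul_comm, pow_mul, hζ.pow_eq_one, one_pow, inv_one]
    let f : ℕ → V := fun j => x⁻¹ ^ j • (A ^ j) u
    have key : ∑ j ∈ Finset.range n, f (j + 1) = ∑ j ∈ Finset.range n, f j := by
      have h1 := Finset.sum_range_succ' f n
      rw [Finset.sum_range_succ] at h1
      have : f n = f 0 := by simp only [f, hxn, hA, pow_zero]
      rw [this] at h1
      exact (add_right_cancel h1).symm
    have hPf : P i = ∑ j ∈ Finset.range n, f j :=
      Fin.sum_univ_eq_sum_range f n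
    rw [SetLike.mem_coe, Module.End.mem_eigenspace_iff, hPf, map_sum, Finset.smul_sum]
    conv_rhs => rw [← Finset.smul_sum, ← key, Finset.smul_sum]
    refine Finset.sum_congr rfl fun j _ => ?_
    simp only [f]
    rw [map_smul, smul_smul, pow_succ', mul_inv_cancel_left₀ (hx ▸ hzi _),
      pow_succ', Module.End.mul_apply]
  have hsum : ∑ i, P i = (n : k) • u := by
    rw [Finset.sum_comm]
    rw [Finset.sum_eq_single ⟨0, hn0⟩]
    · simp [c, Nat.cast_smul_eq_nsmul]
    · intro j _ hj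
      have hj0 : (j : ℕ) ≠ 0 := fun h => hj (Fin.ext h)
      have e : ∑ i : Fin n, c i j = 0 := by
        have h1 : (ζ⁻¹) ^ (j : ℕ) ≠ 1 := by
          intro h
          rw [inv_pow, inv_eq_one] at h
          exact hj0 (Nat.eq_zero_of_dvd_of_lt (hζ.dvd_of_pow_eq_one _ h) j.2)
        have h2 : ((ζ⁻¹) ^ (j : ℕ)) ^ n = 1 := by
          rw [← pow_mul, mul_comm, pow_mul, inv_pow, hζ.pow_eq_one, inv_one, one_pow]
        have : ∀ i : Fin n, c i j = ((ζ⁻¹) ^ (j : ℕ)) ^ (i : ℕ) := fun i => by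
          simp only [c, ← inv_pow, ← pow_mul, mul_comm]
        rw [Finset.sum_congr rfl fun i _ => this i,
          Fin.sum_univ_eq_sum_range (fun i => ((ζ⁻¹) ^ (j : ℕ)) ^ i) n, geom_sum_eq h1, h2,
          sub_self, zero_div]
      rw [← Finset.sum_smul, e, zero_smul]
    · simp
  have hmem : (n : k) • u ∈ ⨆ i : Fin n, U ⊓ A.eigenspace (ζ ^ (i : ℕ)) :=
    hsum ▸ Submodule.sum_mem _ fun i _ => Submodule.mem_iSup_of_mem i (hP i)
  simpa [smul_smul, inv_mul_cancel₀ hn] using Submodule.smul_mem _ ((n : k)⁻¹) hmem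

theorem iSupIndep_inf_eigenspace (hζ : IsPrimitiveRoot ζ n) :
    iSupIndep fun i : Fin n => U ⊓ A.eigenspace (ζ ^ (i : ℕ)) :=
  (A.eigenspaces_iSupIndep.comp
    (fun i j h => Fin.ext (hζ.pow_inj i.2 j.2 h) : Function.Injective fun i : Fin n => ζ ^ (i : ℕ))).mono
    fun _ => inf_le_right

theorem finrank_eigen_sum [FiniteDimensional k V] (hn : (n : k) ≠ 0) (hA : A ^ n = 1)
    (hζ : IsPrimitiveRoot ζ n) (hU : ∀ u ∈ U, A u ∈ U) :
    Module.finrank k U = ∑ i : Fin n, Module.finrank k ↥(U ⊓ A.eigenspace (ζ ^ (i : ℕ))) := by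
  have h := finrank_biSup (iSupIndep_inf_eigenspace (U := U) (A := A) hζ) Finset.univ
  rwa [show (⨆ i ∈ (Finset.univ : Finset (Fin n)), U ⊓ A.eigenspace (ζ ^ (i : ℕ))) = U by
    simp only [Finset.mem_univ, iSup_pos]; exact iSup_inf_eigenspace hn hA hζ hU] at h

/-- If only the trivial eigenvalue occurs, the operator is trivial. -/
theorem apply_eq_self_of_eigen (hn : (n : k) ≠ 0) (hA : A ^ n = 1) (hζ : IsPrimitiveRoot ζ n)
    (hU : ∀ u ∈ U, A u ∈ U)
    (h : ∀ i : Fin n, (i : ℕ) ≠ 0 → U ⊓ A.eigenspace (ζ ^ (i : ℕ)) = ⊥) {u : V} (hu : u ∈ U) :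
    A u = u := by
  have hle : ⨆ i : Fin n, U ⊓ A.eigenspace (ζ ^ (i : ℕ)) ≤ A.eigenspace 1 := iSup_le fun i => by
    by_cases hi : (i : ℕ) = 0
    · rw [hi, pow_zero]; exact inf_le_right
    · rw [h i hi]; exact bot_le
  have := Module.End.mem_eigenspace_iff.1 (hle (by rwa [iSup_inf_eigenspace hn hA hζ hU]))
  rwa [one_smul] at this

theorem eigenspace_eq_ker (A : Module.End k V) : A.eigenspace 1 = LinearMap.ker (A - 1) := by
  ext v
  simp [Module.End.mem_eigenspace_iff, sub_eq_zero]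

/-- Splitting an invariant subspace under an involution. -/
theorem finrank_split2 [FiniteDimensional k V] (h2 : (2 : k) ≠ 0) (hA : A ^ 2 = 1)
    (hU : ∀ u ∈ U, A u ∈ U) :
    Module.finrank k U = Module.finrank k ↥(U ⊓ A.eigenspace 1) +
      Module.finrank k ↥(U ⊓ A.eigenspace (-1)) := by
  have hne : (-1 : k) ≠ 1 := fun h => h2 (by linear_combination -h)
  have hζ : IsPrimitiveRoot (-1 : k) 2 := by
    refine IsPrimitiveRoot.mk_of_lt _ two_pos neg_one_sq fun l hl hl2 => ?_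
    interval_cases l
    simpa using hne
  rw [finrank_eigen_sum (n := 2) (by simpa using h2) hA hζ hU, Fin.sum_univ_two]
  rw [Fin.val_zero, Fin.val_one, pow_zero, pow_one]
  all_goals rfl

/-- Splitting an invariant subspace under an element of order three. -/
theorem finrank_split3 [FiniteDimensional k V] (h3 : (3 : k) ≠ 0) (hA : A ^ 3 = 1) {ω : k}
    (hω : IsPrimitiveRoot ω 3) (hU : ∀ u ∈ U, A u ∈ U) :
    Module.finrank k U = Module.finrank k ↥(U ⊓ A.eigenspace 1) +
      Module.finrank k ↥(U ⊓ A.eigenspace ω) + Module.finrank k ↥(U ⊓ A.eigenspace (ω ^ 2)) := by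
  rw [finrank_eigen_sum (n := 3) (by simpa using h3) hA hω hU, Fin.sum_univ_three]
  rw [Fin.val_zero, Fin.val_one, pow_zero, pow_one]
  all_goals rfl

theorem exists_isPrimitiveRoot [IsAlgClosed k] (n : ℕ) (hn : (n : k) ≠ 0) :
    ∃ ζ : k, IsPrimitiveRoot ζ n := by
  haveI : NeZero (n : k) := ⟨hn⟩
  haveI : NeZero n := ⟨by rintro rfl; exact hn Nat.cast_zero⟩
  obtain ⟨ζ, hζ⟩ := IsAlgClosed.exists_root (Polynomial.cyclotomic n k)
    (ne_of_gt (Polynomial.degree_cyclotomic_pos n k (Nat.pos_of_ne_zero (NeZero.ne n))))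
  exact ⟨ζ, Polynomial.isRoot_cyclotomic_iff.1 hζ⟩

end CfsgLib.AltDegree
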