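import Cfsg.Agent.Lib.AltDegree.Proj
import Cfsg.Agent.Lib.AltDegree.Eigen

/-!
# Projective representations of the alternating group on eight points in odd characteristic

Such a representation that is not scalar has degree at least seven: lifts of a regular elementary
abelian group of order eight commute, and an element of order seven permutes their weights.
-/

set_option autoImplicit false
set_option linter.unusedSectionVars false
set_option linter.style.haveILetI false

namespace CfsgLib.AltDegree

open Equiv Equiv.Perm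

/-- A translation. -/
def eightX1 : alternatingGroup (Fin 8) :=
  ⟨swap 0 1 * swap 2 3 * swap 4 5 * swap 6 7, by
    simp [mem_alternatingGroup, Perm.sign_swap]⟩

/-- A translation. -/
def eightX2 : alternatingGroup (Fin 8) :=
  ⟨swap 0 2 * swap 1 3 * swap 4 6 * swap 5 7, by
    simp [mem_alternatingGroup, Perm.sign_swap]⟩

/-- A translation. -/
def eightX3 : alternatingGroup (Fin 8) :=
  ⟨swap 0 4 * swap 1 5 * swap 2 6 * swap 3 7, by
    simp [mem_alternatingGroup, Perm.sign_swap]⟩

/-- An element of order seven normalising the translations. -/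
def eightG : alternatingGroup (Fin 8) :=
  ⟨swap 1 2 * swap 2 4 * swap 4 3 * swap 3 6 * swap 6 7 * swap 7 5, by
    simp [mem_alternatingGroup, Perm.sign_swap]⟩

theorem eight_rel :
    eightG * eightX1 = eightX2 * eightG ∧ eightG * eightX2 = eightX3 * eightG ∧
      eightG * eightX3 = (eightX1 * eightX2) * eightG ∧ eightX1 * eightX2 = eightX2 * eightX1 ∧
      eightX3 * eightX1 = eightX1 * eightX3 ∧ eightX1 ^ 2 = 1 ∧ eightX1 ≠ 1 := by
  decide

variable {k : Type*} [Field k] [IsAlgClosed k] {V : Type*} [AddCommGroup V] [Module k V]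
  [FiniteDimensional k V]

set_option maxHeartbeats 1600000 in
theorem seven_le_finrank (h2 : (2 : k) ≠ 0) {T : alternatingGroup (Fin 8) → Module.End k V}
    (hT : IsProj T) (hns : ¬ AllScalar T) : 7 ≤ Module.finrank k V := by
  rcases subsingleton_or_nontrivial V with hV | hV
  · exact absurd (fun g => ⟨1, LinearMap.ext fun v => Subsingleton.elim _ _⟩) hns
  haveI : IsSimpleGroup (alternatingGroup (Fin 8)) := alternatingGroup.isSimpleGroup (by simp)
  obtain ⟨r1, r2, r3, r12, r31, hsq, hne⟩ := eight_rel
  obtain ⟨X₁, hL1, hX1⟩ := exists_lift_pow hT two_pos hsq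
  obtain ⟨u, hu⟩ := hT.isUnit eightG
  -- conjugating lifts
  have conjLift : ∀ {x y : alternatingGroup (Fin 8)} {X : Module.End k V}, eightG * x = y * eightG →
      IsLift T x X → IsLift T y (↑u * X * ↑u⁻¹) := by
    intro x y X e hX
    obtain ⟨c, hc, ec⟩ := (e ▸ (IsLift.refl (T := T) eightG).mul hT hX).eq_smul
      ((IsLift.refl (T := T) y).mul hT (IsLift.refl eightG))
    refine ⟨c⁻¹, inv_ne_zero hc, ?_⟩
    rw [hu, show T y = (T y * T eightG) * ↑u⁻¹ by rw [← hu, mul_assoc, Units.mul_inv, mul_one], ec,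
      smul_mul_assoc, smul_smul, inv_mul_cancel₀ hc, one_smul]
  set X₂ : Module.End k V := ↑u * X₁ * ↑u⁻¹ with hX2def
  set X₃ : Module.End k V := ↑u * X₂ * ↑u⁻¹ with hX3def
  set X₄ : Module.End k V := ↑u * X₃ * ↑u⁻¹ with hX4def
  have hL2 : IsLift T eightX2 X₂ := conjLift r1 hL1
  have hL3 : IsLift T eightX3 X₃ := conjLift r2 hL2
  have hL4 : IsLift T (eightX1 * eightX2) X₄ := conjLift r3 hL3
  have conjMul : ∀ a b : Module.End k V,
      (↑u * a * ↑u⁻¹) * (↑u * b * ↑u⁻¹) = ↑u * (a * b) * ↑u⁻¹ := by
    intro a b; simp only [mul_assoc, Units.inv_mul_cancel_left]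
  have hX2 : X₂ ^ 2 = 1 := by
    rw [pow_two, conjMul, ← pow_two, hX1, mul_one, Units.mul_inv]
  have hX3 : X₃ ^ 2 = 1 := by
    rw [pow_two, conjMul, ← pow_two, hX2, mul_one, Units.mul_inv]
  have hX4 : X₄ ^ 2 = 1 := by
    rw [pow_two, conjMul, ← pow_two, hX3, mul_one, Units.mul_inv]
  obtain ⟨c, hc0, hc⟩ := (hL1.mul hT hL2).eq_smul hL4
  obtain ⟨l, hl0, hl⟩ := (r12 ▸ hL2.mul hT hL1).eq_smul (hL1.mul hT hL2)
  obtain ⟨m, hm0, hm⟩ := (r31 ▸ hL1.mul hT hL3).eq_smul (hL3.mul hT hL1)
  have hne0 : ∀ {A : Module.End k V}, IsUnit A → A ≠ 0 := fun hA h => not_isUnit_zero (h ▸ hA)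
  have hu1 := hL1.isUnit hT
  have hu2 := hL2.isUnit hT
  have hu3 := hL3.isUnit hT
  have hll : l * l = 1 := by
    have h1 : X₁ * (X₁ * X₂) = (l * l) • X₂ := by
      rw [hl, mul_smul_comm, ← mul_assoc, hl, smul_mul_assoc, mul_assoc, ← pow_two, hX1, mul_one,
        smul_smul]
    rw [← mul_assoc, ← pow_two, hX1, one_mul] at h1
    exact smul_left_injective k (hne0 hu2) (h1.symm.trans (one_smul k X₂).symm)
  -- conjugate relations
  have hl23 : X₂ * X₃ = l • (X₃ * X₂) := by
    have h := congrArg (fun A : Module.End k V => ↑u * A * (↑u⁻¹ : Module.End k V)) hl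
    simp only [mul_smul_comm, smul_mul_assoc, ← conjMul] at h
    exact h
  have hl34 : X₃ * X₄ = l • (X₄ * X₃) := by
    have h := congrArg (fun A : Module.End k V => ↑u * A * (↑u⁻¹ : Module.End k V)) hl23
    simp only [mul_smul_comm, smul_mul_assoc, ← conjMul] at h
    exact h
  have hm1 : m = 1 := by
    rw [hc, mul_smul_comm, smul_mul_assoc, smul_comm] at hl34
    have h1 : X₃ * (X₁ * X₂) = l • (X₁ * X₂ * X₃) := smul_right_injective _ hc0 hl34
    have h32 : X₃ * X₂ = l • (X₂ * X₃) := by rw [hl23, smul_smul, hll, one_smul]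
    rw [← mul_assoc, hm, smul_mul_assoc, mul_assoc, h32, mul_smul_comm, ← mul_assoc, smul_smul] at h1
    have h2 := smul_left_injective k (hne0 ((hu1.mul hu2).mul hu3)) h1
    exact mul_right_cancel₀ hl0 (h2.trans (one_mul l).symm)
  rw [hm1, one_smul] at hm
  have hcomm : X₁ * X₂ = X₂ * X₁ := by
    have h1 : X₄ * X₂ = X₂ * X₄ := by
      have h := congrArg (fun A : Module.End k V => ↑u * A * (↑u⁻¹ : Module.End k V)) hm
      simp only [← conjMul] at h
      exact h
    rw [hc, smul_mul_assoc, mul_smul_comm] at h1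
    have h2 := smul_right_injective _ hc0 h1
    rw [mul_assoc, ← pow_two, hX2, mul_one, ← mul_assoc] at h2
    conv_lhs => rw [h2, mul_assoc, ← pow_two, hX2, mul_one]
  have hc23 : X₂ * X₃ = X₃ * X₂ := by
    have hl1 : l = 1 := smul_left_injective k (hne0 (hu2.mul hu1))
      ((hl.symm.trans hcomm).trans (one_smul k (X₂ * X₁)).symm)
    rw [hl23, hl1, one_smul]
  have hcc : c * c = 1 := by
    rw [hc, smul_pow, (show Commute X₁ X₂ from hcomm).mul_pow, hX1, hX2, one_mul] at hX4
    rw [← pow_two]; exact scalar_eq_one hX4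
  -- the weights
  let s : Bool → k := fun b => if b then -1 else 1
  have hss : ∀ b, s b * s b = 1 := fun b => by cases b <;> simp [s]
  let E : Bool → Bool → Bool → Submodule k V := fun a b d =>
    (⊤ ⊓ X₁.eigenspace (s a) ⊓ X₂.eigenspace (s b)) ⊓ X₃.eigenspace (s d)
  have memE : ∀ a b d v, v ∈ E a b d ↔ X₁ v = s a • v ∧ X₂ v = s b • v ∧ X₃ v = s d • v := by
    intro a b d v
    simp only [E, Submodule.mem_inf, Submodule.mem_top, true_and, Module.End.mem_eigenspace_iff,
      and_assoc]
  obtain ⟨γ, hγ⟩ : ∃ γ, c = s γ := by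
    rcases mul_self_eq_one_iff.1 hcc with h | h
    · exact ⟨false, by simpa [s] using h⟩
    · exact ⟨true, by simpa [s] using h⟩
  let ε : Bool → Bool → Bool → ℕ := fun a b d => Module.finrank k (E a b d)
  have hle : ∀ a b d, ε a b d ≤ ε (xor γ (xor a d)) a b := by
    intro a b d
    show Module.finrank k (E a b d) ≤ Module.finrank k (E (xor γ (xor a d)) a b)
    have hinj : Function.Injective (↑u : Module.End k V) :=
      ((Module.End.isUnit_iff _).1 u.isUnit).1
    rw [((E a b d).equivMapOfInjective _ hinj).finrank_eq]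
    refine Submodule.finrank_mono ?_
    rintro _ ⟨v, hv, rfl⟩
    obtain ⟨h1, h2', h3⟩ := (memE a b d v).1 hv
    have cu : ∀ A : Module.End k V, (↑u * A * ↑u⁻¹) ((↑u : Module.End k V) v) =
        (↑u : Module.End k V) (A v) := fun A => by
      rw [← Module.End.mul_apply, mul_assoc, Units.inv_mul, mul_one, Module.End.mul_apply]
    refine (memE _ _ _ _).2 ⟨?_, by rw [hX2def, cu, h1, map_smul],
      by rw [hX3def, cu, h2', map_smul]⟩
    have h4 : X₄ ((↑u : Module.End k V) v) = s d • (↑u : Module.End k V) v := by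
      rw [hX4def, cu, h3, map_smul]
    have h5 : X₂ ((↑u : Module.End k V) v) = s a • (↑u : Module.End k V) v := by
      rw [hX2def, cu, h1, map_smul]
    rw [hc, LinearMap.smul_apply, Module.End.mul_apply, h5, map_smul, smul_smul] at h4
    have h6 := congrArg (fun w => (c * s a) • w) h4
    simp only [smul_smul] at h6
    rw [show c * s a * (c * s a) = 1 by linear_combination (s a * s a) * hcc + hss a, one_smul] at h6
    rw [h6, hγ]
    congr 1
    cases γ <;> cases a <;> cases d <;> simp [s]
  have inv1 : ∀ {A B : Module.End k V}, A * B = B * A → ∀ μ, ∀ x ∈ B.eigenspace μ,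
      A x ∈ B.eigenspace μ := by
    intro A B h μ x hx
    rw [Module.End.mem_eigenspace_iff] at hx ⊢
    rw [← Module.End.mul_apply, ← h, Module.End.mul_apply, hx, map_smul]
  have hsum : Module.finrank k V = ε false false false + ε false false true + ε false true false +
      ε false true true + ε true false false + ε true false true + ε true true false +
      ε true true true := by
    have p1 : Module.finrank k ↥(⊤ : Submodule k V) =
        Module.finrank k ↥(⊤ ⊓ X₁.eigenspace (s false)) +
          Module.finrank k ↥(⊤ ⊓ X₁.eigenspace (s true)) :=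
      finrank_split2 (A := X₁) (U := (⊤ : Submodule k V)) h2 hX1 (fun _ _ => trivial)
    have p2 : ∀ a, Module.finrank k ↥(⊤ ⊓ X₁.eigenspace (s a)) =
        Module.finrank k ↥(⊤ ⊓ X₁.eigenspace (s a) ⊓ X₂.eigenspace (s false)) +
          Module.finrank k ↥(⊤ ⊓ X₁.eigenspace (s a) ⊓ X₂.eigenspace (s true)) := fun a =>
      finrank_split2 h2 hX2 fun x hx => ⟨trivial, inv1 hcomm.symm _ x hx.2⟩
    have p3 : ∀ a b, Module.finrank k ↥(⊤ ⊓ X₁.eigenspace (s a) ⊓ X₂.eigenspace (s b)) =
        ε a b false + ε a b true :=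
      fun a b => finrank_split2 h2 hX3 fun x hx =>
        ⟨⟨trivial, inv1 hm _ x hx.1.2⟩, inv1 hc23.symm _ x hx.2⟩
    rw [finrank_top] at p1
    have := p2 false; have := p2 true
    have := p3 false false; have := p3 false true; have := p3 true false; have := p3 true true
    omega
  by_contra hlt
  have l1 := hle false false false; have l2 := hle false false true; have l3 := hle false true false
  have l4 := hle false true true; have l5 := hle true false false; have l6 := hle true false true
  have l7 := hle true true false; have l8 := hle true true true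
  have hall : ∃ a b d, E a b d = ⊤ := by
    cases γ
    · refine ⟨false, false, false, Submodule.eq_top_of_finrank_eq ?_⟩
      show ε false false false = _
      simp only [Bool.false_xor, Bool.true_xor, Bool.xor_false, Bool.xor_true, Bool.not_false,
        Bool.not_true, Bool.not_not] at l1 l2 l3 l4 l5 l6 l7 l8
      omega
    · refine ⟨true, true, true, Submodule.eq_top_of_finrank_eq ?_⟩
      show ε true true true = _
      simp only [Bool.false_xor, Bool.true_xor, Bool.xor_false, Bool.xor_true, Bool.not_false,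
        Bool.not_true, Bool.not_not] at l1 l2 l3 l4 l5 l6 l7 l8
      omega
  obtain ⟨a, b, d, htop⟩ := hall
  obtain ⟨e, he, hX⟩ := hL1
  apply hne
  refine eq_one_of_scalar hT hns (c := e⁻¹ * s a) (LinearMap.ext fun v => ?_)
  have h := ((memE a b d v).1 (htop ▸ Submodule.mem_top)).1
  rw [hX, LinearMap.smul_apply] at h
  rw [LinearMap.smul_apply, Module.End.one_apply, mul_smul, ← h, smul_smul, inv_mul_cancel₀ he,
    one_smul]

end CfsgLib.AltDegree
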