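import Cfsg.Agent.Lib.AltDegree.RankTwo
import Cfsg.Agent.Lib.AltDegree.Eigen

/-!
# The inductive step for projective representations of alternating groups

If the stabilizer of three points has no nonscalar projective representation of degree below `f`,
then either the degree is large or three-cycles have rank two.
-/

set_option autoImplicit false
set_option linter.unusedSectionVars false
set_option linter.style.haveILetI false

namespace CfsgLib.AltDegree

open Equiv Equiv.Perm

universe u v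

/-- Nonscalar projective representations of the alternating group of degree `m` have degree at
least `f`. -/
def Bound (k : Type u) [Field k] (m f : ℕ) : Prop :=
  ∀ (V : Type v) [AddCommGroup V] [Module k V] [FiniteDimensional k V]
    (T : alternatingGroup (Fin m) → Module.End k V), IsProj T → ¬ AllScalar T →
      f ≤ Module.finrank k V

variable {k : Type u} [Field k] {V : Type v} [AddCommGroup V] [Module k V] [FiniteDimensional k V]

theorem Bound.apply {m f : ℕ} (hB : Bound.{u, v} k m f) {Ω : Type*} [Fintype Ω] [DecidableEq Ω]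
    (hm : Fintype.card Ω = m) {T : alternatingGroup Ω → Module.End k V} (hT : IsProj T)
    (hns : ¬ AllScalar T) : f ≤ Module.finrank k V := by
  let e := (Fintype.equivFinOfCardEq hm).symm.altCongrHom
  refine hB V (fun x => T (e x)) (hT.comp e.toMonoidHom) fun h => hns fun g => ?_
  simpa using h (e.symm g)

variable {Ω : Type*} [Fintype Ω] [DecidableEq Ω]

/-- The points other than three given ones. -/
def rest (a b c : Ω) : Finset Ω := {a, b, c}ᶜ

theorem card_rest {a b c : Ω} (h3 : D3 a b c) : (rest a b c).card = Fintype.card Ω - 3 := by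
  rw [rest, Finset.card_compl, Finset.card_insert_of_notMem (by simp [h3.1, h3.2.1]),
    Finset.card_pair h3.2.2]

theorem mem_rest {a b c x : Ω} : x ∈ rest a b c ↔ x ≠ a ∧ x ≠ b ∧ x ≠ c := by simp [rest]

/-- The representation restricted to the stabilizer of three points. -/
def sub3 (T : alternatingGroup Ω → Module.End k V) (a b c : Ω) :
    alternatingGroup (rest a b c) → Module.End k V :=
  fun x => T (alternatingGroup.ofSubtype (rest a b c) x)

variable {T : alternatingGroup Ω → Module.End k V} {a b c : Ω}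

theorem IsProj.sub3 (hT : IsProj T) : IsProj (sub3 T a b c) := hT.comp _

theorem ofSubtype_fix (x : alternatingGroup (rest a b c)) {y : Ω} (hy : y ∉ rest a b c) :
    (alternatingGroup.ofSubtype (rest a b c) x : Perm Ω) y = y := by
  have h : alternatingGroup.ofSubtype (rest a b c) x ∈
      (alternatingGroup.ofSubtype (rest a b c)).range := ⟨x, rfl⟩
  rw [alternatingGroup.mem_range_ofSubtype_iff] at h
  exact Perm.notMem_support.1 fun hm => hy (h hm)

theorem exists_ofSubtype (h : alternatingGroup Ω) (ha : (h : Perm Ω) a = a)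
    (hb : (h : Perm Ω) b = b) (hc : (h : Perm Ω) c = c) :
    ∃ x, alternatingGroup.ofSubtype (rest a b c) x = h := by
  suffices hm : h ∈ (alternatingGroup.ofSubtype (rest a b c)).range by
    obtain ⟨x, hx⟩ := hm
    exact ⟨x, hx⟩
  rw [alternatingGroup.mem_range_ofSubtype_iff]
  intro y hy
  rw [Perm.mem_support] at hy
  rw [mem_rest]
  exact ⟨fun e => hy (e ▸ ha), fun e => hy (e ▸ hb), fun e => hy (e ▸ hc)⟩

section Setting

variable [IsAlgClosed k] [Nontrivial V]

theorem sub3_commute (hT : IsProj T) (hr : 8 ≤ Fintype.card Ω) (h3 : D3 a b c)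
    (x : alternatingGroup (rest a b c)) :
    Commute (sub3 T a b c x) (canon T (cyc a b c) 3) := by
  refine (good_cyc h3.1 h3.2.1 h3.2.2 hr).commute hT
    (canon_spec hT (good_cyc h3.1 h3.2.1 h3.2.2 hr)).1 ?_
  rw [cyc_conj _ h3.1 h3.2.2, ofSubtype_fix x (by simp [rest]), ofSubtype_fix x (by simp [rest]),
    ofSubtype_fix x (by simp [rest])]

theorem sub3_nonscalar (hT : IsProj T) (hns : ¬ AllScalar T) (hr : 9 ≤ Fintype.card Ω)
    (h3 : D3 a b c) : ¬ AllScalar (sub3 T a b c) := by
  intro h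
  haveI : IsSimpleGroup (alternatingGroup Ω) :=
    alternatingGroup.isSimpleGroup (by rw [Nat.card_eq_fintype_card]; omega)
  obtain ⟨d, hd⟩ := exists_fresh [a, b, c] (by simp; omega)
  simp only [List.mem_cons, List.not_mem_nil, or_false, forall_eq_or_imp, forall_eq] at hd
  obtain ⟨e, he⟩ := exists_fresh [a, b, c, d] (by simp; omega)
  simp only [List.mem_cons, List.not_mem_nil, or_false, forall_eq_or_imp, forall_eq] at he
  obtain ⟨f, hf⟩ := exists_fresh [a, b, c, d, e] (by simp; omega)
  simp only [List.mem_cons, List.not_mem_nil, or_false, forall_eq_or_imp, forall_eq] at hf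
  have fx : ∀ z, d ≠ z → e ≠ z → f ≠ z → (cyc d e f : Perm Ω) z = z := fun z h1 h2 h3' =>
    cyc_apply_of_notMem he.2.2.2.symm hf.2.2.2.2.symm h1.symm h2.symm h3'.symm
  obtain ⟨x, hx⟩ := exists_ofSubtype (cyc d e f) (fx a hd.1 he.1 hf.1)
    (fx b hd.2.1 he.2.1 hf.2.1) (fx c hd.2.2 he.2.2.1 hf.2.2.1)
  obtain ⟨μ, hμ⟩ := h x
  rw [sub3, hx] at hμ
  have h1 := cyc_apply_left he.2.2.2.symm hf.2.2.2.1.symm hf.2.2.2.2.symm
  rw [eq_one_of_scalar hT hns hμ] at h1
  exact he.2.2.2 h1.symm

theorem canon_ne_one (hT : IsProj T) (hns : ¬ AllScalar T) (hr : 9 ≤ Fintype.card Ω)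
    (h3 : D3 a b c) : canon T (cyc a b c) 3 ≠ 1 := by
  intro h
  haveI : IsSimpleGroup (alternatingGroup Ω) :=
    alternatingGroup.isSimpleGroup (by rw [Nat.card_eq_fintype_card]; omega)
  obtain ⟨e, he, hA⟩ := (canon_spec hT (good_cyc h3.1 h3.2.1 h3.2.2 (by omega))).1
  have h1 := cyc_apply_left h3.1 h3.2.1 h3.2.2
  rw [eq_one_of_scalar hT hns (g := cyc a b c) (c := e⁻¹)
    (by rw [← h, hA, smul_smul, inv_mul_cancel₀ he, one_smul])] at h1
  exact h3.1 h1

theorem exists_inverting (hr : 9 ≤ Fintype.card Ω) (h3 : D3 a b c) :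
    ∃ h : alternatingGroup Ω,
      (h : Perm Ω) a = b ∧ (h : Perm Ω) b = a ∧ (h : Perm Ω) c = c := by
  obtain ⟨d, hd⟩ := exists_fresh [a, b, c] (by simp; omega)
  simp only [List.mem_cons, List.not_mem_nil, or_false, forall_eq_or_imp, forall_eq] at hd
  obtain ⟨e, he⟩ := exists_fresh [a, b, c, d] (by simp; omega)
  simp only [List.mem_cons, List.not_mem_nil, or_false, forall_eq_or_imp, forall_eq] at he
  refine ⟨⟨swap a b * swap d e, by
    simp [mem_alternatingGroup, Perm.sign_swap h3.1, Perm.sign_swap he.2.2.2.symm]⟩, ?_, ?_, ?_⟩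
  · show (swap a b * swap d e) a = b
    rw [Perm.mul_apply, swap_apply_of_ne_of_ne hd.1.symm he.1.symm, swap_apply_left]
  · show (swap a b * swap d e) b = a
    rw [Perm.mul_apply, swap_apply_of_ne_of_ne hd.2.1.symm he.2.1.symm, swap_apply_right]
  · show (swap a b * swap d e) c = c
    rw [Perm.mul_apply, swap_apply_of_ne_of_ne hd.2.2.symm he.2.2.1.symm,
      swap_apply_of_ne_of_ne h3.2.1.symm h3.2.2.symm]

end Setting

theorem scalarOn_of_quo {G : Type*} [Group G] {T : G → Module.End k V} (hperf : commutator G = ⊤)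
    (hT : IsProj T) {U W : Submodule k V} (hU : ∀ g, ∀ w ∈ U, T g w ∈ U)
    (hW : ∀ g, ∀ w ∈ W, T g w ∈ W) (h1 : ScalarOn T W)
    (h2 : ∀ g, ∃ μ : k, ∀ v ∈ U, T g v - μ • v ∈ W) : ScalarOn T U := by
  have hW' : ∀ g, ∀ w ∈ W.comap U.subtype, res hU g w ∈ W.comap U.subtype := fun g w hw =>
    hW g _ hw
  rw [scalarOn_iff hU]
  refine allScalar_of_res_quo hW' hperf (hT.res hU) (fun g => ?_) (fun g => ?_)
  · obtain ⟨μ, hμ⟩ := h1 g
    exact ⟨μ, LinearMap.ext fun w => Subtype.ext (Subtype.ext (hμ _ w.2))⟩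
  · obtain ⟨μ, hμ⟩ := h2 g
    refine ⟨μ, LinearMap.ext fun x => ?_⟩
    obtain ⟨v, rfl⟩ := Submodule.Quotient.mk_surjective _ x
    rw [quo_mk, LinearMap.smul_apply, Module.End.one_apply, ← Submodule.Quotient.mk_smul,
      Submodule.Quotient.eq, Submodule.mem_comap]
    simpa using hμ _ v.2

theorem allScalar_of_scalarOn_top {G : Type*} {T : G → Module.End k V} [Group G]
    (h : ScalarOn T ⊤) : AllScalar T := fun g => by
  obtain ⟨μ, hμ⟩ := h g
  exact ⟨μ, LinearMap.ext fun v => hμ v Submodule.mem_top⟩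

theorem sub_le_finrank {m f : ℕ} (hB : Bound.{u, v} k m f) {Ω' : Type*} [Fintype Ω'] [DecidableEq Ω']
    (hm : Fintype.card Ω' = m) {T' : alternatingGroup Ω' → Module.End k V} (hT : IsProj T')
    {U : Submodule k V} (hU : ∀ g, ∀ w ∈ U, T' g w ∈ U) (hns : ¬ ScalarOn T' U) :
    f ≤ Module.finrank k U :=
  hB.apply hm (hT.res hU) fun h => hns ((scalarOn_iff hU).2 h)

section Step

variable [IsAlgClosed k] [Nontrivial V]

/-- The alternatives for one triple. -/
def Step (T : alternatingGroup Ω → Module.End k V) (a b c : Ω) (N : ℕ) : Prop :=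
  N ≤ Module.finrank k V ∨ (5 ≤ Module.finrank k V ∧ Module.finrank k (img T a b c) = 2 ∧
    ScalarOn (sub3 T a b c) (img T a b c))

theorem tgt_le_of_step [DecidableEq k] (hT : IsProj T) (hirr : Irred T) (hr : 9 ≤ Fintype.card Ω)
    (h : ∀ a b c, D3 a b c → Step T a b c (tgt k (Fintype.card Ω))) :
    tgt k (Fintype.card Ω) ≤ Module.finrank k V := by
  by_contra hlt
  have h' : ∀ a b c, D3 a b c → 5 ≤ Module.finrank k V ∧ Module.finrank k (img T a b c) = 2 ∧
      ScalarOn (sub3 T a b c) (img T a b c) := fun a b c h3 => (h a b c h3).resolve_left hlt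
  obtain ⟨a, -⟩ := exists_fresh ([] : List Ω) (by simp; omega)
  obtain ⟨b, hb⟩ := exists_fresh [a] (by simp; omega)
  obtain ⟨c, hc⟩ := exists_fresh [a, b] (by simp; omega)
  simp only [List.mem_cons, List.not_mem_nil, or_false, forall_eq_or_imp, forall_eq] at hb hc
  refine hlt (tgt_le_of_rankTwo hT hirr hr (h' a b c ⟨hb.symm, hc.1.symm, hc.2.symm⟩).1
    (fun a b c h3 => (h' a b c h3).2.1) fun g a b c h3 ha hb hc => ?_)
  obtain ⟨x, rfl⟩ := exists_ofSubtype g ha hb hc
  exact (h' a b c h3).2.2 x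

/-- The step when the characteristic is not three. -/
theorem step_of_ne_three (h3k : (3 : k) ≠ 0) (hT : IsProj T) (hns : ¬ AllScalar T)
    (hr : 9 ≤ Fintype.card Ω) (h3 : D3 a b c) {f N : ℕ}
    (hB : Bound.{u, v} k (Fintype.card Ω - 3) f) (hf : 3 ≤ f) (hN1 : N ≤ 2 * f) (hN2 : N ≤ 4 + f) :
    Step T a b c N := by
  obtain ⟨ω, hω⟩ := exists_isPrimitiveRoot (k := k) 3 (by exact_mod_cast h3k)
  have hg := good_cyc h3.1 h3.2.1 h3.2.2 (by omega : 8 ≤ Fintype.card Ω)
  obtain ⟨-, hA3, hinv⟩ := canon_spec (T := T) hT hg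
  have hcm := sub3_commute hT (by omega) h3
  have hT' := hT.sub3 (a := a) (b := b) (c := c)
  have hcard : Fintype.card (rest a b c) = Fintype.card Ω - 3 := by
    rw [Fintype.card_coe, card_rest h3]
  have hperf : commutator (alternatingGroup (rest a b c)) = ⊤ :=
    commutator_alternatingGroup_eq_top (by rw [Nat.card_eq_fintype_card, hcard]; omega)
  have himg : img T a b c = LinearMap.range (canon T (cyc a b c) 3 - 1) := rfl
  set A := canon T (cyc a b c) 3 with hAdef
  have hEinv : ∀ μ : k, ∀ x, ∀ w ∈ A.eigenspace μ, sub3 T a b c x w ∈ A.eigenspace μ := by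
    intro μ x w hw
    rw [Module.End.mem_eigenspace_iff] at hw ⊢
    rw [← Module.End.mul_apply, ← (hcm x).eq, Module.End.mul_apply, hw, map_smul]
  obtain ⟨h, hha, hhb, hhc⟩ := exists_inverting hr h3
  have hh : h * cyc a b c = (cyc a b c)⁻¹ * h := by
    rw [cyc_conj h h3.1 h3.2.2, hha, hhb, hhc, cyc_swap h3.1 h3.2.1 h3.2.2]
  have hThA : T h * A = A ^ 2 * T h := hinv h hh
  have hmapE : ∀ μ : k, μ ^ 3 = 1 → ∀ w ∈ A.eigenspace μ, T h w ∈ A.eigenspace (μ ^ 2) := by
    intro μ hμ w hw
    rw [Module.End.mem_eigenspace_iff] at hw ⊢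
    have e : (A ^ 2) (T h w) = μ • T h w := by
      have := congrArg (fun X => X w) hThA
      simp only [Module.End.mul_apply, hw, map_smul] at this
      exact this.symm
    calc A (T h w) = (A ^ 2 * A ^ 2) (T h w) := by
          rw [← pow_add, show 2 + 2 = 3 + 1 from rfl, pow_succ, hA3, one_mul]
      _ = μ ^ 2 • T h w := by rw [Module.End.mul_apply, e, map_smul, e, smul_smul, pow_two]
  have hω3 : ω ^ 3 = 1 := hω.pow_eq_one
  have hωω : (ω ^ 2) ^ 2 = ω := by rw [← pow_mul, show 2 * 2 = 3 + 1 from rfl, pow_succ, hω3, one_mul]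
  have hω2 : ω ^ 2 ≠ ω := fun e => hω.ne_one (by norm_num) (by
    have h0 := hω.ne_zero (by norm_num)
    rw [pow_two] at e
    exact mul_right_cancel₀ h0 (e.trans (one_mul ω).symm))
  have hinj : Function.Injective (T h) := T_injective hT h
  have hdd : Module.finrank k (A.eigenspace (ω ^ 2)) = Module.finrank k (A.eigenspace ω) := by
    refine le_antisymm ?_ ?_
    · rw [((A.eigenspace (ω ^ 2)).equivMapOfInjective _ hinj).finrank_eq]
      refine Submodule.finrank_mono ?_
      rintro _ ⟨w, hw, rfl⟩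
      have := hmapE (ω ^ 2) (by rw [← pow_mul, mul_comm, pow_mul, hω3, one_pow]) w hw
      rwa [hωω] at this
    · rw [((A.eigenspace ω).equivMapOfInjective _ hinj).finrank_eq]
      refine Submodule.finrank_mono ?_
      rintro _ ⟨w, hw, rfl⟩
      exact hmapE ω hω3 w hw
  have hsplit := finrank_split3 (A := A) (U := (⊤ : Submodule k V)) h3k hA3 hω (fun _ _ => trivial)
  rw [top_inf_eq, top_inf_eq, top_inf_eq, finrank_top, hdd] at hsplit
  have hdisj : A.eigenspace ω ⊓ A.eigenspace (ω ^ 2) = ⊥ := by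
    rw [Submodule.eq_bot_iff]
    intro w hw
    have h1 := Module.End.mem_eigenspace_iff.1 hw.1
    have h2 := Module.End.mem_eigenspace_iff.1 hw.2
    by_contra hw0
    exact hω2 (smul_left_injective k hw0 (h2.symm.trans h1))
  have hrange : img T a b c = A.eigenspace ω ⊔ A.eigenspace (ω ^ 2) := by
    rw [himg]
    have hle : ∀ μ : k, μ ≠ 1 → A.eigenspace μ ≤ LinearMap.range (A - 1) := by
      intro μ hμ w hw
      refine ⟨(μ - 1)⁻¹ • w, ?_⟩
      rw [map_smul, LinearMap.sub_apply, Module.End.one_apply, Module.End.mem_eigenspace_iff.1 hw,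
        show μ • w - w = (μ - 1) • w by rw [sub_smul, one_smul], smul_smul,
        inv_mul_cancel₀ (sub_ne_zero.2 hμ), one_smul]
    refine (Submodule.eq_of_le_of_finrank_eq (sup_le (hle _ (hω.ne_one (by norm_num)))
      (hle _ ?_)) ?_).symm
    · intro e
      exact hω.ne_one (by norm_num) (by rw [← hωω, e, one_pow])
    · have e1 := LinearMap.finrank_range_add_finrank_ker (A - 1)
      rw [← eigenspace_eq_ker] at e1
      have e2 := Submodule.finrank_sup_add_finrank_inf_eq (A.eigenspace ω) (A.eigenspace (ω ^ 2))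
      rw [hdisj, finrank_bot, hdd] at e2
      omega
  have hd1 : 1 ≤ Module.finrank k (A.eigenspace ω) := by
    by_contra hd
    have h0 : Module.finrank k (A.eigenspace 1) = Module.finrank k V := by omega
    refine canon_ne_one hT hns hr h3 (LinearMap.ext fun w => ?_)
    have hw : w ∈ A.eigenspace 1 := Submodule.eq_top_of_finrank_eq h0 ▸ Submodule.mem_top
    rw [← hAdef, Module.End.one_apply, Module.End.mem_eigenspace_iff.1 hw, one_smul]
  -- case distinction
  by_cases hsc : ScalarOn (sub3 T a b c) (A.eigenspace ω)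
  swap
  · left
    have := sub_le_finrank hB hcard hT' (hEinv ω) hsc
    omega
  have hsc2 : ScalarOn (sub3 T a b c) (A.eigenspace (ω ^ 2)) := by
    intro x
    obtain ⟨y, hy⟩ := exists_ofSubtype (a := a) (b := b) (c := c)
      (h⁻¹ * alternatingGroup.ofSubtype (rest a b c) x * h)
      (by
        show (h : Perm Ω)⁻¹ ((alternatingGroup.ofSubtype (rest a b c) x : Perm Ω)
          ((h : Perm Ω) a)) = a
        rw [hha, ofSubtype_fix x (by simp [rest] : b ∉ rest a b c)]
        exact Perm.inv_eq_iff_eq.2 hha.symm)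
      (by
        show (h : Perm Ω)⁻¹ ((alternatingGroup.ofSubtype (rest a b c) x : Perm Ω)
          ((h : Perm Ω) b)) = b
        rw [hhb, ofSubtype_fix x (by simp [rest] : a ∉ rest a b c)]
        exact Perm.inv_eq_iff_eq.2 hhb.symm)
      (by
        show (h : Perm Ω)⁻¹ ((alternatingGroup.ofSubtype (rest a b c) x : Perm Ω)
          ((h : Perm Ω) c)) = c
        rw [hhc, ofSubtype_fix x (by simp [rest] : c ∉ rest a b c)]
        exact Perm.inv_eq_iff_eq.2 hhc.symm)
    obtain ⟨μ, hμ⟩ := hsc y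
    obtain ⟨e1, he1, ec1⟩ := hT.map_prod (alternatingGroup.ofSubtype (rest a b c) x) h
    obtain ⟨e2, he2, ec2⟩ := hT.map_mul h (alternatingGroup.ofSubtype (rest a b c) y)
    refine ⟨e1 * e2 * μ, fun w hw => ?_⟩
    obtain ⟨w', rfl⟩ := ((Module.End.isUnit_iff _).1 (hT.isUnit h)).2 w
    have hw' : w' ∈ A.eigenspace ω := by
      rw [Module.End.mem_eigenspace_iff] at hw ⊢
      apply hinj
      have e := congrArg (fun X => X (A w')) hThA
      have e' := congrArg (fun X => X w') hThA
      simp only [Module.End.mul_apply] at e'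
      rw [e', pow_two, Module.End.mul_apply, hw, map_smul, hw, smul_smul, map_smul, ← pow_two, hωω]
    have e3 := congrArg (fun X => X w') ec1
    simp only [Module.End.mul_apply, LinearMap.smul_apply] at e3
    rw [sub3, e3, show alternatingGroup.ofSubtype (rest a b c) x * h =
      h * alternatingGroup.ofSubtype (rest a b c) y by rw [hy]; group, ec2, LinearMap.smul_apply,
      Module.End.mul_apply, show T (alternatingGroup.ofSubtype (rest a b c) y) w' = μ • w' from
        hμ w' hw', map_smul, smul_smul, smul_smul]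
  have hscimg : ScalarOn (sub3 T a b c) (img T a b c) :=
    hrange ▸ scalarOn_sup hperf hT' hsc hsc2
  have hfix : ¬ ScalarOn (sub3 T a b c) (A.eigenspace 1) := by
    intro hh1
    refine sub3_nonscalar hT hns hr h3 (allScalar_of_scalarOn_top ?_)
    have h' := scalarOn_sup hperf hT' (scalarOn_sup hperf hT' hh1 hsc) hsc2
    rwa [show A.eigenspace 1 ⊔ A.eigenspace ω ⊔ A.eigenspace (ω ^ 2) = ⊤ by
      refine le_antisymm le_top ?_
      conv_lhs => rw [← iSup_inf_eigenspace (n := 3) (A := A) (U := (⊤ : Submodule k V))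
        (by exact_mod_cast h3k) hA3 hω (fun _ _ => trivial)]
      refine iSup_le fun i => inf_le_right.trans ?_
      fin_cases i
      · simpa using le_sup_of_le_left (b := A.eigenspace (ω ^ 2)) le_sup_left
      · simpa using le_sup_of_le_left (b := A.eigenspace (ω ^ 2)) le_sup_right
      · exact le_sup_right] at h'
  have hf' := sub_le_finrank hB hcard hT' (hEinv 1) hfix
  rcases Nat.lt_or_ge (Module.finrank k (A.eigenspace ω)) 2 with hd | hd
  · right
    refine ⟨by omega, ?_, hscimg⟩
    rw [hrange]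
    have e2 := Submodule.finrank_sup_add_finrank_inf_eq (A.eigenspace ω) (A.eigenspace (ω ^ 2))
    rw [hdisj, finrank_bot, hdd] at e2
    omega
  · left; omega

/-- The step in characteristic three. -/
theorem step_of_eq_three (h3k : (3 : k) = 0) (hT : IsProj T) (hirr : Irred T)
    (hns : ¬ AllScalar T) (hr : 9 ≤ Fintype.card Ω) (h3 : D3 a b c) {f N : ℕ}
    (hB : Bound.{u, v} k (Fintype.card Ω - 3) f) (hf : 3 ≤ f) (hN1 : N ≤ 2 * f) (hN2 : N ≤ 4 + f) :
    Step T a b c N := by
  have hA3 := canon_cyc_pow hT hr h3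
  have hcm := sub3_commute hT (by omega) h3
  have hT' := hT.sub3 (a := a) (b := b) (c := c)
  have hcard : Fintype.card (rest a b c) = Fintype.card Ω - 3 := by
    rw [Fintype.card_coe, card_rest h3]
  have hperf : commutator (alternatingGroup (rest a b c)) = ⊤ :=
    commutator_alternatingGroup_eq_top (by rw [Nat.card_eq_fintype_card, hcard]; omega)
  have hne1 := canon_ne_one hT hns hr h3
  set N' := canon T (cyc a b c) 3 - 1 with hN'
  have hN3 : ∀ v, N' (N' (N' v)) = 0 := by
    intro v
    have hc : N' * N' * N' = 0 := by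
      set A := canon T (cyc a b c) 3
      have : (3 : Module.End k V) = 0 := by
        rw [← map_ofNat (algebraMap k (Module.End k V)), h3k, map_zero]
      calc N' * N' * N' = A ^ 3 - 1 - 3 * A * N' := by rw [hN']; noncomm_ring
        _ = 0 := by rw [hA3, this, sub_self, zero_mul, zero_mul, sub_zero]
    simpa using congrArg (fun X => X v) hc
  have hNc : ∀ x v, N' (sub3 T a b c x v) = sub3 T a b c x (N' v) := by
    intro x v
    have := congrArg (fun X => X v) (hcm x).eq
    simp only [Module.End.mul_apply] at this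
    simp [hN', map_sub, this]
  have hI : img T a b c = LinearMap.range N' := rfl
  rw [Step, hI]
  set I := LinearMap.range N'
  set K := LinearMap.ker N' with hK
  have hinvI : ∀ x, ∀ w ∈ I, sub3 T a b c x w ∈ I := by
    rintro x _ ⟨w, rfl⟩
    exact ⟨_, hNc x w⟩
  have hinvK : ∀ x, ∀ w ∈ K, sub3 T a b c x w ∈ K := by
    intro x w hw
    rw [hK, LinearMap.mem_ker] at hw ⊢
    rw [hNc, hw, map_zero]
  have hinvS : ∀ x, ∀ w ∈ I ⊓ K, sub3 T a b c x w ∈ I ⊓ K :=
    fun x w hw => ⟨hinvI x w hw.1, hinvK x w hw.2⟩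
  have hn : Module.finrank k I + Module.finrank k K = Module.finrank k V :=
    LinearMap.finrank_range_add_finrank_ker N'
  by_cases hS : ScalarOn (sub3 T a b c) (I ⊓ K)
  swap
  · left
    have h1 := sub_le_finrank hB hcard hT' hinvS hS
    have h2 := Submodule.finrank_mono (inf_le_left : I ⊓ K ≤ I)
    have h3 := Submodule.finrank_mono (inf_le_right : I ⊓ K ≤ K)
    omega
  have hNI : ∀ w ∈ I, N' w ∈ I ⊓ K := by
    rintro _ ⟨w, rfl⟩
    exact ⟨⟨_, rfl⟩, hN3 w⟩
  have hscI : ScalarOn (sub3 T a b c) I := by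
    refine scalarOn_of_quo hperf hT' hinvI hinvS hS fun x => ?_
    obtain ⟨μ, hμ⟩ := hS x
    refine ⟨μ, fun v hv => ⟨Submodule.sub_mem _ (hinvI x v hv) (I.smul_mem μ hv), ?_⟩⟩
    rw [SetLike.mem_coe, hK, LinearMap.mem_ker, map_sub, map_smul, hNc, hμ _ (hNI v hv), sub_self]
  have hKns : ¬ ScalarOn (sub3 T a b c) K := by
    intro hKs
    refine sub3_nonscalar hT hns hr h3 (allScalar_of_scalarOn_top
      (scalarOn_of_quo hperf hT' (fun _ _ _ => trivial) hinvK hKs fun x => ?_))
    obtain ⟨μ, hμ⟩ := hscI x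
    refine ⟨μ, fun v _ => ?_⟩
    rw [hK, LinearMap.mem_ker, map_sub, map_smul, hNc, hμ _ ⟨v, rfl⟩, sub_self]
  -- the quotient `K / (I ⊓ K)`
  have hW' : ∀ x, ∀ w ∈ (I ⊓ K).comap K.subtype,
      res hinvK x w ∈ (I ⊓ K).comap K.subtype := fun x w hw => hinvS x _ hw
  have hq : f ≤ Module.finrank k (K ⧸ (I ⊓ K).comap K.subtype) := by
    refine hB.apply hcard ((hT'.res hinvK).quo hW') fun hh => hKns ?_
    rw [scalarOn_iff hinvK]
    refine allScalar_of_res_quo hW' hperf (hT'.res hinvK) (fun g => ?_) hh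
    obtain ⟨μ, hμ⟩ := hS g
    exact ⟨μ, LinearMap.ext fun w => Subtype.ext (Subtype.ext (hμ _ w.2))⟩
  have hq' := Submodule.finrank_quotient_add_finrank ((I ⊓ K).comap K.subtype)
  have hs : Module.finrank k ↥((I ⊓ K).comap K.subtype) = Module.finrank k ↥(I ⊓ K) :=
    (Submodule.comapSubtypeEquivOfLe inf_le_right).finrank_eq
  have hI0 : I ≠ ⊥ := by
    intro e
    refine hne1 (sub_eq_zero.1 ?_)
    exact LinearMap.range_eq_bot.1 e
  have hs1 : Module.finrank k ↥(I ⊓ K) ≠ 0 := by
    rw [Ne, Submodule.finrank_eq_zero]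
    intro e
    refine hI0 ((Submodule.eq_bot_iff _).2 fun w hw => ?_)
    have h0 : N' w = 0 := (Submodule.mem_bot k).1 (e ▸ hNI w hw)
    exact (Submodule.mem_bot k).1 (e ▸ (⟨hw, h0⟩ : w ∈ I ⊓ K))
  have hR0 : Module.finrank k I ≠ 0 := by rwa [Ne, Submodule.finrank_eq_zero]
  have hR1 : Module.finrank k I ≠ 1 := hI ▸ rank_ne_one hT hirr hr h3 (by omega)
  rcases Nat.lt_or_ge (Module.finrank k I) 3 with hR | hR
  · right; exact ⟨by omega, by omega, hscI⟩
  · left; omega

end Step

end CfsgLib.AltDegree
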