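import Mathlib

/-!
# Joint eigenvectors
-/

set_option autoImplicit false

namespace CfsgLib.AltDegree

variable {k : Type*} [Field k] {M : Type*} [AddCommGroup M] [Module k M]

/-- Joint eigenvectors with distinct eigenvalue systems are independent. -/
theorem linearIndependent_joint {ι J : Type*} (L : ι → Module.End k M) (v : J → M)
    (hv : ∀ j, v j ≠ 0) (χ : J → ι → k) (hχ : Function.Injective χ)
    (h : ∀ j i, L i (v j) = χ j i • v j) : LinearIndependent k v := by
  classical
  rw [linearIndependent_iff']
  intro s
  induction s using Finset.induction with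
  | empty => simp
  | insert a s ha ih =>
    intro g hg
    rw [Finset.sum_insert ha] at hg
    have hs : ∀ j ∈ s, g j = 0 := by
      intro j hj
      obtain ⟨i, hi⟩ := Function.ne_iff.1 (hχ.ne (show j ≠ a from fun e => ha (e ▸ hj)))
      have h1 := congrArg (L i) hg
      simp only [map_add, map_sum, map_smul, h, map_zero] at h1
      have h2 : ∑ x ∈ s, (g x * (χ x i - χ a i)) • v x = 0 := by
        calc ∑ x ∈ s, (g x * (χ x i - χ a i)) • v x
            = (g a • χ a i • v a + ∑ x ∈ s, g x • χ x i • v x) -
                χ a i • (g a • v a + ∑ x ∈ s, g x • v x) := by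
              rw [smul_add, Finset.smul_sum, add_sub_add_comm, smul_comm (χ a i) (g a), sub_self,
                zero_add, ← Finset.sum_sub_distrib]
              refine Finset.sum_congr rfl fun x _ => ?_
              rw [smul_smul, smul_smul, ← sub_smul]
              congr 1
              ring
          _ = 0 := by rw [h1, hg, smul_zero, sub_zero]
      exact (mul_eq_zero.1 (ih _ h2 j hj)).resolve_right (sub_ne_zero.2 hi)
    intro j hj
    rcases Finset.mem_insert.1 hj with rfl | hj
    · rw [Finset.sum_eq_zero (fun x hx => by rw [hs x hx, zero_smul]), add_zero] at hg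
      exact (smul_eq_zero.1 hg).resolve_right (hv _)
    · exact hs j hj

/-- Finitely many commuting operators have a common eigenvector. -/
theorem exists_joint_eigenvector [IsAlgClosed k] [FiniteDimensional k M] [Nontrivial M] {ι : Type*}
    (L : ι → Module.End k M) (hc : ∀ i j, Commute (L i) (L j)) (s : Finset ι) :
    ∃ χ : ι → k, ∃ v : M, v ≠ 0 ∧ ∀ i ∈ s, L i v = χ i • v := by
  classical
  induction s using Finset.induction with
  | empty =>
    obtain ⟨v, hv⟩ := exists_ne (0 : M)
    exact ⟨fun _ => 0, v, hv, by simp⟩
  | insert a s ha ih =>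
    obtain ⟨χ, v, hv, hev⟩ := ih
    let U : Submodule k M := ⨅ i ∈ s, (L i).eigenspace (χ i)
    have memU : ∀ {w}, w ∈ U ↔ ∀ i ∈ s, L i w = χ i • w := by
      intro w
      simp [U, Submodule.mem_iInf, Module.End.mem_eigenspace_iff]
    have hinv : ∀ w ∈ U, L a w ∈ U := by
      intro w hw
      rw [memU] at hw ⊢
      intro i hi
      rw [← Module.End.mul_apply, (hc i a).eq, Module.End.mul_apply, hw i hi, map_smul]
    haveI : Nontrivial U := ⟨⟨⟨v, memU.2 hev⟩, 0, fun h => hv (congrArg Subtype.val h)⟩⟩
    obtain ⟨μ, hμ⟩ := Module.End.exists_eigenvalue ((L a).restrict hinv)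
    obtain ⟨w, hw, hw0⟩ := hμ.exists_hasEigenvector
    refine ⟨Function.update χ a μ, w, fun h => hw0 (Subtype.ext h), fun i hi => ?_⟩
    rcases Finset.mem_insert.1 hi with rfl | hi
    · rw [Function.update_self]
      have := congrArg Subtype.val (Module.End.mem_eigenspace_iff.1 hw)
      simpa using this
    · rw [Function.update_of_ne (show i ≠ a from fun e => ha (e ▸ hi))]
      exact memU.1 w.2 i hi

end CfsgLib.AltDegree
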