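import Cfsg.Agent.Lib.AltDegree.Small

/-!
# The minimal degree of a projective representation of an alternating group

A projective representation of the alternating group of degree `r ≥ 9` that is not scalar has
degree at least that of the heart of the permutation module.
-/

set_option autoImplicit false
set_option linter.unusedSectionVars false
set_option linter.style.haveILetI false

namespace CfsgLib.AltDegree

universe u v

variable {k : Type u} [Field k] [IsAlgClosed k] [DecidableEq k]

theorem bound_alternating : ∀ r : ℕ, 9 ≤ r → Bound.{u, v} k r (tgt k r) := by
  intro r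
  induction r using Nat.strong_induction_on with
  | _ r ihr =>
    intro hr
    suffices h : ∀ n : ℕ, ∀ (V : Type v) [AddCommGroup V] [Module k V] [FiniteDimensional k V]
        (T : alternatingGroup (Fin r) → Module.End k V), Module.finrank k V = n → IsProj T →
        ¬ AllScalar T → tgt k r ≤ n from
      fun V _ _ _ T hT hns => h _ V T rfl hT hns
    intro n
    induction n using Nat.strong_induction_on with
    | _ n ihn =>
      intro V _ _ _ T hn hT hns
      rcases subsingleton_or_nontrivial V with hV | hV
      · exact absurd (fun g => ⟨1, LinearMap.ext fun w => Subsingleton.elim _ _⟩) hns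
      by_cases hirr : Irred T
      swap
      · simp only [Irred, not_forall, not_or] at hirr
        obtain ⟨W, hW, hbot, htop⟩ := hirr
        have hperf : commutator (alternatingGroup (Fin r)) = ⊤ :=
          commutator_alternatingGroup_eq_top (by rw [Nat.card_eq_fintype_card, Fintype.card_fin]; omega)
        have h1 := Submodule.finrank_quotient_add_finrank W
        have h2 : Module.finrank k W < Module.finrank k V := Submodule.finrank_lt htop
        have h3 : Module.finrank k W ≠ 0 := fun h => hbot (Submodule.finrank_eq_zero.1 h)
        by_cases hres : AllScalar (res hW)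
        · have hquo : ¬ AllScalar (quo hW) := fun h =>
            hns (allScalar_of_res_quo hW hperf hT hres h)
          exact (ihn _ (by omega) (V ⧸ W) (quo hW) rfl (hT.quo hW) hquo).trans (by omega)
        · exact (ihn _ (by omega) W (res hW) rfl (hT.res hW) hres).trans (by omega)
      rw [← hn]
      have hd : ∀ i j l : Fin r, i.val = 0 → j.val = 1 → l.val = 2 → D3 i j l := by
        intro i j l hi hj hl
        refine ⟨?_, ?_, ?_⟩ <;> intro e <;> subst e <;> omega
      by_cases h12 : r ≤ 11
      · obtain rfl | rfl | rfl : r = 9 ∨ r = 10 ∨ r = 11 := by omega
        · exact tgt_le_of_base (by norm_num) hT hirr hns (hd 0 1 2 rfl rfl rfl)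
            fun T' h1 _ h3 => step_nine h1 h3
        · exact tgt_le_of_base (by norm_num) hT hirr hns (hd 0 1 2 rfl rfl rfl)
            fun T' h1 h2 h3 => step_ten h1 h2 h3
        · exact tgt_le_of_base (by norm_num) hT hirr hns (hd 0 1 2 rfl rfl rfl)
            fun T' h1 h2 h3 => step_eleven h1 h2 h3
      have hB : Bound.{u, v} k (r - 3) (r - 5) := by
        intro V' _ _ _ T' hT' hns'
        refine le_trans ?_ (ihr (r - 3) (by omega) (by omega) V' T' hT' hns')
        rw [tgt]; split_ifs <;> omega
      have htgt := tgt_le k r
      have hmain := tgt_le_of_step (Ω := Fin r) hT hirr (by simpa using hr) fun a b c h3 => ?_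
      · simpa using hmain
      rw [Fintype.card_fin]
      by_cases h3k : (3 : k) = 0
      · exact step_of_eq_three h3k hT hirr hns (by simpa using hr) h3 (f := r - 5)
          (by rwa [Fintype.card_fin]) (by omega) (by omega) (by omega)
      · exact step_of_ne_three h3k hT hns (by simpa using hr) h3 (f := r - 5)
          (by rwa [Fintype.card_fin]) (by omega) (by omega) (by omega)

end CfsgLib.AltDegree
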