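import Cfsg.Agent.Lib.AltDegree.Transfer

/-!
# Weights of three disjoint three-cycles
-/

set_option autoImplicit false
set_option linter.unusedSectionVars false
set_option linter.style.haveILetI false

namespace CfsgLib.AltDegree

open Equiv Equiv.Perm

universe u v

theorem count27 (e : Fin 3 → Fin 3 → Fin 3 → ℕ)
    (hF : ∀ i j l, e i j l ≤ e (![0, 2, 1] i) (![0, 2, 1] j) l)
    (hG : ∀ i j l, e i j l ≤ e i (![0, 2, 1] j) (![0, 2, 1] l))
    (hC : ∀ i j l, e i j l ≤ e l i j) (hS : ∀ i j l, e i j l ≤ e j (![0, 2, 1] i) l) :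
    ∑ i, ∑ j, ∑ l, e i j l = e 0 0 0 + 6 * e 1 0 0 + 12 * e 1 1 0 + 8 * e 1 1 1 ∧
    ∑ j, ∑ l, e 0 j l = e 0 0 0 + 4 * e 1 0 0 + 4 * e 1 1 0 ∧
    ∑ j, ∑ l, e 1 j l = e 1 0 0 + 4 * e 1 1 0 + 4 * e 1 1 1 ∧
    ∑ j, ∑ l, e 2 j l = e 1 0 0 + 4 * e 1 1 0 + 4 * e 1 1 1 ∧
    e 1 1 2 = e 1 1 1 := by
  simp only [Fin.sum_univ_three]
  simp [Fin.forall_fin_succ] at hF hG hC hS
  omega

variable {k : Type u} [Field k] [IsAlgClosed k] {V : Type v} [AddCommGroup V] [Module k V]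
  [FiniteDimensional k V] [Nontrivial V]
variable {Ω : Type*} [Fintype Ω] [DecidableEq Ω] {T : alternatingGroup Ω → Module.End k V}

/-- Elements normalising three disjoint three-cycles. -/
def NineRel (t₁ t₂ t₃ : alternatingGroup Ω) : Prop :=
  ∃ F G C S : alternatingGroup Ω,
    (F * t₁ = t₁⁻¹ * F ∧ F * t₂ = t₂⁻¹ * F ∧ F * t₃ = t₃ * F) ∧
    (G * t₁ = t₁ * G ∧ G * t₂ = t₂⁻¹ * G ∧ G * t₃ = t₃⁻¹ * G) ∧
    (C * t₁ = t₂ * C ∧ C * t₂ = t₃ * C ∧ C * t₃ = t₁ * C) ∧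
    (S * t₁ = t₂⁻¹ * S ∧ S * t₂ = t₁ * S ∧ S * t₃ = t₃ * S)

theorem Good.inv3 {G : Type*} [Group G] {g : G} (hg : Good g 3) : Good g⁻¹ 3 := by
  obtain ⟨h, hh⟩ := hg.inverted
  refine ⟨hg.odd, by rw [inv_pow, hg.pow_eq, inv_one], ⟨h, ?_⟩, fun z hz => ?_⟩
  · have h2 : SemiconjBy h g g⁻¹ := hh
    exact h2.inv_right
  · have hz' : z * g = g * z := by
      have h2 : Commute z g⁻¹ := hz
      exact (inv_inv g ▸ h2.inv_right : Commute z g)
    obtain ⟨i, s, rfl, H, hH, hs, hc⟩ := hg.cent z hz'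
    refine ⟨2 * i, s, ?_, H, hH, hs, fun x hx => (show Commute x g from hc x hx).inv_right⟩
    have h2 : (g⁻¹) ^ 2 = g := by
      rw [inv_pow, inv_eq_of_mul_eq_one_left]
      rw [← pow_succ']; exact hg.pow_eq
    rw [pow_mul, h2]

/-- The weights of the canonical lifts of three disjoint three-cycles. -/
theorem weights (hT : IsProj T) (h3 : (3 : k) ≠ 0) {ω : k} (hω : IsPrimitiveRoot ω 3)
    {t₁ t₂ t₃ : alternatingGroup Ω} (g₁ : Good t₁ 3) (g₂ : Good t₂ 3) (g₃ : Good t₃ 3)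
    (c12 : t₁ * t₂ = t₂ * t₁) (c13 : t₁ * t₃ = t₃ * t₁) (c23 : t₂ * t₃ = t₃ * t₂)
    (hrel : NineRel t₁ t₂ t₃) :
    ∃ e0 e1 e2 e3 : ℕ, Module.finrank k V = e0 + 6 * e1 + 12 * e2 + 8 * e3 ∧
      Module.finrank k ((canon T t₁ 3).eigenspace 1) = e0 + 4 * e1 + 4 * e2 ∧
      Module.finrank k ((canon T t₁ 3).eigenspace ω) = e1 + 4 * e2 + 4 * e3 ∧
      Module.finrank k ((canon T t₁ 3).eigenspace (ω ^ 2)) = e1 + 4 * e2 + 4 * e3 ∧
      Module.finrank k ↥((canon T t₁ 3).eigenspace ω ⊓ (canon T t₂ 3).eigenspace ω) = e2 + 2 * e3 ∧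
      Module.finrank k ↥((canon T t₁ 3).eigenspace ω ⊓ (canon T t₂ 3).eigenspace ω ⊓
        (canon T t₃ 3).eigenspace ω) = e3 ∧
      Module.finrank k ↥((canon T t₁ 3).eigenspace ω ⊓ (canon T t₂ 3).eigenspace ω ⊓
        (canon T t₃ 3).eigenspace (ω ^ 2)) = e3 := by
  obtain ⟨F, G, C, S, ⟨F1, F2, F3⟩, ⟨G1, G2, G3⟩, ⟨C1, C2, C3⟩, ⟨S1, S2, S3⟩⟩ := hrel
  set A := canon T t₁ 3 with hA
  set B := canon T t₂ 3 with hB
  set D := canon T t₃ 3 with hD
  have sq : ∀ {g : alternatingGroup Ω}, Good g 3 → canon T g⁻¹ 3 = canon T g 3 ^ 2 :=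
    fun hg => canon_inv hT hg hg.inv3
  let μ : Fin 3 → k := fun i => ω ^ (i : ℕ)
  have hν : ∀ i, μ i ^ 2 = μ (![0, 2, 1] i) := by
    intro i
    have h3' : ω ^ 3 = 1 := hω.pow_eq_one
    fin_cases i
    · simp [μ]
    · simp [μ]
    · show (ω ^ 2) ^ 2 = ω ^ 1
      rw [← pow_mul, show 2 * 2 = 3 + 1 from rfl, pow_add, h3', one_mul]
  -- moving eigenvectors
  have mv : ∀ {g g' x : alternatingGroup Ω}, Good g 3 → Good g' 3 → x * g = g' * x →
      ∀ {m : k} {w : V}, canon T g 3 w = m • w → canon T g' 3 (T x w) = m • T x w := by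
    intro g g' x hg hg' e m w hw
    have := congrArg (fun X => X w) (canon_conj hT hg hg' e)
    simp only [Module.End.mul_apply, hw, map_smul] at this
    exact this.symm
  have mvi : ∀ {g g' x : alternatingGroup Ω}, Good g 3 → Good g' 3 → x * g = g'⁻¹ * x →
      ∀ {i : Fin 3} {w : V}, canon T g 3 w = μ i • w →
        canon T g' 3 (T x w) = μ (![0, 2, 1] i) • T x w := by
    intro g g' x hg hg' e i w hw
    have h1 := mv hg hg'.inv3 e hw
    rw [sq hg'] at h1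
    calc canon T g' 3 (T x w)
        = (canon T g' 3 ^ 2 * canon T g' 3 ^ 2) (T x w) := by
          rw [← pow_add, show 2 + 2 = 3 + 1 from rfl, pow_add, (canon_spec hT hg').2.1, one_mul,
            pow_one]
      _ = _ := by rw [Module.End.mul_apply, h1, map_smul, h1, smul_smul, ← pow_two, hν]
  let E : Fin 3 → Fin 3 → Fin 3 → Submodule k V := fun i j l =>
    A.eigenspace (μ i) ⊓ B.eigenspace (μ j) ⊓ D.eigenspace (μ l)
  let e : Fin 3 → Fin 3 → Fin 3 → ℕ := fun i j l => Module.finrank k (E i j l)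
  have memE : ∀ i j l w, w ∈ E i j l ↔ A w = μ i • w ∧ B w = μ j • w ∧ D w = μ l • w := by
    intro i j l w
    simp only [E, Submodule.mem_inf, Module.End.mem_eigenspace_iff, and_assoc]
  have step : ∀ (x : alternatingGroup Ω) i j l i' j' l',
      (∀ w ∈ E i j l, T x w ∈ E i' j' l') → e i j l ≤ e i' j' l' := by
    intro x i j l i' j' l' hx
    show Module.finrank k (E i j l) ≤ Module.finrank k (E i' j' l')
    rw [((E i j l).equivMapOfInjective _ (T_injective hT x)).finrank_eq]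
    refine Submodule.finrank_mono ?_
    rintro _ ⟨w, hw, rfl⟩
    exact hx w hw
  have hF : ∀ i j l, e i j l ≤ e (![0, 2, 1] i) (![0, 2, 1] j) l := fun i j l =>
    step F _ _ _ _ _ _ fun w hw => by
      obtain ⟨w1, w2, w3⟩ := (memE _ _ _ w).1 hw
      exact (memE _ _ _ _).2 ⟨mvi g₁ g₁ F1 w1, mvi g₂ g₂ F2 w2, mv g₃ g₃ F3 w3⟩
  have hG : ∀ i j l, e i j l ≤ e i (![0, 2, 1] j) (![0, 2, 1] l) := fun i j l =>
    step G _ _ _ _ _ _ fun w hw => by
      obtain ⟨w1, w2, w3⟩ := (memE _ _ _ w).1 hw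
      exact (memE _ _ _ _).2 ⟨mv g₁ g₁ G1 w1, mvi g₂ g₂ G2 w2, mvi g₃ g₃ G3 w3⟩
  have hC : ∀ i j l, e i j l ≤ e l i j := fun i j l =>
    step C _ _ _ _ _ _ fun w hw => by
      obtain ⟨w1, w2, w3⟩ := (memE _ _ _ w).1 hw
      exact (memE _ _ _ _).2 ⟨mv g₃ g₁ C3 w3, mv g₁ g₂ C1 w1, mv g₂ g₃ C2 w2⟩
  have hS : ∀ i j l, e i j l ≤ e j (![0, 2, 1] i) l := fun i j l =>
    step S _ _ _ _ _ _ fun w hw => by
      obtain ⟨w1, w2, w3⟩ := (memE _ _ _ w).1 hw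
      exact (memE _ _ _ _).2 ⟨mv g₂ g₁ S2 w2, mvi g₁ g₂ S1 w1, mv g₃ g₃ S3 w3⟩
  obtain ⟨hn, h0, h1, h2, h112⟩ := count27 e hF hG hC hS
  have inv : ∀ {g g' : alternatingGroup Ω}, Good g 3 → Good g' 3 → g' * g = g * g' →
      ∀ m, ∀ w ∈ (canon T g 3).eigenspace m, canon T g' 3 w ∈ (canon T g 3).eigenspace m := by
    intro g g' hg hg' e m w hw
    rw [Module.End.mem_eigenspace_iff] at hw ⊢
    obtain ⟨c, -, hc⟩ := (canon_spec (T := T) hT hg').1
    have hcm := hg.commute hT (canon_spec hT hg).1 e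
    rw [hc, LinearMap.smul_apply, map_smul, ← Module.End.mul_apply, ← hcm.eq, Module.End.mul_apply,
      hw, map_smul, smul_comm]
  have sA : ∀ U : Submodule k V, (∀ w ∈ U, A w ∈ U) → Module.finrank k U =
      ∑ i, Module.finrank k ↥(U ⊓ A.eigenspace (μ i)) := fun U hU =>
    finrank_eigen_sum (by exact_mod_cast h3) (canon_spec hT g₁).2.1 hω hU
  have sB : ∀ i, Module.finrank k (A.eigenspace (μ i)) =
      ∑ j, Module.finrank k ↥(A.eigenspace (μ i) ⊓ B.eigenspace (μ j)) := fun i =>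
    finrank_eigen_sum (by exact_mod_cast h3) (canon_spec hT g₂).2.1 hω
      (inv g₁ g₂ c12.symm (μ i))
  have sD : ∀ i j, Module.finrank k ↥(A.eigenspace (μ i) ⊓ B.eigenspace (μ j)) = ∑ l, e i j l :=
    fun i j => finrank_eigen_sum (by exact_mod_cast h3) (canon_spec hT g₃).2.1 hω
      fun w hw => ⟨inv g₁ g₃ c13.symm _ w hw.1, inv g₂ g₃ c23.symm _ w hw.2⟩
  have sA' : Module.finrank k V = ∑ i, Module.finrank k (A.eigenspace (μ i)) := by
    have := sA ⊤ (fun _ _ => trivial)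
    rw [finrank_top] at this
    rw [this]
    exact Finset.sum_congr rfl fun i _ => by rw [top_inf_eq]
  have d : ∀ i, Module.finrank k (A.eigenspace (μ i)) = ∑ j, ∑ l, e i j l := fun i => by
    rw [sB i]; exact Finset.sum_congr rfl fun j _ => sD i j
  rw [Finset.sum_congr rfl fun i _ => d i] at sA'
  have w0 : μ 0 = 1 := pow_zero ω
  have w1 : μ 1 = ω := pow_one ω
  have w2 : μ 2 = ω ^ 2 := rfl
  have d0 := d 0
  have d1 := d 1
  have d2 := d 2
  have dW := sD 1 1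
  rw [w0] at d0
  rw [w1] at d1 dW
  rw [w2] at d2
  refine ⟨e 0 0 0, e 1 0 0, e 1 1 0, e 1 1 1, by omega, by omega, by omega, by omega, ?_, ?_, ?_⟩
  · rw [dW, Fin.sum_univ_three]; omega
  · show _ = Module.finrank k (E 1 1 1)
    rw [show E 1 1 1 = A.eigenspace ω ⊓ B.eigenspace ω ⊓ D.eigenspace ω by simp only [E, w1]]
  · rw [← h112]
    show _ = Module.finrank k (E 1 1 2)
    rw [show E 1 1 2 = A.eigenspace ω ⊓ B.eigenspace ω ⊓ D.eigenspace (ω ^ 2) by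
      simp only [E, w1, w2]]

end CfsgLib.AltDegree
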