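import Cfsg.Agent.Lib.AltDegree.Nine

/-!
# Weights of two disjoint five-cycles
-/

set_option autoImplicit false
set_option linter.unusedSectionVars false
set_option linter.style.haveILetI false

namespace CfsgLib.AltDegree

open Equiv Equiv.Perm

universe u v

theorem Good.map {G H : Type*} [Group G] [Group H] (φ : G ≃* H) {g : G} {n : ℕ} (hg : Good g n) :
    Good (φ g) n := by
  obtain ⟨h, hh⟩ := hg.inverted
  refine ⟨hg.odd, by rw [← map_pow, hg.pow_eq, map_one],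
    ⟨φ h, by rw [← map_mul, hh, map_mul, map_inv]⟩, fun z hz => ?_⟩
  have hz' : φ.symm z * g = g * φ.symm z := by
    apply φ.injective
    rw [map_mul, map_mul, φ.apply_symm_apply]
    exact hz
  obtain ⟨i, s, e, K, hK, hs, hc⟩ := hg.cent _ hz'
  refine ⟨i, φ s, by rw [← φ.apply_symm_apply z, e, map_mul, map_pow], K.map φ.toMonoidHom, ?_,
    ⟨s, hs, rfl⟩, ?_⟩
  · have hKK : ⁅K, K⁆ = K := by
      rw [← Subgroup.map_subtype_commutator, hK, ← MonoidHom.range_eq_map, Subgroup.range_subtype]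
    apply Subgroup.map_injective (K.map φ.toMonoidHom).subtype_injective
    rw [Subgroup.map_subtype_commutator, ← Subgroup.map_commutator, hKK, ← MonoidHom.range_eq_map,
      Subgroup.range_subtype]
  · rintro _ ⟨x, hx, rfl⟩
    show φ x * φ g = φ g * φ x
    rw [← map_mul, hc x hx, map_mul]

theorem Good.conj {G : Type*} [Group G] {g g' x : G} {n : ℕ} (hg : Good g n)
    (e : x * g = g' * x) : Good g' n := by
  have h : g' = MulAut.conj x g := by rw [MulAut.conj_apply, e, mul_inv_cancel_right]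
  exact h ▸ hg.map (MulAut.conj x)

theorem count25 (f : Fin 5 → Fin 5 → ℕ)
    (hP : ∀ i j, f i j ≤ f (![0, 3, 1, 4, 2] i) (![0, 3, 1, 4, 2] j))
    (hQ : ∀ i j, f i j ≤ f (![0, 3, 1, 4, 2] i) (![0, 2, 4, 1, 3] j))
    (hS : ∀ i j, f i j ≤ f j (![0, 3, 1, 4, 2] i)) :
    ∑ i, ∑ j, f i j = f 0 0 + 8 * f 1 0 + 16 * f 1 1 ∧
      ∑ j, f 0 j = f 0 0 + 4 * f 1 0 ∧ ∑ i, f i 0 = f 0 0 + 4 * f 1 0 ∧
      ∑ j, f 1 j = f 1 0 + 4 * f 1 1 ∧ ∀ i j, i ≠ 0 → j ≠ 0 → f i j = f 1 1 := by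
  simp only [Fin.sum_univ_five]
  simp [Fin.forall_fin_succ] at hP hQ hS
  refine ⟨by omega, by omega, by omega, by omega, ?_⟩
  simp [Fin.forall_fin_succ]
  omega

variable {k : Type u} [Field k] [IsAlgClosed k] {V : Type v} [AddCommGroup V] [Module k V]
  [FiniteDimensional k V] [Nontrivial V]
variable {Ω : Type*} [Fintype Ω] [DecidableEq Ω] {T : alternatingGroup Ω → Module.End k V}

/-- Two five-cycles with small degree: on the nontrivial eigenspaces of one, the other is trivial. -/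
theorem pentad (hT : IsProj T) (hns : ¬ AllScalar T) (h10 : 5 ≤ Fintype.card Ω)
    (h5 : (5 : k) ≠ 0) (hn : Module.finrank k V < 16) {ζ : k} (hζ : IsPrimitiveRoot ζ 5)
    {s₁ s₂ P Q S : alternatingGroup Ω} (g₁ : Good s₁ 5) (g₂ : Good s₂ 5) (hne : s₁ ≠ 1)
    (c12 : s₁ * s₂ = s₂ * s₁)
    (hP1 : P * s₁ = s₁ ^ 2 * P) (hP2 : P * s₂ = s₂ ^ 2 * P)
    (hQ1 : Q * s₁ = s₁ ^ 2 * Q) (hQ2 : Q * s₂ = s₂ ^ 3 * Q)
    (hS1 : S * s₁ = s₂ ^ 2 * S) (hS2 : S * s₂ = s₁ * S) :
    (∀ j : Fin 5, (j : ℕ) ≠ 0 → ∀ w ∈ (canon T s₂ 5).eigenspace (ζ ^ (j : ℕ)),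
      canon T s₁ 5 w = w) ∧
    ∃ c m : ℕ, 0 < m ∧ Module.finrank k V = c + 8 * m ∧
      Module.finrank k ((canon T s₂ 5).eigenspace 1) = c + 4 * m ∧
      ∃ j : Fin 5, (j : ℕ) ≠ 0 ∧ (canon T s₂ 5).eigenspace (ζ ^ (j : ℕ)) ≠ ⊥ := by
  set A := canon T s₁ 5 with hA
  set B := canon T s₂ 5 with hB
  have hn5 : ((5 : ℕ) : k) ≠ 0 := by exact_mod_cast h5
  let μ : Fin 5 → k := fun i => ζ ^ (i : ℕ)
  have hζ5 : ζ ^ 5 = 1 := hζ.pow_eq_one
  have hp3 : ∀ i, μ i ^ 3 = μ (![0, 3, 1, 4, 2] i) := by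
    intro i
    show (ζ ^ (i : ℕ)) ^ 3 = ζ ^ ((![0, 3, 1, 4, 2] i : Fin 5) : ℕ)
    rw [← pow_mul, pow_eq_pow_mod _ hζ5]
    fin_cases i <;> rfl
  have hp2 : ∀ i, μ i ^ 2 = μ (![0, 2, 4, 1, 3] i) := by
    intro i
    show (ζ ^ (i : ℕ)) ^ 2 = ζ ^ ((![0, 2, 4, 1, 3] i : Fin 5) : ℕ)
    rw [← pow_mul, pow_eq_pow_mod _ hζ5]
    fin_cases i <;> rfl
  have five : ∀ {g : alternatingGroup Ω}, Good g 5 → g ^ 6 = g := fun hg => by
    rw [pow_succ, hg.pow_eq, one_mul]
  -- moving eigenvectors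
  have mv : ∀ {g g' x : alternatingGroup Ω} {m l : ℕ}, Good g 5 → Good g' 5 → m * l = 6 →
      x * g = g' ^ m * x → ∀ {c : k} {w : V}, canon T g 5 w = c • w →
        canon T g' 5 (T x w) = c ^ l • T x w := by
    intro g g' x m l hg hg' hml e c w hw
    have hgm : Good (g' ^ m) 5 := hg.conj e
    have h1 : canon T (g' ^ m) 5 (T x w) = c • T x w := by
      have := congrArg (fun X => X w) (canon_conj hT hg hgm e)
      simp only [Module.End.mul_apply, hw, map_smul] at this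
      exact this.symm
    rw [canon_pow hT hg' hgm rfl (by rw [← pow_mul, hml, five hg'])] at h1
    have h2 : ∀ j : ℕ, ((canon T g' 5 ^ m) ^ j) (T x w) = c ^ j • T x w := by
      intro j
      induction j with
      | zero => simp
      | succ j ih => rw [pow_succ, Module.End.mul_apply, h1, map_smul, ih, smul_smul, pow_succ', ]
    have h3 := h2 l
    rwa [← pow_mul, hml, pow_succ, (canon_spec hT hg').2.1, one_mul] at h3
  let E : Fin 5 → Fin 5 → Submodule k V := fun i j => A.eigenspace (μ i) ⊓ B.eigenspace (μ j)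
  let f : Fin 5 → Fin 5 → ℕ := fun i j => Module.finrank k (E i j)
  have memE : ∀ i j w, w ∈ E i j ↔ A w = μ i • w ∧ B w = μ j • w := by
    intro i j w
    simp only [E, Submodule.mem_inf, Module.End.mem_eigenspace_iff]
  have step : ∀ (x : alternatingGroup Ω) i j i' j',
      (∀ w ∈ E i j, T x w ∈ E i' j') → f i j ≤ f i' j' := by
    intro x i j i' j' hx
    show Module.finrank k (E i j) ≤ Module.finrank k (E i' j')
    rw [((E i j).equivMapOfInjective _ (T_injective hT x)).finrank_eq]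
    refine Submodule.finrank_mono ?_
    rintro _ ⟨w, hw, rfl⟩
    exact hx w hw
  have hP : ∀ i j, f i j ≤ f (![0, 3, 1, 4, 2] i) (![0, 3, 1, 4, 2] j) := fun i j =>
    step P _ _ _ _ fun w hw => by
      obtain ⟨w1, w2⟩ := (memE _ _ w).1 hw
      exact (memE _ _ _).2 ⟨hp3 i ▸ mv (l := 3) g₁ g₁ rfl hP1 w1,
        hp3 j ▸ mv (l := 3) g₂ g₂ rfl hP2 w2⟩
  have hQ : ∀ i j, f i j ≤ f (![0, 3, 1, 4, 2] i) (![0, 2, 4, 1, 3] j) := fun i j =>
    step Q _ _ _ _ fun w hw => by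
      obtain ⟨w1, w2⟩ := (memE _ _ w).1 hw
      exact (memE _ _ _).2 ⟨hp3 i ▸ mv (l := 3) g₁ g₁ rfl hQ1 w1,
        hp2 j ▸ mv (l := 2) g₂ g₂ rfl hQ2 w2⟩
  have hS : ∀ i j, f i j ≤ f j (![0, 3, 1, 4, 2] i) := fun i j =>
    step S _ _ _ _ fun w hw => by
      obtain ⟨w1, w2⟩ := (memE _ _ w).1 hw
      have h1 := mv (m := 1) (l := 6) g₂ g₁ rfl (by rw [pow_one]; exact hS2) w2
      rw [show μ j ^ 6 = μ j by
        show (ζ ^ (j : ℕ)) ^ 6 = ζ ^ (j : ℕ)
        rw [← pow_mul, mul_comm, pow_mul, pow_succ, hζ5, one_mul]] at h1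
      exact (memE _ _ _).2 ⟨h1, hp3 i ▸ mv (l := 3) g₁ g₂ rfl hS1 w1⟩
  obtain ⟨hsum, h0j, hi0, h1j, hall⟩ := count25 f hP hQ hS
  have inv : ∀ {g g' : alternatingGroup Ω}, Good g 5 → Good g' 5 → g' * g = g * g' →
      ∀ m, ∀ w ∈ (canon T g 5).eigenspace m, canon T g' 5 w ∈ (canon T g 5).eigenspace m := by
    intro g g' hg hg' e m w hw
    rw [Module.End.mem_eigenspace_iff] at hw ⊢
    obtain ⟨c, -, hc⟩ := (canon_spec (T := T) hT hg').1
    have hcm := hg.commute hT (canon_spec hT hg).1 e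
    rw [hc, LinearMap.smul_apply, map_smul, ← Module.End.mul_apply, ← hcm.eq, Module.End.mul_apply,
      hw, map_smul, smul_comm]
  have dA : ∀ i, Module.finrank k (A.eigenspace (μ i)) = ∑ j, f i j := fun i =>
    finrank_eigen_sum hn5 (canon_spec hT g₂).2.1 hζ (inv g₁ g₂ c12.symm (μ i))
  have dB : ∀ j, Module.finrank k (B.eigenspace (μ j)) = ∑ i, f i j := fun j => by
    rw [finrank_eigen_sum hn5 (canon_spec hT g₁).2.1 hζ (inv g₂ g₁ c12 (μ j))]
    exact Finset.sum_congr rfl fun i _ => by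
      show Module.finrank k ↥(B.eigenspace (μ j) ⊓ A.eigenspace (μ i)) = Module.finrank k (E i j)
      rw [show E i j = B.eigenspace (μ j) ⊓ A.eigenspace (μ i) from inf_comm _ _]
  have hV : Module.finrank k V = ∑ i, ∑ j, f i j := by
    have := finrank_eigen_sum (U := (⊤ : Submodule k V)) hn5 (canon_spec (T := T) hT g₁).2.1 hζ
      (fun _ _ => trivial)
    rw [finrank_top] at this
    rw [this]
    exact Finset.sum_congr rfl fun i _ => by rw [top_inf_eq]; exact dA i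
  rw [hsum] at hV
  have hf11 : f 1 1 = 0 := by omega
  have htriv : ∀ j : Fin 5, (j : ℕ) ≠ 0 → ∀ w ∈ B.eigenspace (μ j), A w = w := by
    intro j hj w hw
    refine apply_eq_self_of_eigen hn5 (canon_spec hT g₁).2.1 hζ (inv g₂ g₁ c12 (μ j))
      (fun i hi => ?_) hw
    rw [← Submodule.finrank_eq_zero]
    have : Module.finrank k (E i j) = 0 :=
      (hall i j (fun h => hi (by rw [h]; rfl)) (fun h => hj (by rw [h]; rfl))).trans hf11
    rwa [show E i j = B.eigenspace (μ j) ⊓ A.eigenspace (μ i) from inf_comm _ _] at this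
  refine ⟨htriv, f 0 0, f 1 0, ?_, by omega, ?_, ?_⟩
  rotate_left
  · have := dB 0
    rw [hi0, show μ 0 = 1 from pow_zero ζ] at this
    exact this
  all_goals
    have hm : 0 < f 1 0 := by
      by_contra hm
      haveI : IsSimpleGroup (alternatingGroup Ω) :=
        alternatingGroup.isSimpleGroup (by rw [Nat.card_eq_fintype_card]; omega)
      obtain ⟨c, hc0, hc⟩ := (canon_spec (T := T) hT g₁).1
      refine hne (eq_one_of_scalar hT hns (c := c⁻¹) ?_)
      have htop : A.eigenspace (μ 0) = ⊤ := Submodule.eq_top_of_finrank_eq (by rw [dA 0]; omega)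
      have hA1 : A = 1 := LinearMap.ext fun w => by
        have hw : w ∈ A.eigenspace (μ 0) := htop ▸ Submodule.mem_top
        rw [Module.End.mem_eigenspace_iff.1 hw, show μ 0 = 1 from pow_zero ζ, one_smul]
        rfl
      rw [← hA1, hA, hc, smul_smul, inv_mul_cancel₀ hc0, one_smul]
  · refine ⟨1, one_ne_zero, fun hbot => ?_⟩
    have h := dB 1
    change B.eigenspace (μ 1) = ⊥ at hbot
    rw [hbot, finrank_bot] at h
    have h01 : f 0 1 ≤ ∑ i, f i 1 := Finset.single_le_sum (f := fun i => f i 1) (fun i _ => Nat.zero_le _) (Finset.mem_univ (0 : Fin 5))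
    have := hS 1 0
    have := hP 0 1; have := hP 0 3; have := hP 0 4; have := hP 0 2
    simp at *
    omega
  · exact hm

end CfsgLib.AltDegree
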