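import Mathlib

/-!
# Projective representations given by functions

A projective representation of `G` on `V` is a function `T : G → End V` with invertible values which
is multiplicative up to nonzero scalars.
-/

set_option autoImplicit false
set_option linter.unusedSectionVars false
set_option linter.style.haveILetI false

namespace CfsgLib.AltDegree

open scoped commutatorElement

variable {k : Type*} [Field k] {V : Type*} [AddCommGroup V] [Module k V] {G : Type*} [Group G]

/-- A projective representation, as a function. -/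
structure IsProj (T : G → Module.End k V) : Prop where
  isUnit : ∀ g, IsUnit (T g)
  map_mul : ∀ g h, ∃ c : k, c ≠ 0 ∧ T (g * h) = c • (T g * T h)

/-- All values are scalar. -/
def AllScalar (T : G → Module.End k V) : Prop := ∀ g, ∃ c : k, T g = c • 1

/-- All values act as scalars on `W`. -/
def ScalarOn (T : G → Module.End k V) (W : Submodule k V) : Prop :=
  ∀ g, ∃ c : k, ∀ w ∈ W, T g w = c • w

/-- A scalar multiple of the value at `g`. -/
def IsLift (T : G → Module.End k V) (g : G) (A : Module.End k V) : Prop :=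
  ∃ c : k, c ≠ 0 ∧ A = c • T g

theorem eq_one_of_smul {c : k} (h : ∀ v : V, c • v = v) [Nontrivial V] : c = 1 := by
  obtain ⟨v, hv⟩ := exists_ne (0 : V)
  exact smul_left_injective k hv ((h v).trans (one_smul k v).symm)

theorem scalar_eq_one [Nontrivial V] {c : k} (h : c • (1 : Module.End k V) = 1) : c = 1 :=
  eq_one_of_smul fun v => by simpa using congrArg (fun f => f v) h

theorem smul_eq_one_of_unit [Nontrivial V] {c : k} {A : Module.End k V} (hA : IsUnit A)
    (h : c • A = A) : c = 1 := by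
  obtain ⟨B, hB⟩ := hA.exists_right_inv
  apply scalar_eq_one (V := V)
  rw [← hB, ← smul_mul_assoc, h]

variable {T : G → Module.End k V}

theorem IsProj.comp (hT : IsProj T) {H : Type*} [Group H] (f : H →* G) : IsProj fun h => T (f h) :=
  ⟨fun h => hT.isUnit _, fun a b => by simpa [map_mul] using hT.map_mul (f a) (f b)⟩

theorem IsProj.map_one (hT : IsProj T) : ∃ c : k, c ≠ 0 ∧ T 1 = c • 1 := by
  obtain ⟨c, hc, h⟩ := hT.map_mul 1 1
  rw [one_mul] at h
  obtain ⟨B, hB⟩ := (hT.isUnit 1).exists_right_inv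
  refine ⟨c⁻¹, inv_ne_zero hc, ?_⟩
  have h2 : (1 : Module.End k V) = c • T 1 := by
    have := congrArg (fun X => X * B) h
    rwa [hB, smul_mul_assoc, mul_assoc, hB, mul_one] at this
  rw [h2, smul_smul, inv_mul_cancel₀ hc, one_smul]

theorem IsProj.map_prod (hT : IsProj T) (g h : G) :
    ∃ c : k, c ≠ 0 ∧ T g * T h = c • T (g * h) := by
  obtain ⟨c, hc, e⟩ := hT.map_mul g h
  exact ⟨c⁻¹, inv_ne_zero hc, by rw [e, smul_smul, inv_mul_cancel₀ hc, one_smul]⟩

theorem IsLift.refl (g : G) : IsLift T g (T g) := ⟨1, one_ne_zero, (one_smul _ _).symm⟩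

theorem IsLift.smul {g : G} {A : Module.End k V} (h : IsLift T g A) {c : k} (hc : c ≠ 0) :
    IsLift T g (c • A) := by
  obtain ⟨a, ha, rfl⟩ := h
  exact ⟨c * a, mul_ne_zero hc ha, smul_smul c a _⟩

theorem IsLift.isUnit (hT : IsProj T) {g : G} {A : Module.End k V} (h : IsLift T g A) :
    IsUnit A := by
  obtain ⟨a, ha, rfl⟩ := h
  rw [Algebra.smul_def]
  exact ((Ne.isUnit ha).map (algebraMap k (Module.End k V))).mul (hT.isUnit g)

theorem IsLift.mul (hT : IsProj T) {g h : G} {A B : Module.End k V} (hA : IsLift T g A)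
    (hB : IsLift T h B) : IsLift T (g * h) (A * B) := by
  obtain ⟨a, ha, rfl⟩ := hA
  obtain ⟨b, hb, rfl⟩ := hB
  obtain ⟨c, hc, e⟩ := hT.map_prod g h
  exact ⟨a * b * c, mul_ne_zero (mul_ne_zero ha hb) hc, by
    rw [smul_mul_assoc, mul_smul_comm, e, smul_smul, smul_smul, mul_assoc]⟩

theorem IsLift.pow (hT : IsProj T) {g : G} {A : Module.End k V} (hA : IsLift T g A) :
    ∀ n : ℕ, IsLift T (g ^ n) (A ^ n)
  | 0 => by
    obtain ⟨c, hc, e⟩ := hT.map_one
    exact ⟨c⁻¹, inv_ne_zero hc, by rw [pow_zero, pow_zero, e, smul_smul, inv_mul_cancel₀ hc, one_smul]⟩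
  | n + 1 => by rw [pow_succ, pow_succ]; exact (IsLift.pow hT hA n).mul hT hA

theorem IsLift.eq_smul {g : G} {A B : Module.End k V} (hA : IsLift T g A) (hB : IsLift T g B) :
    ∃ c : k, c ≠ 0 ∧ B = c • A := by
  obtain ⟨a, ha, rfl⟩ := hA
  obtain ⟨b, hb, rfl⟩ := hB
  exact ⟨b * a⁻¹, mul_ne_zero hb (inv_ne_zero ha), by
    rw [smul_smul, mul_assoc, inv_mul_cancel₀ ha, mul_one]⟩

theorem IsLift.scalar_of_one (hT : IsProj T) {A : Module.End k V} (hA : IsLift T 1 A) :
    ∃ c : k, c ≠ 0 ∧ A = c • 1 := by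
  obtain ⟨a, ha, rfl⟩ := hA
  obtain ⟨c, hc, e⟩ := hT.map_one
  exact ⟨a * c, mul_ne_zero ha hc, by rw [e, smul_smul]⟩

/-- Lifts of elements with `h g = g' h`. -/
theorem IsProj.lift_comm (hT : IsProj T) {g g' h : G} (e : h * g = g' * h) {A B : Module.End k V}
    (hA : IsLift T g A) (hB : IsLift T g' B) :
    ∃ μ : k, μ ≠ 0 ∧ T h * A = μ • (B * T h) :=
  (hB.mul hT (IsLift.refl h)).eq_smul (e ▸ (IsLift.refl h).mul hT hA)

theorem exists_lift_pow [IsAlgClosed k] (hT : IsProj T) {g : G} {n : ℕ} (hn : 0 < n)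
    (hg : g ^ n = 1) : ∃ A, IsLift T g A ∧ A ^ n = 1 := by
  obtain ⟨c, hc, e⟩ := (hg ▸ (IsLift.refl g).pow hT n).scalar_of_one hT
  obtain ⟨z, hz⟩ := IsAlgClosed.exists_pow_nat_eq c⁻¹ hn
  have hz0 : z ≠ 0 := by
    rintro rfl
    rw [zero_pow hn.ne'] at hz
    exact inv_ne_zero hc hz.symm
  refine ⟨z • T g, (IsLift.refl g).smul hz0, ?_⟩
  rw [smul_pow, hz, e, smul_smul, inv_mul_cancel₀ hc, one_smul]

/-- The elements with scalar value. -/
def scalarSubgroup (hT : IsProj T) : Subgroup G where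
  carrier := {g | ∃ c : k, c ≠ 0 ∧ T g = c • 1}
  one_mem' := hT.map_one
  mul_mem' := by
    rintro a b ⟨x, hx, ex⟩ ⟨y, hy, ey⟩
    obtain ⟨c, hc, e⟩ := hT.map_mul a b
    exact ⟨c * (x * y), mul_ne_zero hc (mul_ne_zero hx hy), by
      rw [e, ex, ey, smul_mul_assoc, one_mul, smul_smul, smul_smul, mul_assoc]⟩
  inv_mem' := by
    rintro a ⟨x, hx, ex⟩
    obtain ⟨c, hc, e⟩ := hT.map_mul a a⁻¹
    obtain ⟨d, hd, ed⟩ := hT.map_one
    refine ⟨c⁻¹ * x⁻¹ * d, mul_ne_zero (mul_ne_zero (inv_ne_zero hc) (inv_ne_zero hx)) hd, ?_⟩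
    rw [mul_inv_cancel, ed, ex, smul_mul_assoc, one_mul, smul_smul] at e
    rw [mul_smul, e, smul_smul]
    rw [show c⁻¹ * x⁻¹ * (c * x) = 1 by field_simp, one_smul]

theorem mem_scalarSubgroup [Nontrivial V] (hT : IsProj T) {g : G} :
    g ∈ scalarSubgroup hT ↔ ∃ c : k, T g = c • 1 := by
  refine ⟨fun ⟨c, _, e⟩ => ⟨c, e⟩, fun ⟨c, e⟩ => ⟨c, ?_, e⟩⟩
  rintro rfl
  rw [zero_smul] at e
  exact not_isUnit_zero (e ▸ hT.isUnit g)

theorem scalarSubgroup_normal (hT : IsProj T) : (scalarSubgroup hT).Normal := by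
  refine ⟨fun g hg h => ?_⟩
  obtain ⟨c, hc, e⟩ := hg
  obtain ⟨μ, hμ, eμ⟩ := hT.lift_comm (h := h) (g := g) (g' := h * g * h⁻¹) (by group)
    (IsLift.refl g) (IsLift.refl _)
  obtain ⟨B, hB⟩ := (hT.isUnit h).exists_right_inv
  refine ⟨c * μ⁻¹, mul_ne_zero hc (inv_ne_zero hμ), ?_⟩
  have h2 := congrArg (fun X => μ⁻¹ • (X * B)) eμ
  simp only [smul_mul_assoc, smul_smul, inv_mul_cancel₀ hμ, one_smul] at h2
  rw [mul_assoc (T (h * g * h⁻¹)), hB, mul_one] at h2
  rw [← h2, e, mul_smul_comm, mul_one, smul_mul_assoc, hB, smul_smul, mul_comm c]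

theorem eq_one_of_scalar [Nontrivial V] [IsSimpleGroup G] (hT : IsProj T) (hns : ¬ AllScalar T)
    {g : G} {c : k} (h : T g = c • 1) : g = 1 := by
  haveI := scalarSubgroup_normal hT
  rcases (scalarSubgroup_normal hT).eq_bot_or_eq_top with hb | ht
  · have hg : g ∈ scalarSubgroup hT := (mem_scalarSubgroup hT).2 ⟨c, h⟩
    rw [hb] at hg
    exact Subgroup.mem_bot.1 hg
  · exact absurd (fun x => (mem_scalarSubgroup hT).1 (ht ▸ Subgroup.mem_top x)) hns

/-- A perfect group with commuting values is scalar. -/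
theorem allScalar_of_commute (hperf : commutator G = ⊤) (hT : IsProj T)
    (hc : ∀ g h, T g * T h = T h * T g) : AllScalar T := by
  suffices h : scalarSubgroup hT = ⊤ by
    intro g
    obtain ⟨c, -, e⟩ : g ∈ scalarSubgroup hT := h ▸ Subgroup.mem_top g
    exact ⟨c, e⟩
  rw [eq_top_iff, ← hperf, commutator_def, Subgroup.commutator_le]
  intro g _ h _
  obtain ⟨c, hc0, e⟩ := ((IsLift.refl g).mul hT (IsLift.refl h)).eq_smul
    (IsLift.refl (T := T) (g * h))
  obtain ⟨d, hd0, ed⟩ := ((IsLift.refl h).mul hT (IsLift.refl g)).eq_smul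
    (IsLift.refl (T := T) (h * g))
  obtain ⟨a, ha, ea⟩ := hT.map_mul ⁅g, h⁆ (h * g)
  rw [show ⁅g, h⁆ * (h * g) = g * h by group, e, ed, hc g h, mul_smul_comm, smul_smul] at ea
  obtain ⟨B, hB⟩ := ((hT.isUnit h).mul (hT.isUnit g)).exists_right_inv
  refine ⟨c * (a * d)⁻¹, mul_ne_zero hc0 (inv_ne_zero (mul_ne_zero ha hd0)), ?_⟩
  have h2 := congrArg (fun X => (a * d)⁻¹ • (X * B)) ea
  simp only [smul_mul_assoc, smul_smul] at h2
  rw [mul_assoc (T ⁅g, h⁆), hB, mul_one] at h2
  rw [inv_mul_cancel₀ (mul_ne_zero ha hd0), one_smul] at h2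
  rw [← h2, mul_comm c]

section Sub

variable {W : Submodule k V} (hW : ∀ g, ∀ w ∈ W, T g w ∈ W)

/-- Restriction to an invariant subspace. -/
def res (g : G) : Module.End k W := (T g).restrict (hW g)

/-- The induced function on the quotient by an invariant subspace. -/
def quo (g : G) : Module.End k (V ⧸ W) := W.mapQ W (T g) (hW g)

@[simp] theorem res_apply (g : G) (w : W) : ((res hW g w : W) : V) = T g w := rfl

@[simp] theorem quo_mk (g : G) (v : V) :
    quo hW g (Submodule.Quotient.mk v) = Submodule.Quotient.mk (T g v) := rfl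

variable [FiniteDimensional k V]

theorem IsProj.res (hT : IsProj T) : IsProj (res hW) := by
  refine ⟨fun g => ?_, fun g h => ?_⟩
  · rw [LinearMap.isUnit_iff_ker_eq_bot, LinearMap.ker_eq_bot]
    intro a b hab
    exact Subtype.ext ((Module.End.isUnit_iff (T g)).1 (hT.isUnit g) |>.1 (congrArg Subtype.val hab))
  · obtain ⟨c, hc, e⟩ := hT.map_mul g h
    refine ⟨c, hc, LinearMap.ext fun w => Subtype.ext ?_⟩
    simp [e]

theorem IsProj.quo (hT : IsProj T) : IsProj (quo hW) := by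
  refine ⟨fun g => ?_, fun g h => ?_⟩
  · rw [LinearMap.isUnit_iff_range_eq_top, LinearMap.range_eq_top]
    intro x
    obtain ⟨v, rfl⟩ := Submodule.Quotient.mk_surjective W x
    obtain ⟨u, rfl⟩ := ((Module.End.isUnit_iff (T g)).1 (hT.isUnit g)).2 v
    exact ⟨Submodule.Quotient.mk u, rfl⟩
  · obtain ⟨c, hc, e⟩ := hT.map_mul g h
    refine ⟨c, hc, LinearMap.ext fun x => ?_⟩
    obtain ⟨v, rfl⟩ := Submodule.Quotient.mk_surjective W x
    simp [e]

/-- A perfect group scalar on a subspace and on the quotient is scalar. -/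
theorem allScalar_of_res_quo (hperf : commutator G = ⊤) (hT : IsProj T)
    (h1 : AllScalar (res hW)) (h2 : AllScalar (quo hW)) : AllScalar T := by
  have e1 : ∀ g, ∃ a : k, ∀ w ∈ W, T g w = a • w := fun g => by
    obtain ⟨a, ha⟩ := h1 g
    exact ⟨a, fun w hw => by simpa using congrArg (fun f => ((f ⟨w, hw⟩ : W) : V)) ha⟩
  have e2 : ∀ g, ∃ b : k, ∀ v, T g v - b • v ∈ W := fun g => by
    obtain ⟨b, hb⟩ := h2 g
    refine ⟨b, fun v => ?_⟩
    rw [← Submodule.Quotient.eq]
    simpa using congrArg (fun f => f (Submodule.Quotient.mk v)) hb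
  let P : G → Prop := fun g =>
    ∃ a : k, a ≠ 0 ∧ (∀ w ∈ W, T g w = a • w) ∧ ∀ v, T g v - a • v ∈ W
  let S : Subgroup G :=
    { carrier := {g | P g}
      one_mem' := by
        obtain ⟨c, hc, e⟩ := hT.map_one
        exact ⟨c, hc, fun w _ => by simp [e], fun v => by simp [e]⟩
      mul_mem' := by
        rintro g h ⟨a, ha, a1, a2⟩ ⟨b, hb, b1, b2⟩
        obtain ⟨c, hc, e⟩ := hT.map_mul g h
        refine ⟨c * (a * b), mul_ne_zero hc (mul_ne_zero ha hb), fun w hw => ?_, fun v => ?_⟩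
        · simp [e, b1 w hw, a1 w hw, smul_smul, mul_comm, mul_left_comm]
        · have key : T (g * h) v - (c * (a * b)) • v =
              c • (T g (T h v - b • v) + b • (T g v - a • v)) := by
            simp only [e, LinearMap.smul_apply, Module.End.mul_apply, map_sub, map_smul, smul_add,
              smul_sub, smul_smul, mul_comm, mul_left_comm]
            abel
          rw [key]
          exact W.smul_mem c (W.add_mem (hW g _ (b2 v)) (W.smul_mem b (a2 v)))
      inv_mem' := by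
        rintro g ⟨a, ha, a1, a2⟩
        obtain ⟨c, hc, e⟩ := hT.map_mul g g⁻¹
        obtain ⟨d, hd, ed⟩ := hT.map_one
        rw [mul_inv_cancel, ed] at e
        have he : ∀ v, T g (T g⁻¹ v) = (c⁻¹ * d) • v := fun v => by
          have := congrArg (fun f => f v) e
          simp only [LinearMap.smul_apply, Module.End.one_apply, Module.End.mul_apply] at this
          rw [mul_smul, this, smul_smul, inv_mul_cancel₀ hc, one_smul]
        refine ⟨a⁻¹ * (c⁻¹ * d), mul_ne_zero (inv_ne_zero ha) (mul_ne_zero (inv_ne_zero hc) hd),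
          fun w hw => ?_, fun v => ?_⟩
        · rw [mul_smul, ← he w, a1 _ (hW g⁻¹ w hw), smul_smul, inv_mul_cancel₀ ha, one_smul]
        · have h3 := W.smul_mem (-a⁻¹) (a2 (T g⁻¹ v))
          rw [he v] at h3
          convert h3 using 1
          rw [smul_sub, neg_smul, neg_smul, smul_smul, smul_smul, inv_mul_cancel₀ ha, one_smul]
          abel }
  have hS : S = ⊤ := by
    rw [eq_top_iff, ← hperf, commutator_def, Subgroup.commutator_le]
    intro g _ h _
    obtain ⟨a, ha⟩ := e1 g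
    obtain ⟨b, hb⟩ := e1 h
    obtain ⟨a', ha'⟩ := e2 g
    obtain ⟨b', hb'⟩ := e2 h
    obtain ⟨c, hc, ec⟩ := hT.map_prod g h
    obtain ⟨d, hd, ed⟩ := hT.map_prod h g
    obtain ⟨m, hm, em⟩ := hT.map_mul ⁅g, h⁆ (h * g)
    rw [show ⁅g, h⁆ * (h * g) = g * h by group] at em
    have hrel : ∀ v, T g (T h v) = (c * m * d⁻¹) • T ⁅g, h⁆ (T h (T g v)) := fun v => by
      have x1 := congrArg (fun f => f v) ec
      have x2 := congrArg (fun f => f v) ed
      simp only [LinearMap.smul_apply, Module.End.mul_apply] at x1 x2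
      rw [x1, em, x2, map_smul, LinearMap.smul_apply, Module.End.mul_apply, smul_smul, smul_smul,
        mul_assoc (c * m), inv_mul_cancel₀ hd, mul_one]
    have hs : c * m * d⁻¹ ≠ 0 := mul_ne_zero (mul_ne_zero hc hm) (inv_ne_zero hd)
    refine ⟨(c * m * d⁻¹)⁻¹, inv_ne_zero hs, fun w hw => ?_, fun v => ?_⟩
    · obtain ⟨u, hu⟩ := (LinearMap.injective_iff_surjective (f := res hW h * res hW g)).1
        ((Module.End.isUnit_iff _).1 (((hT.res hW).isUnit h).mul ((hT.res hW).isUnit g))).1 ⟨w, hw⟩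
      have huw : T h (T g (u : V)) = w := congrArg Subtype.val hu
      have h1 := hrel u
      rw [huw] at h1
      have h3 : T g (T h (u : V)) = T h (T g (u : V)) := by
        rw [hb _ u.2, map_smul, ha _ u.2, map_smul, hb _ u.2, smul_smul, smul_smul, mul_comm]
      rw [h3, huw] at h1
      conv_rhs => rw [h1, smul_smul, inv_mul_cancel₀ hs, one_smul]
    · obtain ⟨u, rfl⟩ :=
        ((Module.End.isUnit_iff _).1 ((hT.isUnit h).mul (hT.isUnit g))).2 v
      have h3 : T g (T h u) - T h (T g u) ∈ W := by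
        rw [← Submodule.Quotient.eq]
        have q1 : ∀ x, (Submodule.Quotient.mk (T g x) : V ⧸ W) = a' • Submodule.Quotient.mk x :=
          fun x => by rw [← Submodule.Quotient.mk_smul, Submodule.Quotient.eq]; exact ha' x
        have q2 : ∀ x, (Submodule.Quotient.mk (T h x) : V ⧸ W) = b' • Submodule.Quotient.mk x :=
          fun x => by rw [← Submodule.Quotient.mk_smul, Submodule.Quotient.eq]; exact hb' x
        rw [q1, q2, q2, q1, smul_comm]
      rw [hrel u] at h3
      have h4 := W.smul_mem (c * m * d⁻¹)⁻¹ h3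
      rwa [smul_sub, smul_smul, inv_mul_cancel₀ hs, one_smul] at h4
  refine allScalar_of_commute hperf hT fun g h => LinearMap.ext fun v => ?_
  obtain ⟨a, -, a1, a2⟩ : g ∈ S := hS ▸ Subgroup.mem_top g
  obtain ⟨b, -, b1, b2⟩ : h ∈ S := hS ▸ Subgroup.mem_top h
  have x1 : T g (T h v - b • v) = a • (T h v - b • v) := a1 _ (b2 v)
  have x2 : T h (T g v - a • v) = b • (T g v - a • v) := b1 _ (a2 v)
  rw [map_sub, map_smul, sub_eq_iff_eq_add] at x1 x2
  simp only [Module.End.mul_apply]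
  rw [x1, x2]
  simp only [smul_sub, smul_smul, mul_comm]
  abel

end Sub

theorem scalarOn_iff [FiniteDimensional k V] {W : Submodule k V}
    (hW : ∀ g, ∀ w ∈ W, T g w ∈ W) : ScalarOn T W ↔ AllScalar (res hW) := by
  constructor
  · intro h g
    obtain ⟨c, hc⟩ := h g
    exact ⟨c, LinearMap.ext fun w => Subtype.ext (by simpa using hc w w.2)⟩
  · intro h g
    obtain ⟨c, hc⟩ := h g
    exact ⟨c, fun w hw => by simpa using congrArg (fun f => ((f ⟨w, hw⟩ : W) : V)) hc⟩

/-- Scalar on two subspaces, scalar on their sum, for a perfect group. -/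
theorem scalarOn_sup [FiniteDimensional k V] (hperf : commutator G = ⊤) (hT : IsProj T)
    {A B : Submodule k V} (hA : ScalarOn T A) (hB : ScalarOn T B) : ScalarOn T (A ⊔ B) := by
  have inv : ∀ g, ∀ w ∈ A ⊔ B, T g w ∈ A ⊔ B := fun g w hw => by
    obtain ⟨x, hx, y, hy, rfl⟩ := Submodule.mem_sup.1 hw
    obtain ⟨a, ha⟩ := hA g
    obtain ⟨b, hb⟩ := hB g
    rw [map_add, ha x hx, hb y hy]
    exact Submodule.add_mem_sup (A.smul_mem a hx) (B.smul_mem b hy)
  rw [scalarOn_iff inv]
  refine allScalar_of_commute hperf (hT.res inv) fun g h => LinearMap.ext fun w => Subtype.ext ?_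
  obtain ⟨x, hx, y, hy, e⟩ := Submodule.mem_sup.1 w.2
  obtain ⟨a, ha⟩ := hA g
  obtain ⟨b, hb⟩ := hB g
  obtain ⟨a', ha'⟩ := hA h
  obtain ⟨b', hb'⟩ := hB h
  simp only [Module.End.mul_apply, res_apply, ← e, map_add, ha' x hx, hb' y hy, map_smul, ha x hx,
    hb y hy, smul_smul, mul_comm]

end CfsgLib.AltDegree
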