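import Cfsg.Agent.Lib.AltDegree.Alt

/-!
# Irreducible projective representations in which three-cycles have rank two

If every canonical lift `C` of a three-cycle has `C - 1` of rank two, and the elements fixing the
three points act as scalars on the image, the degree is at least that of the heart of the
permutation module.
-/

set_option autoImplicit false
set_option linter.unusedSectionVars false
set_option linter.style.haveILetI false

namespace CfsgLib.AltDegree

open Equiv Equiv.Perm

variable {k : Type*} [Field k] {V : Type*} [AddCommGroup V] [Module k V]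
variable {Ω : Type*} [Fintype Ω] [DecidableEq Ω] {T : alternatingGroup Ω → Module.End k V}

/-- Three distinct points. -/
def D3 (a b c : Ω) : Prop := a ≠ b ∧ a ≠ c ∧ b ≠ c

theorem D3.rot {a b c : Ω} (h : D3 a b c) : D3 b c a := ⟨h.2.2, h.1.symm, h.2.1.symm⟩

theorem D3.swap {a b c : Ω} (h : D3 a b c) : D3 b a c := ⟨h.1.symm, h.2.2, h.2.1⟩

theorem D3.map {a b c : Ω} (h : D3 a b c) (x : Perm Ω) : D3 (x a) (x b) (x c) :=
  ⟨x.injective.ne h.1, x.injective.ne h.2.1, x.injective.ne h.2.2⟩

theorem exists_fresh (l : List Ω) (h : l.length < Fintype.card Ω) : ∃ x, ∀ y ∈ l, x ≠ y := by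
  obtain ⟨x, hx⟩ : ∃ x, x ∉ l.toFinset := by
    by_contra hc
    push Not at hc
    have := Finset.card_le_card (show (Finset.univ : Finset Ω) ⊆ l.toFinset from fun x _ => hc x)
    have := l.toFinset_card_le
    rw [Finset.card_univ] at *
    omega
  exact ⟨x, fun y hy e => hx (e ▸ List.mem_toFinset.2 hy)⟩

/-- The dimension of the heart of the permutation module. -/
def tgt (k : Type*) [Field k] [DecidableEq k] (r : ℕ) : ℕ := r - 1 - if (r : k) = 0 then 1 else 0

/-- Irreducibility. -/
def Irred (T : alternatingGroup Ω → Module.End k V) : Prop :=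
  ∀ W : Submodule k V, (∀ g, ∀ w ∈ W, T g w ∈ W) → W = ⊥ ∨ W = ⊤

theorem invariant_of_threeCycle (hT : IsProj T) {W : Submodule k V}
    (h : ∀ a b c, D3 a b c → ∀ w ∈ W, T (cyc a b c) w ∈ W) : ∀ g, ∀ w ∈ W, T g w ∈ W := by
  intro g
  have hg : g ∈ Submonoid.closure {x : alternatingGroup Ω | (x : Perm Ω).IsThreeCycle} := by
    rw [← Subgroup.closure_toSubmonoid_of_finite, closure_cyc]
    exact Subgroup.mem_top g
  induction hg using Submonoid.closure_induction with
  | mem x hx =>
    obtain ⟨a, b, c, hab, hac, hbc, e⟩ := exists_cyc hx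
    rw [e]
    exact h a b c ⟨hab, hac, hbc⟩
  | one =>
    intro w hw
    obtain ⟨c, -, e⟩ := hT.map_one
    rw [e, LinearMap.smul_apply, Module.End.one_apply]
    exact W.smul_mem c hw
  | mul x y _ _ hx hy =>
    intro w hw
    obtain ⟨c, -, e⟩ := hT.map_mul x y
    rw [e, LinearMap.smul_apply, Module.End.mul_apply]
    exact W.smul_mem c (hx _ (hy w hw))

theorem T_injective (hT : IsProj T) (g : alternatingGroup Ω) : Function.Injective (T g) :=
  ((Module.End.isUnit_iff _).1 (hT.isUnit g)).1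

/-- A proper nonzero family indexed by triples cannot agree on two adjacent triples. -/
theorem false_of_adjacent (hT : IsProj T) (hirr : Irred T) (hr : 9 ≤ Fintype.card Ω)
    (U : Ω → Ω → Ω → Submodule k V)
    (hmap : ∀ (h : alternatingGroup Ω) a b c, D3 a b c →
      (U a b c).map (T h) = U ((h : Perm Ω) a) ((h : Perm Ω) b) ((h : Perm Ω) c))
    (hrot : ∀ a b c, D3 a b c → U b c a = U a b c) (hswap : ∀ a b c, D3 a b c → U b a c = U a b c)
    {a b c d : Ω} (h3 : D3 a b c) (hd : d ≠ a ∧ d ≠ b ∧ d ≠ c)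
    (hne : U a b c ≠ ⊥ ∧ U a b c ≠ ⊤) (e : U a b c = U a b d) : False := by
  obtain ⟨hab, hac, hbc⟩ := h3
  have s1 : ∀ x, x ≠ a → x ≠ b → x ≠ c → U a b x = U a b c := by
    intro x hxa hxb hxc
    by_cases hxd : x = d
    · rw [hxd, ← e]
    obtain ⟨f, hf⟩ := exists_fresh [a, b, c, d, x] (by simp; omega)
    simp only [List.mem_cons, List.not_mem_nil, or_false, forall_eq_or_imp, forall_eq] at hf
    obtain ⟨hfa, hfb, hfc, hfd, hfx⟩ := hf
    have e1 := hmap (cyc d x f) a b c ⟨hab, hac, hbc⟩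
    have e2 := hmap (cyc d x f) a b d ⟨hab, hd.1.symm, hd.2.1.symm⟩
    rw [cyc_apply_of_notMem (Ne.symm hxd) hfx.symm hd.1.symm hxa.symm hfa.symm,
      cyc_apply_of_notMem (Ne.symm hxd) hfx.symm hd.2.1.symm hxb.symm hfb.symm] at e1 e2
    rw [cyc_apply_of_notMem (Ne.symm hxd) hfx.symm hd.2.2.symm hxc.symm hfc.symm] at e1
    rw [cyc_apply_left (Ne.symm hxd) hfd.symm hfx.symm, ← e, e1] at e2
    exact e2.symm
  have s2 : ∀ x, x ≠ a → x ≠ b → x ≠ c → U b c x = U a b c ∧ U c a x = U a b c := by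
    intro x hxa hxb hxc
    have key : ∀ p q s, D3 p q s → U p q s = U a b c → x ≠ p → x ≠ q → x ≠ s →
        U p q x = U a b c → U q s x = U a b c := by
      intro p q s hpqs es hxp hxq hxs ex
      have e1 := hmap (cyc p q s) p q s hpqs
      have e2 := hmap (cyc p q s) p q x ⟨hpqs.1, hxp.symm, hxq.symm⟩
      rw [cyc_apply_left hpqs.1 hpqs.2.1 hpqs.2.2, cyc_apply_mid hpqs.1 hpqs.2.1 hpqs.2.2] at e1 e2
      rw [cyc_apply_right hpqs.1 hpqs.2.2, hrot p q s hpqs] at e1
      rw [cyc_apply_of_notMem hpqs.1 hpqs.2.2 hxp hxq hxs, ex, ← es, e1] at e2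
      rw [← e2, es]
    have h1 := key a b c ⟨hab, hac, hbc⟩ rfl hxa hxb hxc (s1 x hxa hxb hxc)
    exact ⟨h1, key b c a ⟨hbc, hab.symm, hac.symm⟩ (hrot a b c ⟨hab, hac, hbc⟩) hxb hxc hxa h1⟩
  have hinv : ∀ p q s, D3 p q s → ∀ w ∈ U a b c, T (cyc p q s) w ∈ U a b c := by
    intro p q s hpqs w hw
    -- find a member of the family with the same span which is mapped to itself
    obtain ⟨hpq, hps, hqs⟩ := hpqs
    suffices h : ∃ x y z, D3 x y z ∧ U x y z = U a b c ∧
        U ((cyc p q s : Perm Ω) x) ((cyc p q s : Perm Ω) y) ((cyc p q s : Perm Ω) z) = U a b c by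
      obtain ⟨x, y, z, hxyz, e1, e2⟩ := h
      have := hmap (cyc p q s) x y z hxyz
      rw [e1, e2] at this
      exact this ▸ Submodule.mem_map_of_mem hw
    -- either the cycle permutes a triple of the family or fixes one
    by_cases hself : U p q s = U a b c
    · refine ⟨p, q, s, ⟨hpq, hps, hqs⟩, hself, ?_⟩
      rw [cyc_apply_left hpq hps hqs, cyc_apply_mid hpq hps hqs, cyc_apply_right hpq hqs,
        hrot p q s ⟨hpq, hps, hqs⟩, hself]
    obtain ⟨x, hx⟩ := exists_fresh [a, b, c, p, q, s] (by simp; omega)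
    simp only [List.mem_cons, List.not_mem_nil, or_false, forall_eq_or_imp, forall_eq] at hx
    obtain ⟨hxa, hxb, hxc, hxp, hxq, hxs⟩ := hx
    have fx : ∀ z, z ≠ p → z ≠ q → z ≠ s → (cyc p q s : Perm Ω) z = z := fun z h1 h2 h3 =>
      cyc_apply_of_notMem hpq hqs h1 h2 h3
    by_cases hA : a ≠ p ∧ a ≠ q ∧ a ≠ s
    · by_cases hB : b ≠ p ∧ b ≠ q ∧ b ≠ s
      · refine ⟨a, b, x, ⟨hab, hxa.symm, hxb.symm⟩, s1 x hxa hxb hxc, ?_⟩
        rw [fx a hA.1 hA.2.1 hA.2.2, fx b hB.1 hB.2.1 hB.2.2, fx x hxp hxq hxs, s1 x hxa hxb hxc]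
      · by_cases hC : c ≠ p ∧ c ≠ q ∧ c ≠ s
        · refine ⟨c, a, x, ⟨hac.symm, hxc.symm, hxa.symm⟩, (s2 x hxa hxb hxc).2, ?_⟩
          rw [fx c hC.1 hC.2.1 hC.2.2, fx a hA.1 hA.2.1 hA.2.2, fx x hxp hxq hxs,
            (s2 x hxa hxb hxc).2]
        · exfalso
          apply hself
          -- `b` and `c` are in the cycle
          grind [D3]
    · by_cases hB : b ≠ p ∧ b ≠ q ∧ b ≠ s
      · by_cases hC : c ≠ p ∧ c ≠ q ∧ c ≠ s
        · refine ⟨b, c, x, ⟨hbc, hxb.symm, hxc.symm⟩, (s2 x hxa hxb hxc).1, ?_⟩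
          rw [fx b hB.1 hB.2.1 hB.2.2, fx c hC.1 hC.2.1 hC.2.2, fx x hxp hxq hxs,
            (s2 x hxa hxb hxc).1]
        · exfalso
          apply hself
          grind [D3]
      · exfalso
        apply hself
        grind [D3]
  rcases hirr _ (invariant_of_threeCycle hT hinv) with h | h
  · exact hne.1 h
  · exact hne.2 h

theorem T_inj_aux {B : Module.End k V} (hB : B ^ 3 = 1) {y : V} (h : B (B y) = B y) : B y = y := by
  have e : ∀ z, (B ^ 2) (B z) = z := fun z => by
    rw [← Module.End.mul_apply, ← pow_succ, hB, Module.End.one_apply]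
  calc B y = (B ^ 2) (B (B y)) := (e _).symm
    _ = y := by rw [h, e]

theorem canon_inv [IsAlgClosed k] [Nontrivial V] {G : Type*} [Group G] {T : G → Module.End k V}
    (hT : IsProj T) {g : G} (hg : Good g 3) (hg' : Good g⁻¹ 3) :
    canon T g⁻¹ 3 = canon T g 3 ^ 2 := by
  obtain ⟨hA, hA3, hinv⟩ := canon_spec (T := T) hT hg
  refine canon_eq hT hg' ⟨?_, by rw [← pow_mul, show 2 * 3 = 3 * 2 from rfl, pow_mul, hA3, one_pow],
    fun h hh => ?_⟩
  · have h2 : g ^ 2 = g⁻¹ := eq_inv_of_mul_eq_one_left (by rw [← pow_succ]; exact hg.pow_eq)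
    exact h2 ▸ hA.pow hT 2
  · have h1 : h * g = g⁻¹ * h := by
      rw [inv_inv] at hh
      calc h * g = g⁻¹ * (g * h) * g := by group
        _ = g⁻¹ * (h * g⁻¹) * g := by rw [hh]
        _ = g⁻¹ * h := by group
    have e := hinv h h1
    norm_num at e ⊢
    rw [pow_two (canon T g 3), ← mul_assoc, e, mul_assoc, e, ← mul_assoc, ← pow_two, ← pow_two,
      ← pow_mul]

section Main

variable [IsAlgClosed k] [FiniteDimensional k V] [Nontrivial V]

/-- The image of `C - 1`, `C` the canonical lift of a three-cycle. -/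
noncomputable def img (T : alternatingGroup Ω → Module.End k V) (a b c : Ω) : Submodule k V :=
  LinearMap.range (canon T (cyc a b c) 3 - 1)

/-- The vectors fixed by the canonical lift of a three-cycle. -/
noncomputable def fixv (T : alternatingGroup Ω → Module.End k V) (a b c : Ω) : Submodule k V :=
  LinearMap.ker (canon T (cyc a b c) 3 - 1)

variable (hT : IsProj T) (hr : 9 ≤ Fintype.card Ω)
include hT hr

theorem canon_map (h : alternatingGroup Ω) {a b c : Ω} (h3 : D3 a b c) :
    T h * canon T (cyc a b c) 3 =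
      canon T (cyc ((h : Perm Ω) a) ((h : Perm Ω) b) ((h : Perm Ω) c)) 3 * T h := by
  have h3' := h3.map (h : Perm Ω)
  exact canon_conj hT (good_cyc h3.1 h3.2.1 h3.2.2 (by omega))
    (good_cyc h3'.1 h3'.2.1 h3'.2.2 (by omega)) (cyc_conj h h3.1 h3.2.2)

theorem img_map (h : alternatingGroup Ω) {a b c : Ω} (h3 : D3 a b c) :
    (img T a b c).map (T h) = img T ((h : Perm Ω) a) ((h : Perm Ω) b) ((h : Perm Ω) c) := by
  have hs : LinearMap.range (T h) = ⊤ :=
    LinearMap.range_eq_top.2 ((Module.End.isUnit_iff _).1 (hT.isUnit h)).2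
  have e : T h * (canon T (cyc a b c) 3 - 1) =
      (canon T (cyc ((h : Perm Ω) a) ((h : Perm Ω) b) ((h : Perm Ω) c)) 3 - 1) * T h := by
    rw [mul_sub, sub_mul, canon_map hT hr h h3, mul_one, one_mul]
  rw [img, img, ← LinearMap.range_comp, ← Module.End.mul_eq_comp, e, Module.End.mul_eq_comp,
    LinearMap.range_comp, hs, Submodule.map_top]

theorem fixv_map (h : alternatingGroup Ω) {a b c : Ω} (h3 : D3 a b c) :
    (fixv T a b c).map (T h) = fixv T ((h : Perm Ω) a) ((h : Perm Ω) b) ((h : Perm Ω) c) := by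
  have e : ∀ v, T h (canon T (cyc a b c) 3 v - v) =
      canon T (cyc ((h : Perm Ω) a) ((h : Perm Ω) b) ((h : Perm Ω) c)) 3 (T h v) - T h v := by
    intro v
    have := congrArg (fun f => f v) (canon_map hT hr h h3)
    simp only [Module.End.mul_apply] at this
    rw [map_sub, this]
  refine le_antisymm ?_ ?_
  · rintro _ ⟨v, hv, rfl⟩
    simp only [fixv, SetLike.mem_coe, LinearMap.mem_ker, LinearMap.sub_apply,
      Module.End.one_apply] at hv ⊢
    rw [← e, hv, map_zero]
  · intro v hv
    obtain ⟨u, rfl⟩ := ((Module.End.isUnit_iff _).1 (hT.isUnit h)).2 v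
    simp only [fixv, LinearMap.mem_ker, LinearMap.sub_apply, Module.End.one_apply] at hv
    rw [← e] at hv
    refine ⟨u, ?_, rfl⟩
    simp only [fixv, SetLike.mem_coe, LinearMap.mem_ker, LinearMap.sub_apply, Module.End.one_apply]
    exact T_injective hT h (hv.trans (map_zero _).symm)

theorem canon_cyc_pow {a b c : Ω} (h3 : D3 a b c) : canon T (cyc a b c) 3 ^ 3 = 1 :=
  (canon_spec hT (good_cyc h3.1 h3.2.1 h3.2.2 (by omega))).2.1

theorem canon_swap {a b c : Ω} (h3 : D3 a b c) :
    canon T (cyc b a c) 3 = canon T (cyc a b c) 3 ^ 2 := by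
  have h1 := good_cyc h3.1 h3.2.1 h3.2.2 (by omega)
  have h2 := good_cyc h3.swap.1 h3.swap.2.1 h3.swap.2.2 (by omega)
  rw [cyc_swap h3.1 h3.2.1 h3.2.2] at h2 ⊢
  exact canon_inv hT h1 h2

theorem img_swap {a b c : Ω} (h3 : D3 a b c) : img T b a c = img T a b c := by
  have h := canon_cyc_pow hT hr h3
  rw [img, img, canon_swap hT hr h3]
  set A := canon T (cyc a b c) 3
  refine le_antisymm ?_ ?_
  · rw [show A ^ 2 - 1 = (A - 1) * (A + 1) by simp [pow_two, sub_mul, mul_add],
      Module.End.mul_eq_comp]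
    exact LinearMap.range_comp_le_range _ _
  · have e : (A ^ 2 - 1) * (A ^ 2 + 1) = A - 1 := by
      rw [sub_mul, mul_add, mul_one, one_mul, ← pow_add, show 2 + 2 = 3 + 1 from rfl, pow_succ, h,
        one_mul]
      abel
    conv_lhs => rw [← e, Module.End.mul_eq_comp]
    exact LinearMap.range_comp_le_range _ _

theorem fixv_swap {a b c : Ω} (h3 : D3 a b c) : fixv T b a c = fixv T a b c := by
  have h := canon_cyc_pow hT hr h3
  rw [fixv, fixv, canon_swap hT hr h3]
  set A := canon T (cyc a b c) 3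
  ext v
  simp only [LinearMap.mem_ker, LinearMap.sub_apply, Module.End.one_apply, sub_eq_zero]
  constructor
  · intro hv
    calc A v = (A ^ 2 * A ^ 2) v := by
          rw [← pow_add, show 2 + 2 = 3 + 1 from rfl, pow_succ, h, one_mul]
      _ = v := by rw [Module.End.mul_apply, hv, hv]
  · intro hv
    rw [pow_two, Module.End.mul_apply, hv, hv]

theorem img_rot {a b c : Ω} (h3 : D3 a b c) : img T b c a = img T a b c := by
  rw [img, img, cyc_rot h3.1 h3.2.1 h3.2.2]

theorem fixv_rot {a b c : Ω} (h3 : D3 a b c) : fixv T b c a = fixv T a b c := by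
  rw [fixv, fixv, cyc_rot h3.1 h3.2.1 h3.2.2]

end Main

section Lines

variable [IsAlgClosed k] [FiniteDimensional k V]

/-- Adjacent images of small rank meet. -/
theorem meet_ne_bot [IsAlgClosed k] [FiniteDimensional k V] (hT : IsProj T) (hirr : Irred T)
    (hr : 9 ≤ Fintype.card Ω) {a b c d : Ω} (h3 : D3 a b c) (hda : d ≠ a) (hdb : d ≠ b)
    (hdc : d ≠ c) {R : ℕ} (hR : Module.finrank k (img T a b c) = R) (hR0 : 0 < R)
    (hn : 2 * R < Module.finrank k V) : img T a b c ⊓ img T a b d ≠ ⊥ := by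
  haveI : Nontrivial V := Module.nontrivial_of_finrank_pos (R := k) (by omega)
  intro e
  have hR' : Module.finrank k (img T a b d) = R := by
    obtain ⟨f, hf⟩ := exists_fresh [a, b, c, d] (by simp; omega)
    simp only [List.mem_cons, List.not_mem_nil, or_false, forall_eq_or_imp, forall_eq] at hf
    have h := img_map hT hr (cyc c d f) h3
    rw [cyc_apply_of_notMem hdc.symm hf.2.2.2.symm h3.2.1 hda.symm hf.1.symm,
      cyc_apply_of_notMem hdc.symm hf.2.2.2.symm h3.2.2 hdb.symm hf.2.1.symm,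
      cyc_apply_left hdc.symm hf.2.2.1.symm hf.2.2.2.symm] at h
    rw [← h, ← hR]
    exact ((img T a b c).equivMapOfInjective _ (T_injective hT _)).finrank_eq.symm
  have h3' : D3 a b d := ⟨h3.1, hda.symm, hdb.symm⟩
  set A := canon T (cyc a b c) 3 with hA
  set B := canon T (cyc a b d) 3 with hB
  have hA3 : A ^ 3 = 1 := canon_cyc_pow hT hr h3
  have hB3 : B ^ 3 = 1 := canon_cyc_pow hT hr h3'
  obtain ⟨ζ, -, hζ⟩ : ∃ ζ : k, ζ ≠ 0 ∧ (A * B) * (A * B) = ζ • 1 := by
    have hl := ((canon_spec hT (good_cyc h3.1 h3.2.1 h3.2.2 (by omega))).1.mul hT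
      (canon_spec hT (good_cyc h3'.1 h3'.2.1 h3'.2.2 (by omega))).1)
    have hl2 := hl.mul hT hl
    rw [cyc_pair_sq h3.1 h3.2.1 h3.2.2 hda.symm hdb.symm hdc.symm] at hl2
    exact hl2.scalar_of_one hT
  have hker : ∀ x y z, D3 x y z → Module.finrank k (img T x y z) = R →
      Module.finrank k (fixv T x y z) + R = Module.finrank k V := by
    intro x y z hxyz e2
    have := LinearMap.finrank_range_add_finrank_ker (canon T (cyc x y z) 3 - 1)
    rw [img] at e2
    rw [fixv]; omega
  have hcap : fixv T a b c ⊓ fixv T a b d ≠ ⊥ := by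
    intro hbot
    have := Submodule.finrank_sup_add_finrank_inf_eq (fixv T a b c) (fixv T a b d)
    rw [hbot, finrank_bot] at this
    have := (fixv T a b c ⊔ fixv T a b d).finrank_le
    have := hker a b c h3 hR
    have := hker a b d h3' hR'
    omega
  obtain ⟨v, ⟨hv1, hv2⟩, hv0⟩ := Submodule.exists_mem_ne_zero_of_ne_bot hcap
  simp only [fixv, LinearMap.mem_ker, LinearMap.sub_apply, Module.End.one_apply, sub_eq_zero,
    SetLike.mem_coe] at hv1 hv2
  rw [← hA] at hv1
  rw [← hB] at hv2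
  have hζ1 : ζ = 1 := by
    have := congrArg (fun f => f v) hζ
    simp only [Module.End.mul_apply, LinearMap.smul_apply, Module.End.one_apply, hv1, hv2] at this
    exact smul_left_injective k hv0 (this.symm.trans (one_smul k v).symm)
  rw [hζ1, one_smul] at hζ
  have hle : fixv T a b c ≤ fixv T a b d := by
    intro y hy
    simp only [fixv, LinearMap.mem_ker, LinearMap.sub_apply, Module.End.one_apply,
      sub_eq_zero, ← hA, ← hB] at hy ⊢
    have e1 : A * B * A = B ^ 2 :=
      calc A * B * A = A * B * A * B ^ 3 := by rw [hB3, mul_one]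
        _ = (A * B) * (A * B) * B ^ 2 := by rw [pow_succ' B 2]; simp only [mul_assoc]
        _ = B ^ 2 := by rw [hζ, one_mul]
    have e2 : A (B y) = B (B y) := by
      have := congrArg (fun f => f y) e1
      simpa [Module.End.mul_apply, hy, pow_two] using this
    have m1 : A (B y) - B y ∈ img T a b c := ⟨B y, by simp [hA]⟩
    have m2 : A (B y) - B y ∈ img T a b d :=
      ⟨B y, by rw [LinearMap.sub_apply, Module.End.one_apply, ← hB, e2]⟩
    have h0 : A (B y) - B y = 0 := by
      have hm : A (B y) - B y ∈ (⊥ : Submodule k V) := e ▸ ⟨m1, m2⟩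
      exact (Submodule.mem_bot k).1 hm
    have h0' : B (B y) = B y := sub_eq_zero.1 (e2 ▸ h0)
    exact T_inj_aux (hB3) h0'
  have heq : fixv T a b c = fixv T a b d :=
    Submodule.eq_of_le_of_finrank_eq hle (by have := hker a b c h3 hR; have := hker a b d h3' hR'; omega)
  have hne' : fixv T a b c ≠ ⊥ ∧ fixv T a b c ≠ ⊤ := by
    constructor <;> intro e' <;> have := hker a b c h3 hR <;> rw [e'] at this <;>
      simp [finrank_bot, finrank_top] at this <;> omega
  exact false_of_adjacent hT hirr hr (fixv T) (fun h a b c h3 => fixv_map hT hr h h3)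
    (fun a b c h3 => fixv_rot hT hr h3) (fun a b c h3 => fixv_swap hT hr h3) h3
    ⟨hda, hdb, hdc⟩ hne' heq

/-- Three-cycles do not have rank one. -/
theorem rank_ne_one [IsAlgClosed k] [FiniteDimensional k V] (hT : IsProj T) (hirr : Irred T)
    (hr : 9 ≤ Fintype.card Ω) {a b c : Ω} (h3 : D3 a b c) (hn : 3 ≤ Module.finrank k V) :
    Module.finrank k (img T a b c) ≠ 1 := by
  intro h1
  haveI : Nontrivial V := Module.nontrivial_of_finrank_pos (R := k) (by omega)
  obtain ⟨d, hd⟩ := exists_fresh [a, b, c] (by simp; omega)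
  simp only [List.mem_cons, List.not_mem_nil, or_false, forall_eq_or_imp, forall_eq] at hd
  obtain ⟨f, hf⟩ := exists_fresh [a, b, c, d] (by simp; omega)
  simp only [List.mem_cons, List.not_mem_nil, or_false, forall_eq_or_imp, forall_eq] at hf
  have h := img_map hT hr (cyc c d f) h3
  rw [cyc_apply_of_notMem hd.2.2.symm hf.2.2.2.symm h3.2.1 hd.1.symm hf.1.symm,
    cyc_apply_of_notMem hd.2.2.symm hf.2.2.2.symm h3.2.2 hd.2.1.symm hf.2.1.symm,
    cyc_apply_left hd.2.2.symm hf.2.2.1.symm hf.2.2.2.symm] at h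
  have h1' : Module.finrank k (img T a b d) = 1 := by
    rw [← h, ← h1]
    exact ((img T a b c).equivMapOfInjective _ (T_injective hT _)).finrank_eq.symm
  have hm := meet_ne_bot hT hirr hr h3 hd.1 hd.2.1 hd.2.2 h1 one_pos (by omega)
  have h0 : Module.finrank k ↥(img T a b c ⊓ img T a b d) ≠ 0 :=
    fun e => hm (Submodule.finrank_eq_zero.1 e)
  have hle : img T a b c ⊓ img T a b d ≤ img T a b c := inf_le_left
  have := Submodule.finrank_mono hle
  have e1 := Submodule.eq_of_le_of_finrank_eq hle (by omega)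
  have e2 := Submodule.eq_of_le_of_finrank_eq
    (inf_le_right : img T a b c ⊓ img T a b d ≤ img T a b d) (by omega)
  have hne : img T a b c ≠ ⊥ ∧ img T a b c ≠ ⊤ := by
    constructor <;> intro e <;> rw [e] at h1 <;> simp [finrank_bot, finrank_top] at h1 <;> omega
  exact false_of_adjacent hT hirr hr (img T) (fun h a b c h3 => img_map hT hr h h3)
    (fun a b c h3 => img_rot hT hr h3) (fun a b c h3 => img_swap hT hr h3) h3 hd hne
    (e1.symm.trans e2)

/-- The bound when three-cycles have rank two. -/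
theorem tgt_le_of_rankTwo [DecidableEq k] (hT : IsProj T) (hirr : Irred T)
    (hr : 9 ≤ Fintype.card Ω) (hn : 5 ≤ Module.finrank k V)
    (h2 : ∀ a b c, D3 a b c → Module.finrank k (img T a b c) = 2)
    (hsc : ∀ (h : alternatingGroup Ω) a b c, D3 a b c → (h : Perm Ω) a = a → (h : Perm Ω) b = b →
      (h : Perm Ω) c = c → ∃ μ : k, ∀ w ∈ img T a b c, T h w = μ • w) :
    tgt k (Fintype.card Ω) ≤ Module.finrank k V := by
  haveI : Nontrivial V := Module.nontrivial_of_finrank_pos (R := k) (by omega)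
  have himap := fun h a b c (h3 : D3 a b c) => img_map hT hr h h3
  have hirot := fun a b c (h3 : D3 a b c) => img_rot hT hr h3
  have hiswap := fun a b c (h3 : D3 a b c) => img_swap hT hr h3
  have hne : ∀ a b c, D3 a b c → img T a b c ≠ ⊥ ∧ img T a b c ≠ ⊤ := by
    intro a b c h3
    constructor <;> intro e <;> have := h2 a b c h3 <;> rw [e] at this <;>
      simp [finrank_bot, finrank_top] at this <;> omega
  -- adjacent planes are different
  have hneq : ∀ a b c d, D3 a b c → d ≠ a → d ≠ b → d ≠ c → img T a b c ≠ img T a b d :=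
    fun a b c d h3 hda hdb hdc e =>
      false_of_adjacent hT hirr hr (img T) himap hirot hiswap h3 ⟨hda, hdb, hdc⟩ (hne a b c h3) e
  -- adjacent planes meet
  have hmeet : ∀ a b c d, D3 a b c → d ≠ a → d ≠ b → d ≠ c → img T a b c ⊓ img T a b d ≠ ⊥ := by
    intro a b c d h3 hda hdb hdc
    exact meet_ne_bot hT hirr hr h3 hda hdb hdc (h2 a b c h3) two_pos (by omega)
  -- the line attached to two points
  let L : Ω → Ω → Submodule k V := fun a b => ⨅ c, ⨅ (_ : c ≠ a ∧ c ≠ b), img T a b c
  have hL : ∀ a b c d, D3 a b c → d ≠ a → d ≠ b → d ≠ c →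
      L a b = img T a b c ⊓ img T a b d ∧ Module.finrank k (L a b) = 1 := by
    intro a b c d h3 hda hdb hdc
    have h3' : D3 a b d := ⟨h3.1, hda.symm, hdb.symm⟩
    have hrk : ∀ x y, x ≠ a → x ≠ b → y ≠ a → y ≠ b → x ≠ y →
        Module.finrank k ↥(img T a b x ⊓ img T a b y) = 1 := by
      intro x y hxa hxb hya hyb hxy
      have hx : D3 a b x := ⟨h3.1, hxa.symm, hxb.symm⟩
      have h0 := hmeet a b x y hx hya hyb hxy.symm
      have h1 := hneq a b x y hx hya hyb hxy.symm
      have hne0 : Module.finrank k ↥(img T a b x ⊓ img T a b y) ≠ 0 :=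
        fun h => h0 (Submodule.finrank_eq_zero.1 h)
      have hle := Submodule.finrank_mono (inf_le_left : img T a b x ⊓ img T a b y ≤ img T a b x)
      have := h2 a b x hx
      by_contra hh
      have h2' : Module.finrank k ↥(img T a b x ⊓ img T a b y) = 2 := by omega
      have e1 := Submodule.eq_of_le_of_finrank_eq
        (inf_le_left : img T a b x ⊓ img T a b y ≤ img T a b x) (by omega)
      have e2 := Submodule.eq_of_le_of_finrank_eq
        (inf_le_right : img T a b x ⊓ img T a b y ≤ img T a b y)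
        (by rw [h2', h2 a b y ⟨h3.1, hya.symm, hyb.symm⟩])
      exact h1 (e1.symm.trans e2)
    have key : ∀ x y z, D3 x y z → x ≠ a → x ≠ b → y ≠ a → y ≠ b → z ≠ a → z ≠ b →
        img T a b x ⊓ img T a b y ≤ img T a b z := by
      intro x y z hxyz hxa hxb hya hyb hza hzb
      obtain ⟨f, hf⟩ := exists_fresh [a, b, x, y, z] (by simp; omega)
      simp only [List.mem_cons, List.not_mem_nil, or_false, forall_eq_or_imp, forall_eq] at hf
      obtain ⟨hfa, hfb, hfx, hfy, hfz⟩ := hf
      set h := cyc y z f with hh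
      have fa : (h : Perm Ω) a = a :=
        cyc_apply_of_notMem hxyz.2.2 hfz.symm hya.symm hza.symm hfa.symm
      have fb : (h : Perm Ω) b = b :=
        cyc_apply_of_notMem hxyz.2.2 hfz.symm hyb.symm hzb.symm hfb.symm
      have fx : (h : Perm Ω) x = x :=
        cyc_apply_of_notMem hxyz.2.2 hfz.symm hxyz.1 hxyz.2.1 hfx.symm
      have hx : D3 a b x := ⟨h3.1, hxa.symm, hxb.symm⟩
      obtain ⟨μ, hμ⟩ := hsc h a b x hx fa fb fx
      have e1 := himap h a b y ⟨h3.1, hya.symm, hyb.symm⟩
      rw [fa, fb, cyc_apply_left hxyz.2.2 hfy.symm hfz.symm] at e1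
      intro w hw
      have hm : μ • w ∈ img T a b z := by
        rw [← hμ w hw.1, ← e1]
        exact Submodule.mem_map_of_mem hw.2
      by_cases hμ0 : μ = 0
      · have : T h w = 0 := by rw [hμ w hw.1, hμ0, zero_smul]
        rw [T_injective hT h (this.trans (map_zero _).symm)]
        exact zero_mem _
      simpa [smul_smul, inv_mul_cancel₀ hμ0] using Submodule.smul_mem _ μ⁻¹ hm
    have e : L a b = img T a b c ⊓ img T a b d := by
      refine le_antisymm (le_inf ?_ ?_) ?_
      · exact iInf₂_le c ⟨h3.2.1.symm, h3.2.2.symm⟩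
      · exact iInf₂_le d ⟨hda, hdb⟩
      · refine le_iInf₂ fun z hz => ?_
        by_cases hzc : z = c
        · exact hzc ▸ inf_le_left
        by_cases hzd : z = d
        · exact hzd ▸ inf_le_right
        exact key c d z ⟨hdc.symm, Ne.symm hzc, Ne.symm hzd⟩ h3.2.1.symm h3.2.2.symm hda hdb
          hz.1 hz.2
    exact ⟨e, e ▸ hrk c d h3.2.1.symm h3.2.2.symm hda hdb hdc.symm⟩
  have two_more : ∀ a b : Ω, a ≠ b → ∃ c d, D3 a b c ∧ d ≠ a ∧ d ≠ b ∧ d ≠ c := by
    intro a b hab
    obtain ⟨c, hc⟩ := exists_fresh [a, b] (by simp; omega)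
    obtain ⟨d, hd⟩ := exists_fresh [a, b, c] (by simp; omega)
    simp only [List.mem_cons, List.not_mem_nil, or_false, forall_eq_or_imp, forall_eq] at hc hd
    exact ⟨c, d, ⟨hab, hc.1.symm, hc.2.symm⟩, hd.1, hd.2.1, hd.2.2⟩
  have hLsymm : ∀ a b, a ≠ b → L b a = L a b := by
    intro a b hab
    obtain ⟨c, d, h3, hda, hdb, hdc⟩ := two_more a b hab
    rw [(hL a b c d h3 hda hdb hdc).1, (hL b a c d h3.swap hdb hda hdc).1, hiswap a b c h3,
      hiswap a b d ⟨hab, hda.symm, hdb.symm⟩]
  have hL1 : ∀ a b, a ≠ b → Module.finrank k (L a b) = 1 := by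
    intro a b hab
    obtain ⟨c, d, h3, hda, hdb, hdc⟩ := two_more a b hab
    exact (hL a b c d h3 hda hdb hdc).2
  have hLmap : ∀ (h : alternatingGroup Ω) a b, a ≠ b →
      (L a b).map (T h) = L ((h : Perm Ω) a) ((h : Perm Ω) b) := by
    intro h a b hab
    obtain ⟨c, d, h3, hda, hdb, hdc⟩ := two_more a b hab
    have inj := (h : Perm Ω).injective
    rw [(hL a b c d h3 hda hdb hdc).1, (hL _ _ _ ((h : Perm Ω) d) (h3.map (h : Perm Ω))
      (inj.ne hda) (inj.ne hdb) (inj.ne hdc)).1, Submodule.map_inf _ (T_injective hT h),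
      himap h a b c h3, himap h a b d ⟨hab, hda.symm, hdb.symm⟩]
  have hLle : ∀ a b c, D3 a b c →
      L a b ≤ img T a b c ∧ L a c ≤ img T a b c ∧ L b c ≤ img T a b c := by
    intro a b c h3
    refine ⟨iInf₂_le c ⟨h3.2.1.symm, h3.2.2.symm⟩, ?_, ?_⟩
    · rw [← hLsymm a c h3.2.1]
      exact le_of_le_of_eq (iInf₂_le b ⟨h3.2.2, h3.1.symm⟩) (hirot _ _ _ h3.rot.rot).symm
    · exact le_of_le_of_eq (iInf₂_le a ⟨h3.1, h3.2.1⟩) (hirot a b c h3)
  have hLne : ∀ a b c, D3 a b c → L a b ≠ L a c := by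
    intro a b c h3 e
    -- all lines at `a` agree
    have star : ∀ x, x ≠ a → L a x = L a b := by
      intro x hxa
      by_cases hxb : x = b
      · rw [hxb]
      by_cases hxc : x = c
      · rw [hxc, e]
      obtain ⟨f, hf⟩ := exists_fresh [a, b, c, x] (by simp; omega)
      simp only [List.mem_cons, List.not_mem_nil, or_false, forall_eq_or_imp, forall_eq] at hf
      obtain ⟨hfa, hfb, hfc, hfx⟩ := hf
      have e1 := hLmap (cyc c x f) a b h3.1
      have e2 := hLmap (cyc c x f) a c h3.2.1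
      rw [cyc_apply_of_notMem (Ne.symm hxc) hfx.symm h3.2.1 hxa.symm hfa.symm] at e1 e2
      rw [cyc_apply_of_notMem (Ne.symm hxc) hfx.symm h3.2.2 (Ne.symm hxb) hfb.symm] at e1
      rw [cyc_apply_left (Ne.symm hxc) hfc.symm hfx.symm, ← e, e1] at e2
      exact e2.symm
    have all : ∀ x y, x ≠ y → L x y = L a b := by
      intro x y hxy
      by_cases hxa : x = a
      · exact hxa ▸ star y (hxa ▸ hxy.symm)
      by_cases hya : y = a
      · rw [hya, hLsymm a x (Ne.symm hxa)]; exact star x hxa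
      obtain ⟨f, hf⟩ := exists_fresh [a, x, y] (by simp; omega)
      simp only [List.mem_cons, List.not_mem_nil, or_false, forall_eq_or_imp, forall_eq] at hf
      obtain ⟨hfa, hfx, hfy⟩ := hf
      -- move `a` to `x`
      have m1 := hLmap (cyc a x f) a y (Ne.symm hya)
      have m2 := hLmap (cyc a x f) a f hfa.symm
      rw [cyc_apply_left (Ne.symm hxa) hfa.symm hfx.symm] at m1 m2
      rw [cyc_apply_of_notMem (Ne.symm hxa) hfx.symm hya hxy.symm hfy.symm] at m1
      rw [cyc_apply_right (Ne.symm hxa) hfx.symm] at m2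
      rw [← m1, star y hya, ← star f hfa, m2, hLsymm a x (Ne.symm hxa), star x hxa]
      exact (star f hfa).symm
    have hinv : ∀ p q s, D3 p q s → ∀ w ∈ L a b, T (cyc p q s) w ∈ L a b := by
      intro p q s hpqs w hw
      have := hLmap (cyc p q s) p q hpqs.1
      rw [all p q hpqs.1, all _ _ ((cyc p q s : Perm Ω).injective.ne hpqs.1)] at this
      exact this ▸ Submodule.mem_map_of_mem hw
    have h1 := hL1 a b h3.1
    rcases hirr _ (invariant_of_threeCycle hT hinv) with h | h <;> rw [h] at h1 <;>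
      simp [finrank_bot, finrank_top] at h1 <;> omega
  have hLinf : ∀ a b c, D3 a b c → ∀ w, w ∈ L a b → w ∈ L a c → w = 0 := by
    intro a b c h3 w hb hc
    by_contra hw
    refine hLne a b c h3 ?_
    have e1 : Submodule.span k {w} = L a b := Submodule.eq_of_le_of_finrank_eq
      ((Submodule.span_singleton_le_iff_mem _ _).2 hb)
      (by rw [finrank_span_singleton hw, hL1 a b h3.1])
    have e2 : Submodule.span k {w} = L a c := Submodule.eq_of_le_of_finrank_eq
      ((Submodule.span_singleton_le_iff_mem _ _).2 hc)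
      (by rw [finrank_span_singleton hw, hL1 a c h3.2.1])
    exact e1.symm.trans e2
  have hsum : ∀ a b c, D3 a b c → L a b ⊔ L a c = img T a b c := by
    intro a b c h3
    refine Submodule.eq_of_le_of_finrank_eq (sup_le (hLle a b c h3).1 (hLle a b c h3).2.1) ?_
    have h := Submodule.finrank_sup_add_finrank_inf_eq (L a b) (L a c)
    rw [show L a b ⊓ L a c = ⊥ from (Submodule.eq_bot_iff _).2
      fun w hw => hLinf a b c h3 w hw.1 hw.2, finrank_bot, hL1 a b h3.1, hL1 a c h3.2.1] at h
    rw [h2 a b c h3]; omega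
  -- the vectors
  obtain ⟨o, -⟩ := exists_fresh ([] : List Ω) (by simp; omega)
  obtain ⟨u, hu⟩ := exists_fresh [o] (by simp; omega)
  have huo : u ≠ o := hu o (by simp)
  obtain ⟨vu, hvu, hvu0⟩ := Submodule.exists_mem_ne_zero_of_ne_bot
    (show L o u ≠ ⊥ by intro h; have h1 := hL1 o u huo.symm; rw [h, finrank_bot] at h1; omega)
  have hex : ∀ j, ∃ w : V, if j = o then w = 0 else if j = u then w = vu
      else w ∈ L o j ∧ vu - w ∈ L u j := by
    intro j
    by_cases hjo : j = o
    · exact ⟨0, by rw [if_pos hjo]⟩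
    by_cases hju : j = u
    · exact ⟨vu, by rw [if_neg hjo, if_pos hju]⟩
    have h3 : D3 j o u := ⟨hjo, hju, huo.symm⟩
    have hm : vu ∈ L j o ⊔ L j u := hsum j o u h3 ▸ (hLle j o u h3).2.2 hvu
    obtain ⟨w, hw, z, hz, e⟩ := Submodule.mem_sup.1 hm
    refine ⟨w, ?_⟩
    rw [if_neg hjo, if_neg hju, hLsymm j o hjo, hLsymm j u hju, ← e, add_sub_cancel_left]
    exact ⟨hw, hz⟩
  choose v hv using hex
  have hvo : v o = 0 := by simpa using hv o
  have hvu' : v u = vu := by simpa [huo] using hv u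
  have hvj : ∀ j, j ≠ o → v j ∈ L o j ∧ v j ≠ 0 := by
    intro j hj
    by_cases hju : j = u
    · exact ⟨hju ▸ hvu' ▸ hvu, hju ▸ hvu' ▸ hvu0⟩
    have h := hv j
    rw [if_neg hj, if_neg hju] at h
    refine ⟨h.1, fun h0 => hvu0 ?_⟩
    have h' := h.2
    rw [h0, sub_zero] at h'
    exact hLinf u o j ⟨huo, Ne.symm hju, hj.symm⟩ vu (hLsymm o u huo.symm ▸ hvu) h'
  have hvne : ∀ i j, i ≠ j → v j - v i ∈ L i j ∧ v j - v i ≠ 0 := by
    intro i j hij
    by_cases hio : i = o
    · rw [hio, hvo, sub_zero]; exact hvj j (hio ▸ hij.symm)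
    by_cases hjo : j = o
    · rw [hjo, hvo, zero_sub, hLsymm o i (Ne.symm hio), neg_ne_zero]
      exact ⟨Submodule.neg_mem _ (hvj i hio).1, (hvj i hio).2⟩
    refine ⟨?_, fun h0 => (hvj i hio).2 (hLinf o i j ⟨Ne.symm hio, Ne.symm hjo, hij⟩ _ (hvj i hio).1
      (sub_eq_zero.1 h0 ▸ (hvj j hjo).1))⟩
    by_cases hju : j = u
    · rw [hju, hvu']
      have h := hv i
      rw [if_neg hio, if_neg (hju ▸ hij)] at h
      rw [← hLsymm u i (hju ▸ hij).symm] at h
      exact h.2
    by_cases hiu : i = u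
    · rw [hiu, hvu', ← neg_sub]
      have h := hv j
      rw [if_neg hjo, if_neg hju] at h
      exact Submodule.neg_mem _ h.2
    have hi := hv i
    have hj := hv j
    rw [if_neg hio, if_neg hiu] at hi
    rw [if_neg hjo, if_neg hju] at hj
    have d1 : D3 i j o := ⟨hij, hio, hjo⟩
    have d2 : D3 i j u := ⟨hij, hiu, hju⟩
    rw [(hL i j o u d1 (Ne.symm hiu) (Ne.symm hju) huo).1]
    refine ⟨?_, ?_⟩
    · rw [← hirot i j o d1, ← hirot j o i d1.rot]
      exact Submodule.sub_mem _ ((hLle o i j d1.rot.rot).2.1 hj.1) ((hLle o i j d1.rot.rot).1 hi.1)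
    · rw [← hirot i j u d2, ← hirot j u i d2.rot,
        show v j - v i = (vu - v i) - (vu - v j) by abel]
      exact Submodule.sub_mem _ ((hLle u i j d2.rot.rot).1 hi.2) ((hLle u i j d2.rot.rot).2.1 hj.2)
  have hindep : ∀ i j l, D3 i j l → ∀ x y : k, x • (v j - v i) + y • (v l - v i) = 0 →
      x = 0 ∧ y = 0 := by
    intro i j l h3 x y e
    have hx : x • (v j - v i) = 0 := by
      refine hLinf i j l h3 _ (Submodule.smul_mem _ x (hvne i j h3.1).1) ?_
      rw [eq_neg_of_add_eq_zero_left e]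
      exact Submodule.neg_mem _ (Submodule.smul_mem _ y (hvne i l h3.2.1).1)
    rw [hx, zero_add] at e
    exact ⟨(smul_eq_zero.1 hx).resolve_right (hvne i j h3.1).2,
      (smul_eq_zero.1 e).resolve_right (hvne i l h3.2.1).2⟩
  -- the map
  let Φ : (Ω → k) →ₗ[k] V × k :=
    LinearMap.prod (∑ j, (LinearMap.proj j).smulRight (v j)) (∑ j, LinearMap.proj j)
  have hΦ : ∀ x, Φ x = (∑ j, x j • v j, ∑ j, x j) := fun x => by simp [Φ]
  have hequi : ∀ (h : alternatingGroup Ω) x, x ∈ LinearMap.ker Φ →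
      (fun j => x ((h : Perm Ω).symm j)) ∈ LinearMap.ker Φ := by
    intro h x hx
    rw [LinearMap.mem_ker, hΦ, Prod.mk_eq_zero] at hx ⊢
    have inj := (h : Perm Ω).injective
    have hexc : ∀ i j, i ≠ j → ∃ c : k,
        T h (v j - v i) = c • (v ((h : Perm Ω) j) - v ((h : Perm Ω) i)) := by
      intro i j hij
      have hm : T h (v j - v i) ∈ L ((h : Perm Ω) i) ((h : Perm Ω) j) :=
        hLmap h i j hij ▸ Submodule.mem_map_of_mem (hvne i j hij).1
      have hne' := hvne _ _ (inj.ne hij)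
      have e1 : Submodule.span k {v ((h : Perm Ω) j) - v ((h : Perm Ω) i)} =
          L ((h : Perm Ω) i) ((h : Perm Ω) j) := Submodule.eq_of_le_of_finrank_eq
        ((Submodule.span_singleton_le_iff_mem _ _).2 hne'.1)
        (by rw [finrank_span_singleton hne'.2, hL1 _ _ (inj.ne hij)])
      rw [← e1, Submodule.mem_span_singleton] at hm
      obtain ⟨c, hc⟩ := hm
      exact ⟨c, hc.symm⟩
    obtain ⟨c, hc⟩ : ∃ c : k, ∀ j,
        T h (v j - v o) = c • (v ((h : Perm Ω) j) - v ((h : Perm Ω) o)) := by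
      obtain ⟨c, hc⟩ := hexc o u huo.symm
      refine ⟨c, fun j => ?_⟩
      by_cases hjo : j = o
      · simp [hjo]
      by_cases hju : j = u
      · rw [hju, hc]
      obtain ⟨c₁, hc₁⟩ := hexc o j (Ne.symm hjo)
      obtain ⟨c₂, hc₂⟩ := hexc u j (Ne.symm hju)
      have e : T h (v j - v o) = T h (v u - v o) + T h (v j - v u) := by
        rw [← map_add]; congr 1; abel
      rw [hc₁, hc, hc₂] at e
      have h0 : (c₁ - c₂) • (v ((h : Perm Ω) j) - v ((h : Perm Ω) o)) +
          (c₂ - c) • (v ((h : Perm Ω) u) - v ((h : Perm Ω) o)) = 0 := by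
        rw [sub_smul, sub_smul, e]
        simp only [smul_sub]
        abel
      obtain ⟨a1, a2⟩ := hindep ((h : Perm Ω) o) ((h : Perm Ω) j) ((h : Perm Ω) u)
        ⟨inj.ne (Ne.symm hjo), inj.ne huo.symm, inj.ne hju⟩ _ _ h0
      rw [hc₁, sub_eq_zero.1 a1, sub_eq_zero.1 a2]
    have hc0 : c ≠ 0 := by
      rintro rfl
      have := hc u
      rw [zero_smul] at this
      exact (hvne o u huo.symm).2 (T_injective hT h (this.trans (map_zero _).symm))
    have hre : ∑ j, x ((h : Perm Ω).symm j) = ∑ j, x j := Equiv.sum_comp (h : Perm Ω).symm x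
    refine ⟨?_, hre.trans hx.2⟩
    have hre' : ∑ j, x ((h : Perm Ω).symm j) • v j = ∑ j, x j • v ((h : Perm Ω) j) := by
      rw [← Equiv.sum_comp (h : Perm Ω) fun j => x ((h : Perm Ω).symm j) • v j]
      simp
    rw [hre']
    have : T h (∑ j, x j • v j) = c • ∑ j, x j • v ((h : Perm Ω) j) := by
      have e : ∀ j, T h (x j • v j) =
          c • (x j • v ((h : Perm Ω) j)) - x j • (c • v ((h : Perm Ω) o)) := by
        intro j
        have := hc j
        rw [hvo, sub_zero] at this
        rw [map_smul, this, smul_comm, smul_sub, smul_sub]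
        simp only [smul_smul, mul_comm]
      rw [map_sum, Finset.sum_congr rfl fun j _ => e j, Finset.sum_sub_distrib, ← Finset.sum_smul,
        hx.2, zero_smul, sub_zero, Finset.smul_sum]
    rw [hx.1, map_zero] at this
    exact (smul_eq_zero.1 this.symm).resolve_left hc0
  have hconst : ∀ x ∈ LinearMap.ker Φ, ∀ i j, x i = x j := by
    intro x hx i j
    by_contra hne'
    have hij : i ≠ j := fun h => hne' (h ▸ rfl)
    obtain ⟨l, hl⟩ := exists_fresh [i, j] (by simp; omega)
    simp only [List.mem_cons, List.not_mem_nil, or_false, forall_eq_or_imp, forall_eq] at hl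
    have h3 : D3 i j l := ⟨hij, hl.1.symm, hl.2.symm⟩
    set h := cyc i j l with hh
    have hy := Submodule.sub_mem _ hx (hequi h x hx)
    rw [LinearMap.mem_ker, hΦ, Prod.mk_eq_zero] at hy
    set y : Ω → k := x - fun t => x ((h : Perm Ω).symm t) with hy'
    have ysupp : ∀ t, t ∉ ({i, j, l} : Finset Ω) → y t = 0 := by
      intro t ht
      simp only [Finset.mem_insert, Finset.mem_singleton, not_or] at ht
      have : (h : Perm Ω).symm t = t := by
        rw [Equiv.symm_apply_eq, cyc_apply_of_notMem hij h3.2.2 ht.1 ht.2.1 ht.2.2]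
      simp [hy', this]
    have e1 : ∑ t, y t • v t = y i • v i + (y j • v j + y l • v l) := by
      rw [← Finset.sum_subset (Finset.subset_univ ({i, j, l} : Finset Ω))
        (fun t _ ht => by rw [ysupp t ht, zero_smul]), Finset.sum_insert (by simp [hij, hl.1.symm]),
        Finset.sum_pair hl.2.symm]
    have e2 : ∑ t, y t = y i + (y j + y l) := by
      rw [← Finset.sum_subset (Finset.subset_univ ({i, j, l} : Finset Ω))
        (fun t _ ht => ysupp t ht), Finset.sum_insert (by simp [hij, hl.1.symm]),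
        Finset.sum_pair hl.2.symm]
    rw [e1, e2] at hy
    have hi : y i = - y j - y l := by linear_combination hy.2
    have h0 : y j • (v j - v i) + y l • (v l - v i) = 0 := by
      rw [← hy.1, hi]
      simp only [smul_sub, sub_smul, neg_smul]
      abel
    have hyj := (hindep i j l h3 _ _ h0).1
    have : (h : Perm Ω).symm j = i := by
      rw [Equiv.symm_apply_eq, cyc_apply_left hij hl.1.symm hl.2.symm]
    simp [hy', this, sub_eq_zero] at hyj
    exact hne' hyj.symm
  have hdim := LinearMap.finrank_range_add_finrank_ker Φ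
  have hrange := (LinearMap.range Φ).finrank_le
  rw [Module.finrank_prod, Module.finrank_self] at hrange
  rw [Module.finrank_fintype_fun_eq_card] at hdim
  rw [tgt]
  split_ifs with h0
  · have hk : LinearMap.ker Φ ≤ Submodule.span k {fun _ => (1 : k)} := fun x hx =>
      Submodule.mem_span_singleton.2 ⟨x o, funext fun j => by simp [hconst x hx j o]⟩
    have h1 := Submodule.finrank_mono hk
    rw [finrank_span_singleton (fun h => one_ne_zero (congrFun h o))] at h1
    omega
  · have hk : LinearMap.ker Φ = ⊥ := by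
      rw [Submodule.eq_bot_iff]
      intro x hx
      have hs := hx
      rw [LinearMap.mem_ker, hΦ, Prod.mk_eq_zero] at hs
      have e : ∑ j, x j = (Fintype.card Ω : k) * x o := by
        rw [Finset.sum_congr rfl fun j _ => hconst x hx j o, Finset.sum_const, Finset.card_univ,
          nsmul_eq_mul]
      rw [hs.2] at e
      funext j
      rw [hconst x hx j o]
      exact (mul_eq_zero.1 e.symm).resolve_left h0
    rw [hk, finrank_bot] at hdim
    omega

end Lines

end CfsgLib.AltDegree
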