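import Cfsg.Agent.Lib.AltDegree.Main
import Cfsg.Agent.Lib.AltDegree.Joint

/-!
# Alternating sections of linear groups
-/

set_option autoImplicit false
set_option linter.unusedSectionVars false
set_option linter.style.haveILetI false

namespace CfsgLib.AltDegree

open scoped commutatorElement
open Equiv Equiv.Perm

universe u

theorem mem_center_of_perfect {H : Type*} [Group H] (hperf : commutator H = ⊤) {x : H}
    (h : ∀ g, g * x * g⁻¹ * x⁻¹ ∈ Subgroup.center H) : x ∈ Subgroup.center H := by
  let φ : H →* Subgroup.center H :=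
    MonoidHom.mk' (fun g => ⟨g * x * g⁻¹ * x⁻¹, h g⟩) fun a b => Subtype.ext (by
      show a * b * x * (a * b)⁻¹ * x⁻¹ = a * x * a⁻¹ * x⁻¹ * (b * x * b⁻¹ * x⁻¹)
      have hz := Subgroup.mem_center_iff.1 (h b)
      calc a * b * x * (a * b)⁻¹ * x⁻¹
          = a * (b * x * b⁻¹ * x⁻¹) * (x * a⁻¹ * x⁻¹) := by group
        _ = (b * x * b⁻¹ * x⁻¹) * a * (x * a⁻¹ * x⁻¹) := by rw [hz a]
        _ = (b * x * b⁻¹ * x⁻¹) * (a * x * a⁻¹ * x⁻¹) := by group
        _ = _ := (hz _).symm)
  rw [Subgroup.mem_center_iff]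
  intro g
  have hle : commutator H ≤ φ.ker := by
    rw [commutator_def, Subgroup.commutator_le]
    intro a _ b _
    rw [MonoidHom.mem_ker, map_commutatorElement, commutatorElement_eq_one_iff_mul_comm]
    exact Subtype.ext ((Subgroup.mem_center_iff.1 (φ a).2 (φ b : H)).symm)
  have hg : g ∈ φ.ker := hle (by rw [hperf]; exact Subgroup.mem_top g)
  have e : g * x * g⁻¹ * x⁻¹ = 1 := congrArg Subtype.val (MonoidHom.mem_ker.1 hg)
  exact mul_inv_eq_iff_eq_mul.1 (mul_inv_eq_one.1 e)

theorem sq_lt_two_pow : ∀ m : ℕ, 5 ≤ m → m * m < 2 ^ m := by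
  intro m hm
  induction m, hm using Nat.le_induction with
  | base => norm_num
  | succ j hj ih =>
    rw [pow_succ]
    nlinarith

theorem card_alt {r : ℕ} (hr : 2 ≤ r) :
    2 * Nat.card (alternatingGroup (Fin r)) = r.factorial := by
  haveI : Nontrivial (Fin r) := Fin.nontrivial_iff_two_le.2 hr
  rw [Nat.card_eq_fintype_card, two_mul_card_alternatingGroup, Fintype.card_perm, Fintype.card_fin]

variable {G : Type u} [Group G] [Finite G] {r : ℕ} (π : G →* alternatingGroup (Fin r))
  (hπ : Function.Surjective π)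

include hπ

theorem card_alt_le {H : Type*} [Group H] [Finite H] (σ : G →* H) (h : σ.ker ≤ π.ker) :
    Nat.card (alternatingGroup (Fin r)) ≤ Nat.card H := by
  have e1 : π.ker.index = Nat.card (alternatingGroup (Fin r)) := by
    rw [Subgroup.index_ker, MonoidHom.range_eq_top.2 hπ, Subgroup.card_top]
  rw [← e1]
  refine le_trans (Nat.le_of_dvd ?_ (Subgroup.index_dvd_of_le h)) ?_
  · exact Nat.pos_of_ne_zero Subgroup.index_ne_zero_of_finite
  · rw [Subgroup.index_ker]
    exact Nat.card_le_card_of_injective Subtype.val Subtype.val_injective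

omit [Finite G] in
theorem not_commutative (hr : 9 ≤ r) : ¬ ∀ x y : G, x * y = y * x := by
  intro h
  have hp : commutator (alternatingGroup (Fin r)) = ⊤ :=
    commutator_alternatingGroup_eq_top (by rw [Nat.card_eq_fintype_card, Fintype.card_fin]; omega)
  have hb : commutator (alternatingGroup (Fin r)) = ⊥ := by
    rw [eq_bot_iff, commutator_def, Subgroup.commutator_le]
    intro a _ b _
    obtain ⟨x, rfl⟩ := hπ a
    obtain ⟨y, rfl⟩ := hπ b
    rw [Subgroup.mem_bot, commutatorElement_eq_one_iff_mul_comm, ← map_mul, ← map_mul, h]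
  haveI : IsSimpleGroup (alternatingGroup (Fin r)) :=
    alternatingGroup.isSimpleGroup (by rw [Nat.card_eq_fintype_card, Fintype.card_fin]; omega)
  exact bot_ne_top (hb.symm.trans hp)

section Minimal

variable (hr : 9 ≤ r) (hmin : ∀ H : Subgroup G, H.map π = ⊤ → H = ⊤)
include hr hmin

theorem perfect_of_minimal : commutator G = ⊤ := by
  refine hmin _ ?_
  rw [commutator_def, Subgroup.map_commutator, Subgroup.map_top_of_surjective _ hπ, ← commutator_def]
  exact commutator_alternatingGroup_eq_top (by rw [Nat.card_eq_fintype_card, Fintype.card_fin]; omega)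

theorem le_ker_or_eq_top {N : Subgroup G} (hN : N.Normal) : N ≤ π.ker ∨ N = ⊤ := by
  haveI : IsSimpleGroup (alternatingGroup (Fin r)) :=
    alternatingGroup.isSimpleGroup (by rw [Nat.card_eq_fintype_card, Fintype.card_fin]; omega)
  rcases (hN.map π hπ).eq_bot_or_eq_top with h | h
  · exact Or.inl ((Subgroup.map_eq_bot_iff _).1 h)
  · exact Or.inr (hmin N h)

theorem isNilpotent_ker : Group.IsNilpotent π.ker := by
  have hle : π.ker ≤ frattini G := by
    refine le_iInf₂ fun M hM => ?_
    by_contra hK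
    refine hM.1 (hmin M ?_)
    have h2 : π.ker ⊔ M = ⊤ := hM.2 _ (lt_of_le_of_ne le_sup_right (fun e => hK (e ▸ le_sup_left)))
    rw [← Subgroup.map_top_of_surjective π hπ, ← h2, Subgroup.map_sup,
      (Subgroup.map_eq_bot_iff _).2 le_rfl, bot_sup_eq]
  haveI := frattini_nilpotent (G := G)
  exact (Group.isNilpotent_congr (Subgroup.subgroupOfEquivOfLe hle)).1 inferInstance

variable {k : Type u} [Field k] [IsAlgClosed k] {V : Type u} [AddCommGroup V] [Module k V]
  [FiniteDimensional k V] [Nontrivial V] (ρ : G →* Module.End k V)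

/-- Abelian normal subgroups are scalar in an irreducible representation of small degree. -/
theorem scalar_of_abelian_normal (hn : Module.finrank k V + 2 ≤ r)
    (hirr : ∀ W : Submodule k V, (∀ g, ∀ w ∈ W, ρ g w ∈ W) → W = ⊥ ∨ W = ⊤) {A : Subgroup G}
    (hA : A.Normal) (hc : ∀ a ∈ A, ∀ b ∈ A, a * b = b * a) :
    ∀ a ∈ A, ∃ c : k, ρ a = c • 1 := by
  classical
  haveI := Fintype.ofFinite A
  let E : (A → k) → Submodule k V := fun χ => ⨅ a : A, (ρ a).eigenspace (χ a)
  have memE : ∀ {χ : A → k} {w : V}, w ∈ E χ ↔ ∀ a : A, ρ a w = χ a • w := by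
    intro χ w
    simp [E, Submodule.mem_iInf, Module.End.mem_eigenspace_iff]
  let W := {χ : A → k // E χ ≠ ⊥}
  have hex : ∀ χ : W, ∃ v, v ∈ E χ.1 ∧ v ≠ 0 := fun χ => Submodule.exists_mem_ne_zero_of_ne_bot χ.2
  choose v hv hv0 using hex
  have hli : LinearIndependent k v := linearIndependent_joint (fun a : A => ρ a) v hv0
    (fun χ => χ.1) Subtype.val_injective fun χ a => memE.1 (hv χ) a
  haveI : Finite W := hli.finite
  haveI := Fintype.ofFinite W
  have hW : Nat.card W ≤ Module.finrank k V := by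
    rw [Nat.card_eq_fintype_card]; exact hli.fintype_card_le_finrank
  let cj : G → A → A := fun g a => ⟨g⁻¹ * a * g, by simpa using hA.conj_mem a a.2 g⁻¹⟩
  let tw : G → (A → k) → A → k := fun g χ a => χ (cj g a)
  have htw : ∀ g χ, ∀ w ∈ E χ, ρ g w ∈ E (tw g χ) := by
    intro g χ w hw
    rw [memE] at hw ⊢
    intro a
    rw [← Module.End.mul_apply, ← map_mul, show (a : G) * g = g * ((cj g a : A) : G) by
      simp only [cj]; group, map_mul, Module.End.mul_apply, hw, map_smul]
  have hinj : ∀ g, Function.Injective (ρ g) := fun g => by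
    intro x y h
    have := congrArg (ρ g⁻¹) h
    rwa [← Module.End.mul_apply, ← Module.End.mul_apply, ← map_mul, inv_mul_cancel, map_one] at this
  have hne : ∀ g (χ : W), E (tw g χ.1) ≠ ⊥ := fun g χ h => by
    have := htw g χ.1 _ (hv χ)
    rw [h, Submodule.mem_bot] at this
    exact hv0 χ (hinj g (this.trans (map_zero _).symm))
  have h1 : ∀ χ, tw 1 χ = χ := fun χ => funext fun a => congrArg χ (Subtype.ext (by simp [cj]))
  have hmul : ∀ g h χ, tw (g * h) χ = tw g (tw h χ) := fun g h χ =>
    funext fun a => congrArg χ (Subtype.ext (by simp [cj, mul_assoc]))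
  let Φ : G →* Perm W :=
    { toFun := fun g =>
        { toFun := fun χ => ⟨tw g χ.1, hne g χ⟩
          invFun := fun χ => ⟨tw g⁻¹ χ.1, hne g⁻¹ χ⟩
          left_inv := fun χ => Subtype.ext (by
            show tw g⁻¹ (tw g χ.1) = χ.1
            rw [← hmul, inv_mul_cancel, h1])
          right_inv := fun χ => Subtype.ext (by
            show tw g (tw g⁻¹ χ.1) = χ.1
            rw [← hmul, mul_inv_cancel, h1]) }
      map_one' := Equiv.ext fun χ => Subtype.ext (h1 χ.1)
      map_mul' := fun g h => Equiv.ext fun χ => Subtype.ext (hmul g h χ.1) }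
  rcases le_ker_or_eq_top π hπ hr hmin (N := Φ.ker) inferInstance with h | h
  · exfalso
    have h2 := card_alt_le π hπ Φ h
    rw [Nat.card_perm] at h2
    have h3 := card_alt (r := r) (by omega)
    have h4 : (Nat.card W).factorial ≤ (r - 2).factorial := Nat.factorial_le (by omega)
    obtain ⟨j, rfl⟩ : ∃ j, r = j + 2 := ⟨r - 2, by omega⟩
    rw [Nat.add_sub_cancel] at h4
    rw [Nat.factorial_succ, Nat.factorial_succ] at h3
    have h5 : 0 < j.factorial := j.factorial_pos
    have h6 : 3 * j.factorial ≤ (j + 1 + 1) * (j + 1) * j.factorial :=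
      Nat.mul_le_mul_right _ (by nlinarith)
    rw [mul_assoc] at h6
    omega
  · obtain ⟨χ, w, hw0, hw⟩ := exists_joint_eigenvector (fun a : A => ρ a)
      (fun a b => (show Commute (a : G) b from hc a a.2 b b.2).map ρ) Finset.univ
    have hχ : E χ ≠ ⊥ := fun e => hw0 (by
      have : w ∈ E χ := memE.2 fun a => hw a (Finset.mem_univ a)
      rwa [e, Submodule.mem_bot] at this)
    have hinv : ∀ g, ∀ x ∈ E χ, ρ g x ∈ E χ := by
      intro g x hx
      have hg : g ∈ Φ.ker := h ▸ Subgroup.mem_top g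
      have e : tw g χ = χ := congrArg Subtype.val
        (congrArg (fun f : Perm W => f ⟨χ, hχ⟩) (MonoidHom.mem_ker.1 hg))
      exact e ▸ htw g χ x hx
    intro a ha
    refine ⟨χ ⟨a, ha⟩, LinearMap.ext fun x => ?_⟩
    have hx : x ∈ E χ := ((hirr _ hinv).resolve_left hχ) ▸ Submodule.mem_top
    exact memE.1 hx ⟨a, ha⟩

end Minimal

omit [Finite G] hπ in
theorem isProj_section {k : Type u} [Field k] {V : Type u} [AddCommGroup V] [Module k V]
    (ρ : G →* Module.End k V) (s : alternatingGroup (Fin r) → G) (hs : ∀ x, π (s x) = x)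
    (hK : ∀ z ∈ π.ker, ∃ c : k, ρ z = c • 1) : IsProj fun x => ρ (s x) := by
  have hu : ∀ g, IsUnit (ρ g) := fun g =>
    ⟨⟨ρ g, ρ g⁻¹, by rw [← map_mul, mul_inv_cancel, map_one],
      by rw [← map_mul, inv_mul_cancel, map_one]⟩, rfl⟩
  refine ⟨fun x => hu _, fun x y => ?_⟩
  rcases subsingleton_or_nontrivial (Module.End k V) with h | h
  · exact ⟨1, one_ne_zero, Subsingleton.elim _ _⟩
  obtain ⟨c, hc⟩ := hK (s (x * y) * (s x * s y)⁻¹)
    (by rw [MonoidHom.mem_ker, map_mul, map_inv, map_mul, hs, hs, hs, mul_inv_cancel])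
  refine ⟨c, ?_, ?_⟩
  · rintro rfl
    rw [zero_smul] at hc
    exact not_isUnit_zero (hc ▸ hu _)
  · show ρ (s (x * y)) = c • (ρ (s x) * ρ (s y))
    rw [← map_mul, ← one_mul (ρ (s x * s y)), ← smul_mul_assoc, ← hc, ← map_mul,
      inv_mul_cancel_right]

omit [Finite G] hπ in
/-- Passing to the image of a representation. -/
theorem of_kernel {P : Prop} {M : Type u} [Monoid M] (σ : G →* M) (h : σ.ker ≤ π.ker)
    (hπ : Function.Surjective π)
    (key : ∀ (Gb : Type u) [Group Gb] (ρ' : Gb →* M), Function.Injective ρ' →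
      ∀ π' : Gb →* alternatingGroup (Fin r), Function.Surjective π' → (Finite G → Finite Gb) → P) :
    P := by
  have hle : σ.toHomUnits.ker ≤ π.ker := fun x hx => h (by
    rw [MonoidHom.mem_ker] at hx ⊢
    simpa using congrArg Units.val hx)
  refine key (G ⧸ σ.toHomUnits.ker)
    ((Units.coeHom M).comp (QuotientGroup.kerLift σ.toHomUnits))
    (Units.val_injective.comp (QuotientGroup.kerLift_injective _))
    (QuotientGroup.lift _ π hle) (fun y => ?_) (fun _ => inferInstance)
  obtain ⟨x, rfl⟩ := hπ y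
  exact ⟨x, rfl⟩

omit hπ

/-- The induction statement for a fixed degree. -/
def SectionBound (r n : ℕ) : Prop :=
  ∀ (k : Type u) [Field k] [IsAlgClosed k] [DecidableEq k] (G : Type u) [Group G] [Finite G]
    (V : Type u) [AddCommGroup V] [Module k V] [FiniteDimensional k V] (ρ : G →* Module.End k V),
    Function.Injective ρ → ∀ π : G →* alternatingGroup (Fin r), Function.Surjective π →
      Module.finrank k V = n → tgt k r ≤ n

open Classical in
/-- A quotient of degree `r` cannot act on a group this small. -/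
theorem no_small_action {r : ℕ} (hr : 9 ≤ r) {n : ℕ} (ih : ∀ m < n, SectionBound.{u} r m)
    {G : Type u} [Group G] [Finite G] (π : G →* alternatingGroup (Fin r))
    (hπ : Function.Surjective π) (Ω : Type u) [CommGroup Ω] [Finite Ω] (p : ℕ) [Fact p.Prime]
    (hexp : ∀ q : Ω, q ^ p = 1) (α : G →* MulAut Ω) (hk : α.ker ≤ π.ker)
    (hcard : Nat.card Ω ≤ n * n) (hn2 : n + 2 ≤ r) : False := by
  have hp' : p.Prime := Fact.out
  have instMod : Module (ZMod p) (Additive Ω) :=
    AddCommGroup.zmodModule fun x => congrArg Additive.ofMul (hexp x.toMul)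
  let ψ : G →* Module.End (ZMod p) (Additive Ω) :=
    { toFun := fun g => (MonoidHom.toAdditive (α g).toMonoidHom).toZModLinearMap p
      map_one' := LinearMap.ext fun q => by
        show Additive.ofMul (α 1 q.toMul) = q
        rw [map_one]; rfl
      map_mul' := fun a b => LinearMap.ext fun q => by
        show Additive.ofMul (α (a * b) q.toMul) = Additive.ofMul (α a (α b q.toMul))
        rw [map_mul]; rfl }
  have hψ : ψ.ker ≤ π.ker := fun g hg => hk (MulEquiv.ext fun q => by
    show α g q = q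
    exact (congrArg Additive.toMul
      (LinearMap.congr_fun (MonoidHom.mem_ker.1 hg) (Additive.ofMul q)) :))
  haveI : Module.Finite (ZMod p) (Additive Ω) := Module.Finite.of_finite
  set d := Module.finrank (ZMod p) (Additive Ω) with hd
  have hpd : Nat.card Ω = p ^ d := by
    rw [show Nat.card Ω = Nat.card (Additive Ω) from Nat.card_congr Additive.ofMul,
      Module.natCard_eq_pow_finrank (K := ZMod p) (V := Additive Ω), Nat.card_zmod]
  let b := Module.finBasis (ZMod p) (Additive Ω)
  let mat : G →* Matrix (Fin d) (Fin d) (ZMod p) :=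
    ((LinearMap.toMatrixAlgEquiv b).toAlgHom.toMonoidHom).comp ψ
  have hmat : mat.ker ≤ π.ker := fun g hg => hψ (by
    rw [MonoidHom.mem_ker] at hg ⊢
    exact (LinearMap.toMatrixAlgEquiv b).injective (hg.trans (map_one _).symm))
  rcases Nat.lt_or_ge d n with hdn | hdn
  · -- induction
    let k' := AlgebraicClosure (ULift.{u} (ZMod p))
    let f : ZMod p →+* k' :=
      (algebraMap (ULift.{u} (ZMod p)) k').comp (ULift.ringEquiv.symm.toRingHom)
    let σ : G →* Module.End k' (Fin d → k') :=
      ((Matrix.toLinAlgEquiv' (R := k')).toAlgHom.toMonoidHom).comp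
        ((f.mapMatrix.toMonoidHom).comp mat)
    have hσ : σ.ker ≤ π.ker := fun g hg => hmat (by
      rw [MonoidHom.mem_ker] at hg ⊢
      have h2 : f.mapMatrix (mat g) = 1 :=
        (Matrix.toLinAlgEquiv' (R := k')).injective (hg.trans (map_one _).symm)
      refine Matrix.map_injective f.injective (h2.trans (map_one f.mapMatrix).symm))
    have h : tgt k' r ≤ d := by
      refine of_kernel π σ hσ hπ ?_
      intro Gb _ ρ' hi π' hs hf
      haveI := hf inferInstance
      exact ih d hdn k' Gb (Fin d → k') ρ' hi π' hs (by simp)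
    have h2 : r - 2 ≤ d := le_trans (by rw [tgt]; split_ifs <;> omega) h
    have h3 : 2 ^ (r - 2) ≤ n * n := by
      refine le_trans (le_trans (Nat.pow_le_pow_right two_pos h2) ?_) hcard
      rw [hpd]; exact Nat.pow_le_pow_left hp'.two_le d
    have h4 := sq_lt_two_pow (r - 2) (by omega)
    have h5 : n * n ≤ (r - 2) * (r - 2) := Nat.mul_le_mul (by omega) (by omega)
    omega
  · -- a small group of automorphisms
    have h1 : 2 ^ n ≤ n * n := by
      refine le_trans (le_trans (Nat.pow_le_pow_right two_pos hdn) ?_) hcard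
      rw [hpd]; exact Nat.pow_le_pow_left hp'.two_le d
    have hn4 : n ≤ 4 := by
      by_contra hn5
      have := sq_lt_two_pow n (by omega)
      omega
    have h16 : p ^ d ≤ 16 := hpd ▸ hcard.trans (Nat.mul_le_mul hn4 hn4)
    have hd4 : d ≤ 4 := by
      by_contra h
      have h1 := Nat.pow_le_pow_left hp'.two_le d
      have h2 : 2 ^ 5 ≤ 2 ^ d := Nat.pow_le_pow_right two_pos (by omega)
      omega
    have hA : Nat.card (alternatingGroup (Fin r)) ≤ Nat.card (Matrix (Fin d) (Fin d) (ZMod p)) := by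
      have hker : mat.toHomUnits.ker ≤ π.ker := fun g hg => hmat (by
        rw [MonoidHom.mem_ker] at hg ⊢
        simpa using congrArg Units.val hg)
      exact (card_alt_le π hπ _ hker).trans
        (Nat.card_le_card_of_injective _ Units.val_injective)
    have hM : Nat.card (Matrix (Fin d) (Fin d) (ZMod p)) ≤ 65536 := by
      rw [Matrix, Nat.card_fun, Nat.card_fun, Nat.card_zmod, Nat.card_fin]
      calc (p ^ d) ^ d ≤ 16 ^ d := Nat.pow_le_pow_left h16 d
        _ ≤ 16 ^ 4 := Nat.pow_le_pow_right (by norm_num) hd4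
    have h9 : (9 : ℕ).factorial ≤ r.factorial := Nat.factorial_le hr
    have := card_alt (r := r) (by omega)
    norm_num [Nat.factorial] at h9
    omega


open Classical in
set_option maxHeartbeats 800000 in
/-- Alternating sections of linear groups. -/
theorem sectionBound {r : ℕ} (hr : 9 ≤ r) : ∀ n, SectionBound.{u} r n := by
  intro n
  induction n using Nat.strong_induction_on with
  | _ n ih =>
  intro k _ _ _ G _ _ V _ _ _ ρ hρ π hπ hn
  induction hN : Nat.card G using Nat.strong_induction_on generalizing G with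
  | _ N ihN =>
  by_cases hmin' : ∃ H : Subgroup G, H.map π = ⊤ ∧ H ≠ ⊤
  · obtain ⟨H, hH, hne⟩ := hmin'
    refine ihN (Nat.card H) ?_ H (ρ.comp H.subtype) (hρ.comp Subtype.val_injective)
      (π.comp H.subtype) (fun y => ?_) rfl
    · rw [← hN, ← Subgroup.card_top (G := G)]
      refine lt_of_le_of_ne (by simpa using Nat.card_le_card_of_injective _ H.subtype_injective) ?_
      intro e
      exact hne (Subgroup.eq_top_of_card_eq _ (by simpa using e))
    · obtain ⟨x, hx, rfl⟩ : y ∈ H.map π := hH ▸ Subgroup.mem_top y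
      exact ⟨⟨x, hx⟩, rfl⟩
  push Not at hmin'
  have hmin : ∀ H : Subgroup G, H.map π = ⊤ → H = ⊤ := hmin'
  by_contra hlt
  have htgt : r - 2 ≤ tgt k r ∧ tgt k r ≤ r - 1 := by
    rw [tgt]; split_ifs <;> omega
  rcases subsingleton_or_nontrivial V with hV | hV
  · refine not_commutative π hπ hr fun x y => hρ (LinearMap.ext fun w => Subsingleton.elim _ _)
  by_cases hirr : ∀ W : Submodule k V, (∀ g, ∀ w ∈ W, ρ g w ∈ W) → W = ⊥ ∨ W = ⊤
  swap
  · push Not at hirr
    obtain ⟨W, hW, hbot, htop⟩ := hirr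
    have h1 := Submodule.finrank_quotient_add_finrank W
    have h2 : Module.finrank k W < Module.finrank k V := Submodule.finrank_lt htop
    have h3 : Module.finrank k W ≠ 0 := fun h => hbot (Submodule.finrank_eq_zero.1 h)
    let σ₁ : G →* Module.End k W :=
      { toFun := fun g => (ρ g).restrict (hW g)
        map_one' := LinearMap.ext fun w => Subtype.ext (by simp)
        map_mul' := fun a b => LinearMap.ext fun w => Subtype.ext (by simp) }
    let σ₂ : G →* Module.End k (V ⧸ W) :=
      { toFun := fun g => W.mapQ W (ρ g) (hW g)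
        map_one' := LinearMap.ext fun x => by
          obtain ⟨w, rfl⟩ := Submodule.Quotient.mk_surjective W x
          simp
        map_mul' := fun a b => LinearMap.ext fun x => by
          obtain ⟨w, rfl⟩ := Submodule.Quotient.mk_surjective W x
          simp }
    rcases le_ker_or_eq_top π hπ hr hmin (N := σ₁.ker) inferInstance with hk | hk
    · refine hlt ((of_kernel π σ₁ hk hπ (P := tgt k r ≤ Module.finrank k W) ?_).trans (by omega))
      intro Gb _ ρ' hi π' hs hf
      haveI := hf inferInstance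
      exact ih _ (by omega) k Gb W ρ' hi π' hs rfl
    rcases le_ker_or_eq_top π hπ hr hmin (N := σ₂.ker) inferInstance with hk2 | hk2
    · refine hlt
        ((of_kernel π σ₂ hk2 hπ (P := tgt k r ≤ Module.finrank k (V ⧸ W)) ?_).trans (by omega))
      intro Gb _ ρ' hi π' hs hf
      haveI := hf inferInstance
      exact ih _ (by omega) k Gb (V ⧸ W) ρ' hi π' hs rfl
    refine not_commutative π hπ hr fun x y => hρ ?_
    have t1 : ∀ g, ∀ w ∈ W, ρ g w = w := fun g w hw =>
      congrArg Subtype.val (congrArg (fun f : Module.End k W => f ⟨w, hw⟩)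
        (MonoidHom.mem_ker.1 (hk ▸ Subgroup.mem_top g : g ∈ σ₁.ker)))
    have t2 : ∀ g w, ρ g w - w ∈ W := fun g w => by
      rw [← Submodule.Quotient.eq]
      exact congrArg (fun f : Module.End k (V ⧸ W) => f (Submodule.Quotient.mk w))
        (MonoidHom.mem_ker.1 (hk2 ▸ Subgroup.mem_top g : g ∈ σ₂.ker))
    refine LinearMap.ext fun w => ?_
    have e : ∀ a b, ρ (a * b) w = ρ a w + ρ b w - w := fun a b => by
      rw [map_mul, Module.End.mul_apply]
      have h := t1 a _ (t2 b w)
      rw [map_sub] at h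
      rw [sub_eq_iff_eq_add] at h
      rw [h]; abel
    rw [e, e]; abel
  -- irreducible
  have hn2 : Module.finrank k V + 2 ≤ r := by omega
  have hab := fun (A : Subgroup G) hA hc =>
    scalar_of_abelian_normal π hπ hr hmin ρ hn2 hirr (A := A) hA hc
  have hperf := perfect_of_minimal π hπ hr hmin
  have hproj : IsProj (fun g => ρ g) := by
    refine ⟨fun g => ⟨⟨ρ g, ρ g⁻¹, by rw [← map_mul, mul_inv_cancel, map_one],
      by rw [← map_mul, inv_mul_cancel, map_one]⟩, rfl⟩, fun a b => ⟨1, one_ne_zero, ?_⟩⟩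
    rw [one_smul]; exact map_mul ρ a b
  set Z := scalarSubgroup hproj with hZdef
  haveI hZn : Z.Normal := scalarSubgroup_normal hproj
  have hZmem : ∀ {g}, g ∈ Z ↔ ∃ c : k, ρ g = c • 1 := mem_scalarSubgroup hproj
  have hZc : ∀ z ∈ Z, ∀ g, z * g = g * z := by
    intro z hz g
    obtain ⟨c, hc⟩ := hZmem.1 hz
    apply hρ
    rw [map_mul, map_mul, hc, smul_mul_assoc, one_mul, mul_smul_comm, mul_one]
  by_cases hKZ : π.ker ≤ Z
  · -- a projective representation of the alternating group
    obtain ⟨s, hs⟩ := hπ.hasRightInverse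
    have hT := isProj_section π ρ s hs fun z hz => hZmem.1 (hKZ hz)
    refine hlt (hn ▸ bound_alternating r hr V _ hT fun hall => not_commutative π hπ hr fun x y => ?_)
    refine hZc x ?_ y
    have hx : x * (s (π x))⁻¹ ∈ π.ker := by rw [MonoidHom.mem_ker, map_mul, map_inv, hs, mul_inv_cancel]
    have := Z.mul_mem (hKZ hx) (hZmem.2 (hall (π x)))
    rwa [inv_mul_cancel_right] at this
  -- the kernel is nilpotent and not scalar
  let Kb : Subgroup (G ⧸ Z) := π.ker.map (QuotientGroup.mk' Z)
  haveI : Kb.Normal := (MonoidHom.normal_ker π).map _ (QuotientGroup.mk'_surjective Z)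
  haveI := isNilpotent_ker π hπ hr hmin
  haveI : Group.IsNilpotent Kb :=
    Group.nilpotent_of_surjective ((QuotientGroup.mk' Z).subgroupMap π.ker)
      (MonoidHom.subgroupMap_surjective _ _)
  haveI : Nontrivial Kb := by
    rw [Subgroup.nontrivial_iff_ne_bot]
    intro e
    exact hKZ (by simpa [Kb, Subgroup.map_eq_bot_iff] using e)
  have hcn : Subgroup.center Kb ≠ ⊥ := Group.IsNilpotent.center_ne_bot _
  haveI : Nontrivial (Subgroup.center Kb) := (Subgroup.nontrivial_iff_ne_bot _).2 hcn
  set p := (Nat.card (Subgroup.center Kb)).minFac with hp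
  have hp' : p.Prime := Nat.minFac_prime (Finite.one_lt_card).ne'
  haveI := Fact.mk hp'
  obtain ⟨q₀, hq₀⟩ := exists_prime_orderOf_dvd_card' (G := Subgroup.center Kb) p (Nat.minFac_dvd _)
  let Ω : Subgroup (G ⧸ Z) :=
    { carrier := {q | q ∈ Kb ∧ q ^ p = 1 ∧ ∀ y ∈ Kb, q * y = y * q}
      one_mem' := ⟨Kb.one_mem, one_pow p, fun y _ => by rw [one_mul, mul_one]⟩
      mul_mem' := fun {a b} ⟨ha, hap, hac⟩ ⟨hb, hbp, hbc⟩ =>
        ⟨Kb.mul_mem ha hb, by rw [(show Commute a b from hac b hb).mul_pow, hap, hbp, one_mul],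
          fun y hy => (Commute.mul_left (hac y hy) (hbc y hy))⟩
      inv_mem' := fun {a} ⟨ha, hap, hac⟩ =>
        ⟨Kb.inv_mem ha, by rw [inv_pow, hap, inv_one], fun y hy => (Commute.inv_left (hac y hy))⟩ }
  haveI hΩn : Ω.Normal := by
    refine ⟨fun q hq g => ⟨Subgroup.Normal.conj_mem inferInstance q hq.1 g, ?_, fun y hy => ?_⟩⟩
    · rw [conj_pow, hq.2.1, mul_one, mul_inv_cancel]
    · have h := hq.2.2 (g⁻¹ * y * g) (by simpa using Subgroup.Normal.conj_mem inferInstance y hy g⁻¹)
      calc g * q * g⁻¹ * y = g * (q * (g⁻¹ * y * g)) * g⁻¹ := by group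
        _ = _ := by rw [h]; group
  have hq₀Ω : ((q₀ : Kb) : G ⧸ Z) ∈ Ω := by
    refine ⟨(q₀ : Kb).2, ?_, fun y hy => ?_⟩
    · have := pow_orderOf_eq_one q₀
      rw [hq₀] at this
      exact_mod_cast congrArg (fun x : Subgroup.center Kb => ((x : Kb) : G ⧸ Z)) this
    · exact (congrArg Subtype.val (Subgroup.mem_center_iff.1 q₀.2 ⟨y, hy⟩)).symm
  haveI : Nontrivial Ω := by
    refine ⟨⟨⟨_, hq₀Ω⟩, 1, fun e => hp'.one_lt.ne ?_⟩⟩
    rw [← hq₀, eq_comm, orderOf_eq_one_iff]
    exact Subtype.ext (Subtype.ext (by exact congrArg (fun x : Ω => (x : G ⧸ Z)) e))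
  letI : CommGroup Ω :=
    { (inferInstance : Group Ω) with mul_comm := fun a b => Subtype.ext (a.2.2.2 b b.2.1) }
  -- lifts of `Ω` have linearly independent images
  let A : Subgroup G := Ω.comap (QuotientGroup.mk' Z)
  have hAn : A.Normal := hΩn.comap _
  have hcomm : ∀ x ∈ A, ∀ y ∈ A, ∃ c : k, ρ x * ρ y = c • (ρ y * ρ x) := by
    intro x hx y hy
    have e : QuotientGroup.mk' Z (x * y) = QuotientGroup.mk' Z (y * x) := by
      rw [map_mul, map_mul]; exact hx.2.2 _ hy.1
    obtain ⟨z, hz, e'⟩ := (QuotientGroup.mk'_eq_mk' Z).1 e.symm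
    obtain ⟨c, hc⟩ := hZmem.1 hz
    refine ⟨c, ?_⟩
    rw [← map_mul, ← map_mul, ← e', map_mul ρ (y * x), hc, mul_smul_comm, mul_one]
  have hrad : ∀ x ∈ A, (∀ y ∈ A, ρ x * ρ y = ρ y * ρ x) → x ∈ Z := by
    intro x hx hall
    let R : Subgroup G := A ⊓ Subgroup.centralizer (A : Set G)
    haveI : (Subgroup.centralizer (A : Set G)).Normal := by
      haveI := hAn; infer_instance
    have hRn : R.Normal := by haveI := hAn; exact inferInstanceAs (A ⊓ _).Normal
    refine hZmem.2 (hab R hRn (fun a ha b hb =>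
      (Subgroup.mem_centralizer_iff.1 ha.2 b hb.1).symm) x ⟨hx, ?_⟩)
    show x ∈ Subgroup.centralizer (A : Set G)
    rw [Subgroup.mem_centralizer_iff]
    intro y hy
    apply hρ
    rw [map_mul, map_mul, hall y hy]
  let rep : Ω → G := fun q => (q : G ⧸ Z).out
  have hrep : ∀ q : Ω, QuotientGroup.mk' Z (rep q) = q := fun q => QuotientGroup.out_eq' _
  have hrepA : ∀ q : Ω, rep q ∈ A := fun q => by
    rw [Subgroup.mem_comap, hrep]; exact q.2
  have hchi : ∀ (q : Ω) (y : A), ∃ c : k, ρ y * ρ (rep q) * ρ (y : G)⁻¹ = c • ρ (rep q) := by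
    intro q y
    obtain ⟨c, hc⟩ := hcomm y y.2 (rep q) (hrepA q)
    refine ⟨c, ?_⟩
    rw [hc, smul_mul_assoc, mul_assoc, ← map_mul ρ (y : G), mul_inv_cancel, map_one, mul_one]
  choose chi hchi using hchi
  have hu : ∀ g, IsUnit (ρ g) := hproj.isUnit
  have hliM : LinearIndependent k fun q => ρ (rep q) := by
    refine linearIndependent_joint
      (fun y : A => LinearMap.mulLeft k (ρ y) ∘ₗ LinearMap.mulRight k (ρ (y : G)⁻¹))
      (fun q => ρ (rep q)) (fun q h => not_isUnit_zero (h ▸ hu (rep q))) chi ?_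
      (fun q y => by simpa [mul_assoc] using hchi q y)
    intro q q' e
    have hx : rep q * (rep q')⁻¹ ∈ Z := by
      refine hrad _ (A.mul_mem (hrepA q) (A.inv_mem (hrepA q'))) fun y hy => ?_
      have e1 := hchi q ⟨y, hy⟩
      have e2 := hchi q' ⟨y, hy⟩
      rw [congrFun e ⟨y, hy⟩] at e1
      set c := chi q' ⟨y, hy⟩
      have hyi : ρ y⁻¹ * ρ y = 1 := by rw [← map_mul, inv_mul_cancel, map_one]
      have f1 : ρ y * ρ (rep q) = c • (ρ (rep q) * ρ y) := by
        rw [← smul_mul_assoc, ← e1, mul_assoc, hyi, mul_one]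
      have f2 : ρ y * ρ (rep q') = c • (ρ (rep q') * ρ y) := by
        rw [← smul_mul_assoc, ← e2, mul_assoc, hyi, mul_one]
      refine ((hu (rep q')).mul_right_cancel ?_)
      have hb : ρ (rep q * (rep q')⁻¹) * ρ (rep q') = ρ (rep q) := by
        rw [← map_mul, inv_mul_cancel_right]
      calc ρ (rep q * (rep q')⁻¹) * ρ y * ρ (rep q')
          = c • (ρ (rep q * (rep q')⁻¹) * ρ (rep q') * ρ y) := by
            rw [mul_assoc, f2, mul_smul_comm, ← mul_assoc]
        _ = ρ y * ρ (rep q * (rep q')⁻¹) * ρ (rep q') := by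
            rw [mul_assoc (ρ y), hb, f1]
    apply Subtype.ext
    rw [← hrep q, ← hrep q', ← mul_inv_eq_one, ← map_inv, ← map_mul]
    exact (QuotientGroup.eq_one_iff _).2 hx
  haveI := Fintype.ofFinite Ω
  have hcardΩ : Nat.card Ω ≤ n * n := by
    rw [Nat.card_eq_fintype_card]
    refine hliM.fintype_card_le_finrank.trans (le_of_eq ?_)
    rw [Module.finrank_linearMap, hn]
  -- the action on `Ω`
  let α : G →* MulAut Ω := (MulAut.conjNormal).comp (QuotientGroup.mk' Z)
  rcases le_ker_or_eq_top π hπ hr hmin (N := α.ker) inferInstance with hk | hk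
  · exact no_small_action hr ih π hπ Ω p (fun q => Subtype.ext q.2.2.1) α hk hcardΩ (by omega)
  · -- a central element
    have hc0 : ∀ x ∈ A, ∀ g, g * x * g⁻¹ * x⁻¹ ∈ Z := by
      intro x hx g
      rw [← QuotientGroup.eq_one_iff]
      have h : ((α g ⟨QuotientGroup.mk' Z x, hx⟩ : Ω) : G ⧸ Z) = QuotientGroup.mk' Z x :=
        congrArg Subtype.val (DFunLike.congr_fun
          (MonoidHom.mem_ker.1 (hk ▸ Subgroup.mem_top g : g ∈ α.ker)) ⟨QuotientGroup.mk' Z x, hx⟩)
      rw [show α g = MulAut.conjNormal (QuotientGroup.mk' Z g) from rfl,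
        MulAut.conjNormal_apply] at h
      change QuotientGroup.mk' Z g * QuotientGroup.mk' Z x * (QuotientGroup.mk' Z g)⁻¹ =
        QuotientGroup.mk' Z x at h
      show QuotientGroup.mk' Z (g * x * g⁻¹ * x⁻¹) = 1
      rw [map_mul, map_mul, map_mul, map_inv, map_inv, h, mul_inv_cancel]
    have hZC : ∀ z ∈ Z, z ∈ Subgroup.center G := fun z hz =>
      Subgroup.mem_center_iff.2 fun g => (hZc z hz g).symm
    have hle : ∀ x ∈ A, x ∈ Z := by
      intro x hx
      exact hZmem.2 (hab (Subgroup.center G) inferInstance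
        (fun a _ b hb => (Subgroup.mem_center_iff.1 hb a)) x
        (mem_center_of_perfect hperf fun g => hZC _ (hc0 x hx g)))
    obtain ⟨q, hq⟩ := exists_ne (1 : Ω)
    exact hq (Subtype.ext (by
      rw [← hrep q]; exact (QuotientGroup.eq_one_iff _).2 (hle _ (hrepA q))))

end CfsgLib.AltDegree
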