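import Cfsg.Agent.Lib.AltDegree.Pentad
import Cfsg.Agent.Lib.AltDegree.Eight

/-!
# The degrees nine, ten and eleven
-/

set_option autoImplicit false
set_option linter.unusedSectionVars false
set_option linter.style.haveILetI false

namespace CfsgLib.AltDegree

open Equiv Equiv.Perm

universe u v

variable {k : Type u} [Field k] [IsAlgClosed k] {V : Type v} [AddCommGroup V] [Module k V]
  [FiniteDimensional k V]

theorem bound_eight (h2 : (2 : k) ≠ 0) : Bound.{u, v} k 8 7 :=
  fun _ _ _ _ _ hT hns => seven_le_finrank h2 hT hns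

variable [Nontrivial V]

theorem scalar_of_canon {G : Type*} [Group G] {T : G → Module.End k V} (hT : IsProj T) {g : G}
    {n : ℕ} (hg : Good g n) {U : Submodule k V} {μ : k}
    (h : ∀ w ∈ U, canon T g n w = μ • w) : ∃ c : k, ∀ w ∈ U, T g w = c • w := by
  obtain ⟨e, he, hc⟩ := (canon_spec (T := T) hT hg).1
  refine ⟨e⁻¹ * μ, fun w hw => ?_⟩
  rw [mul_smul, ← h w hw, hc, LinearMap.smul_apply, smul_smul, inv_mul_cancel₀ he, one_smul]

theorem canon_of_scalar {G : Type*} [Group G] {T : G → Module.End k V} (hT : IsProj T) {g : G}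
    {n : ℕ} (hg : Good g n) {U : Submodule k V} {μ : k}
    (h : ∀ w ∈ U, T g w = μ • w) : ∃ c : k, ∀ w ∈ U, canon T g n w = c • w := by
  obtain ⟨e, -, hc⟩ := (canon_spec (T := T) hT hg).1
  exact ⟨e * μ, fun w hw => by rw [hc, LinearMap.smul_apply, h w hw, smul_smul]⟩

theorem eigen_invariant {Ω : Type*} [Fintype Ω] [DecidableEq Ω]
    {T : alternatingGroup Ω → Module.End k V} (hT : IsProj T) {g x : alternatingGroup Ω} {n : ℕ}
    (hg : Good g n) (e : x * g = g * x) (μ : k) :
    ∀ w ∈ (canon T g n).eigenspace μ, T x w ∈ (canon T g n).eigenspace μ := by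
  intro w hw
  rw [Module.End.mem_eigenspace_iff] at hw ⊢
  rw [← Module.End.mul_apply, ← (hg.commute hT (canon_spec hT hg).1 e).eq, Module.End.mul_apply, hw,
    map_smul]

theorem scalarOn_of_finrank_one {G : Type*} [Group G] {T : G → Module.End k V} {U : Submodule k V}
    (hU : ∀ g, ∀ w ∈ U, T g w ∈ U) (h : Module.finrank k U = 1) : ScalarOn T U := by
  intro g
  obtain ⟨u, hu, hu0⟩ := Submodule.exists_mem_ne_zero_of_ne_bot
    (show U ≠ ⊥ by intro e; rw [e, finrank_bot] at h; omega)
  have e : Submodule.span k {u} = U := Submodule.eq_of_le_of_finrank_eq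
    ((Submodule.span_singleton_le_iff_mem _ _).2 hu) (by rw [finrank_span_singleton hu0, h])
  have hm := hU g u hu
  rw [← e, Submodule.mem_span_singleton] at hm
  obtain ⟨c, hc⟩ := hm
  refine ⟨c, fun w hw => ?_⟩
  rw [← e, Submodule.mem_span_singleton] at hw
  obtain ⟨d, rfl⟩ := hw
  rw [map_smul, ← hc, smul_comm]

theorem finrank_map_add {W : Type*} [AddCommGroup W] [Module k W] (N : V →ₗ[k] W)
    (P : Submodule k V) :
    Module.finrank k (P.map N) + Module.finrank k ↥(P ⊓ LinearMap.ker N) = Module.finrank k P := by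
  have h := LinearMap.finrank_range_add_finrank_ker (N ∘ₗ P.subtype)
  have e1 : LinearMap.range (N ∘ₗ P.subtype) = P.map N := by
    rw [LinearMap.range_comp, Submodule.range_subtype]
  rw [e1, LinearMap.ker_comp] at h
  have e2 : (LinearMap.ker N).comap P.subtype = (P ⊓ LinearMap.ker N).comap P.subtype := by
    ext x; simp
  rw [e2, (Submodule.comapSubtypeEquivOfLe inf_le_left).finrank_eq] at h
  exact h

section Nine

variable {Ω : Type*} [Fintype Ω] [DecidableEq Ω] {T : alternatingGroup Ω → Module.End k V}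

/-- Degree at most nine, characteristic not three. -/
theorem small_ne_three (hT : IsProj T) (hns : ¬ AllScalar T) (hr : 9 ≤ Fintype.card Ω)
    (h3 : (3 : k) ≠ 0) {ω : k} (hω : IsPrimitiveRoot ω 3) {a b c d e f g h i : Ω}
    (ha : D3 a b c) (hd : D3 d e f) (hg : D3 g h i)
    (c12 : cyc a b c * cyc d e f = cyc d e f * cyc a b c)
    (c13 : cyc a b c * cyc g h i = cyc g h i * cyc a b c)
    (c23 : cyc d e f * cyc g h i = cyc g h i * cyc d e f)
    (hrel : NineRel (cyc a b c) (cyc d e f) (cyc g h i)) (hn : Module.finrank k V ≤ 9) (N : ℕ) :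
    Step T a b c N ∨ (8 ≤ Module.finrank k V ∧
      Module.finrank k ((canon T (cyc a b c) 3).eigenspace 1) + 8 = Module.finrank k V ∧
      Module.finrank k ↥((canon T (cyc a b c) 3).eigenspace ω ⊓
        (canon T (cyc d e f) 3).eigenspace ω) = 2 ∧
      Module.finrank k ↥((canon T (cyc a b c) 3).eigenspace ω ⊓
        (canon T (cyc d e f) 3).eigenspace ω ⊓ (canon T (cyc g h i) 3).eigenspace ω) = 1 ∧
      Module.finrank k ↥((canon T (cyc a b c) 3).eigenspace ω ⊓
        (canon T (cyc d e f) 3).eigenspace ω ⊓ (canon T (cyc g h i) 3).eigenspace (ω ^ 2)) = 1) := by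
  have g₁ := good_cyc ha.1 ha.2.1 ha.2.2 (by omega : 8 ≤ Fintype.card Ω)
  have g₂ := good_cyc hd.1 hd.2.1 hd.2.2 (by omega : 8 ≤ Fintype.card Ω)
  have g₃ := good_cyc hg.1 hg.2.1 hg.2.2 (by omega : 8 ≤ Fintype.card Ω)
  obtain ⟨e0, e1, e2, e3, hV, h0, h1, h2, hW, hW1, hW2⟩ :=
    weights hT h3 hω g₁ g₂ g₃ c12 c13 c23 hrel
  have hker := LinearMap.finrank_range_add_finrank_ker (canon T (cyc a b c) 3 - 1)
  rw [← eigenspace_eq_ker] at hker
  have hR0 : Module.finrank k (LinearMap.range (canon T (cyc a b c) 3 - 1)) ≠ 0 := by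
    rw [Ne, Submodule.finrank_eq_zero, LinearMap.range_eq_bot, sub_eq_zero]
    exact canon_ne_one hT hns hr ha
  rcases Nat.eq_zero_or_pos e3 with he3 | he3
  swap
  · right; refine ⟨?_, ?_, ?_, ?_, ?_⟩ <;> omega
  left; right
  refine ⟨by omega, by rw [img]; omega, ?_⟩
  set A := canon T (cyc a b c) 3 with hA
  have hcard : Fintype.card (rest a b c) = Fintype.card Ω - 3 := by
    rw [Fintype.card_coe, card_rest ha]
  have hperf : commutator (alternatingGroup (rest a b c)) = ⊤ :=
    commutator_alternatingGroup_eq_top (by rw [Nat.card_eq_fintype_card, hcard]; omega)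
  have hω1 : ω ≠ 1 := hω.ne_one (by norm_num)
  have hω2 : ω ^ 2 ≠ 1 := fun h => absurd (Nat.le_of_dvd (by norm_num) (hω.dvd_of_pow_eq_one 2 h))
    (by norm_num)
  have hinv : ∀ μ : k, ∀ x, ∀ w ∈ A.eigenspace μ, sub3 T a b c x w ∈ A.eigenspace μ := by
    intro μ x w hw
    rw [Module.End.mem_eigenspace_iff] at hw ⊢
    rw [← Module.End.mul_apply, ← (sub3_commute hT (by omega) ha x).eq, Module.End.mul_apply, hw,
      map_smul]
  have hle : ∀ μ : k, μ ≠ 1 → A.eigenspace μ ≤ LinearMap.range (A - 1) := by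
    intro μ hμ w hw
    refine ⟨(μ - 1)⁻¹ • w, ?_⟩
    rw [map_smul, LinearMap.sub_apply, Module.End.one_apply, Module.End.mem_eigenspace_iff.1 hw,
      show μ • w - w = (μ - 1) • w by rw [sub_smul, one_smul], smul_smul,
      inv_mul_cancel₀ (sub_ne_zero.2 hμ), one_smul]
  have hdisj : A.eigenspace ω ⊓ A.eigenspace (ω ^ 2) = ⊥ := by
    rw [Submodule.eq_bot_iff]
    intro w hw
    have x1 := Module.End.mem_eigenspace_iff.1 hw.1
    have x2 := Module.End.mem_eigenspace_iff.1 hw.2
    by_contra hw0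
    have hωω : ω * 1 = ω * ω := by
      rw [mul_one, ← pow_two]; exact smul_left_injective k hw0 (x1.symm.trans x2)
    exact hω1 (mul_left_cancel₀ (hω.ne_zero (by norm_num)) hωω).symm
  have hsup := Submodule.finrank_sup_add_finrank_inf_eq (A.eigenspace ω) (A.eigenspace (ω ^ 2))
  rw [hdisj, finrank_bot] at hsup
  have himg : A.eigenspace ω ⊔ A.eigenspace (ω ^ 2) = img T a b c :=
    Submodule.eq_of_le_of_finrank_eq (sup_le (hle _ hω1) (hle _ hω2)) (by rw [img, ← hA]; omega)
  rw [← himg]
  exact scalarOn_sup hperf hT.sub3 (scalarOn_of_finrank_one (hinv ω) (by omega))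
    (scalarOn_of_finrank_one (hinv (ω ^ 2)) (by omega))

end Nine

theorem nineRel9 : NineRel (cyc (0 : Fin 9) 1 2) (cyc 3 4 5) (cyc 6 7 8) :=
  ⟨⟨swap 1 2 * swap 4 5, by simp [mem_alternatingGroup]⟩,
    ⟨swap 4 5 * swap 7 8, by simp [mem_alternatingGroup]⟩,
    ⟨swap 0 3 * swap 3 6 * (swap 1 4 * swap 4 7) * (swap 2 5 * swap 5 8),
      by simp [mem_alternatingGroup]⟩,
    ⟨swap 0 3 * swap 1 4 * swap 2 5 * swap 1 2, by simp [mem_alternatingGroup]⟩,
    by decide +kernel⟩

theorem nineRel10 : NineRel (cyc (0 : Fin 10) 1 2) (cyc 3 4 5) (cyc 6 7 8) :=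
  ⟨⟨swap 1 2 * swap 4 5, by simp [mem_alternatingGroup]⟩,
    ⟨swap 4 5 * swap 7 8, by simp [mem_alternatingGroup]⟩,
    ⟨swap 0 3 * swap 3 6 * (swap 1 4 * swap 4 7) * (swap 2 5 * swap 5 8),
      by simp [mem_alternatingGroup]⟩,
    ⟨swap 0 3 * swap 1 4 * swap 2 5 * swap 1 2, by simp [mem_alternatingGroup]⟩,
    by decide +kernel⟩

theorem nineRel11 : NineRel (cyc (0 : Fin 11) 1 2) (cyc 3 4 5) (cyc 6 7 8) :=
  ⟨⟨swap 1 2 * swap 4 5, by simp [mem_alternatingGroup]⟩,
    ⟨swap 4 5 * swap 7 8, by simp [mem_alternatingGroup]⟩,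
    ⟨swap 0 3 * swap 3 6 * (swap 1 4 * swap 4 7) * (swap 2 5 * swap 5 8),
      by simp [mem_alternatingGroup]⟩,
    ⟨swap 0 3 * swap 1 4 * swap 2 5 * swap 1 2, by simp [mem_alternatingGroup]⟩,
    by decide +kernel⟩

theorem tgt_le (k : Type u) [Field k] [DecidableEq k] (r : ℕ) : tgt k r ≤ r - 1 := by
  rw [tgt]; omega

theorem tgt_of_zero [DecidableEq k] {r : ℕ} (h : (r : k) = 0) : tgt k r = r - 2 := by
  rw [tgt, if_pos h]; omega

/-- The step for nine points. -/
theorem step_nine [DecidableEq k] {T : alternatingGroup (Fin 9) → Module.End k V} (hT : IsProj T)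
    (hns : ¬ AllScalar T) : Step T 0 1 2 (tgt k 9) := by
  have ht := tgt_le k 9
  by_cases hlt : tgt k 9 ≤ Module.finrank k V
  · exact Or.inl hlt
  by_cases h3 : (3 : k) = 0
  · have h9 : ((9 : ℕ) : k) = 0 := by push_cast; linear_combination (3 : k) * h3
    have ht' := tgt_of_zero (k := k) h9
    have h2 : (2 : k) ≠ 0 := fun h => one_ne_zero (α := k) (by linear_combination h3 - h)
    let S : Finset (Fin 9) := {8}ᶜ
    have hcard : Fintype.card S = 8 := by rw [Fintype.card_coe]; rfl
    have hns' : ¬ AllScalar fun x => T (alternatingGroup.ofSubtype S x) := by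
      intro h
      haveI : IsSimpleGroup (alternatingGroup (Fin 9)) := alternatingGroup.isSimpleGroup (by simp)
      obtain ⟨x, hx⟩ : cyc (0 : Fin 9) 1 2 ∈ (alternatingGroup.ofSubtype S).range :=
        (alternatingGroup.mem_range_ofSubtype_iff S _).2 (by decide +kernel)
      obtain ⟨μ, hμ⟩ := h x
      simp only [hx] at hμ
      exact absurd (eq_one_of_scalar hT hns hμ) (by decide +kernel)
    have h7 := (bound_eight h2).apply hcard (hT.comp (alternatingGroup.ofSubtype S)) hns'
    exact Or.inl (by omega)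
  · obtain ⟨ω, hω⟩ := exists_isPrimitiveRoot (k := k) 3 (by exact_mod_cast h3)
    rcases small_ne_three hT hns (by simp) h3 hω (a := 0) (b := 1) (c := 2) (d := 3) (e := 4)
      (f := 5) (g := 6) (h := 7) (i := 8) (by unfold D3; decide) (by unfold D3; decide)
      (by unfold D3; decide) (by decide +kernel) (by decide +kernel) (by decide +kernel) nineRel9
      (by omega) (tgt k 9) with h | h
    · exact h
    · exact Or.inl (by omega)

/-- First five-cycle. -/
def tenS1 : alternatingGroup (Fin 10) :=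
  ⟨List.formPerm [0, 1, 2, 3, 4], by simp [List.formPerm_cons_cons, mem_alternatingGroup]⟩

/-- Second five-cycle. -/
def tenS2 : alternatingGroup (Fin 10) :=
  ⟨List.formPerm [5, 6, 7, 8, 9], by simp [List.formPerm_cons_cons, mem_alternatingGroup]⟩

theorem good_tenS1 : Good tenS1 5 :=
  good_of_isCycle (List.isCycle_formPerm (l := [(0 : Fin 10), 1, 2, 3, 4]) (by decide) (by simp))
    (by decide +kernel) (by decide) (by simp)

theorem good_tenS2 : Good tenS2 5 :=
  good_of_isCycle (List.isCycle_formPerm (l := [(5 : Fin 10), 6, 7, 8, 9]) (by decide) (by simp))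
    (by decide +kernel) (by decide) (by simp)

/-- The step for ten points. -/
theorem step_ten [DecidableEq k] {T : alternatingGroup (Fin 10) → Module.End k V} (hT : IsProj T)
    (hirr : Irred T) (hns : ¬ AllScalar T) : Step T 0 1 2 (tgt k 10) := by
  have ht := tgt_le k 10
  by_cases hlt : tgt k 10 ≤ Module.finrank k V
  · exact Or.inl hlt
  have hd : D3 (0 : Fin 10) 1 2 := by unfold D3; decide
  have hg := good_cyc hd.1 hd.2.1 hd.2.2 (by simp : 8 ≤ Fintype.card (Fin 10))
  have key : (5 : k) ≠ 0 → ∃ ζ : k, IsPrimitiveRoot ζ 5 ∧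
      (∀ j : Fin 5, (j : ℕ) ≠ 0 → (canon T tenS2 5).eigenspace (ζ ^ (j : ℕ)) ≤
        (canon T (cyc (0 : Fin 10) 1 2) 3).eigenspace 1) ∧
      ∃ c m : ℕ, 0 < m ∧ Module.finrank k V = c + 8 * m ∧
        Module.finrank k ((canon T tenS2 5).eigenspace 1) = c + 4 * m ∧
        ∃ j : Fin 5, (j : ℕ) ≠ 0 ∧ (canon T tenS2 5).eigenspace (ζ ^ (j : ℕ)) ≠ ⊥ := by
    intro h5
    obtain ⟨ζ, hζ⟩ := exists_isPrimitiveRoot (k := k) 5 (by exact_mod_cast h5)
    obtain ⟨htriv, hex⟩ := pentad hT hns (by simp) h5 (by omega) hζ good_tenS1 good_tenS2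
      (by decide +kernel) (by decide +kernel)
      (P := ⟨List.formPerm [1, 2, 4, 3] * List.formPerm [6, 7, 9, 8], by
        simp [List.formPerm_cons_cons, mem_alternatingGroup]⟩)
      (Q := ⟨List.formPerm [1, 2, 4, 3] * List.formPerm [6, 8, 9, 7], by
        simp [List.formPerm_cons_cons, mem_alternatingGroup]⟩)
      (S := ⟨swap 0 5 * swap 1 6 * swap 2 7 * swap 3 8 * swap 4 9 * List.formPerm [1, 2, 4, 3], by
        simp [List.formPerm_cons_cons, mem_alternatingGroup]⟩)
      (by decide +kernel) (by decide +kernel) (by decide +kernel) (by decide +kernel)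
      (by decide +kernel) (by decide +kernel)
    refine ⟨ζ, hζ, fun j hj => ?_, hex⟩
    set U := (canon T tenS2 5).eigenspace (ζ ^ (j : ℕ)) with hU
    let S : Finset (Fin 10) := {0, 1, 2, 3, 4}
    have hUinv : ∀ x, ∀ w ∈ U, T (alternatingGroup.ofSubtype S x) w ∈ U := fun x =>
      eigen_invariant hT good_tenS2 (commute_of_support (by
        have hx : alternatingGroup.ofSubtype S x ∈ (alternatingGroup.ofSubtype S).range := ⟨x, rfl⟩
        rw [alternatingGroup.mem_range_ofSubtype_iff] at hx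
        exact Finset.disjoint_of_subset_left hx (by decide +kernel))) _
    obtain ⟨μ, hμ⟩ := scalar_of_canon hT good_tenS1 (U := U) (μ := 1)
      (fun w hw => by rw [one_smul]; exact htriv j hj w hw)
    have hall := scalarOn_five hT S (by decide) hUinv (g := tenS1) (by decide +kernel)
      (by decide +kernel) hμ
    obtain ⟨ν, hν⟩ := hall (cyc 0 1 2) (by decide +kernel)
    obtain ⟨τ, hτ⟩ := hall ⟨swap 0 1 * swap 3 4, by simp [mem_alternatingGroup]⟩ (by decide +kernel)
    obtain ⟨α, hα⟩ := canon_of_scalar hT hg hν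
    obtain ⟨-, hA3, hinv⟩ := canon_spec (T := T) hT hg
    have hThA := hinv ⟨swap 0 1 * swap 3 4, by simp [mem_alternatingGroup]⟩ (by decide +kernel)
    intro w hw
    rw [Module.End.mem_eigenspace_iff, one_smul]
    by_cases hw0 : w = 0
    · simp [hw0]
    have e1 := congrArg (fun X => X w) hA3
    have e2 := congrArg (fun X => X w) hThA
    simp only [show 3 - 1 = 2 from rfl, pow_succ, pow_zero, one_mul, Module.End.mul_apply,
      Module.End.one_apply, hα w hw, map_smul, hτ w hw, smul_smul] at e1 e2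
    have hα3 : α * α * α = 1 :=
      (mul_assoc α α α).trans (smul_left_injective k hw0 (e1.trans (one_smul k w).symm))
    have hτ0 : τ ≠ 0 := by
      intro h
      have := hτ w hw
      rw [h, zero_smul] at this
      exact hw0 (T_injective hT _ (this.trans (map_zero _).symm))
    have e3 := smul_left_injective k hw0 e2
    have hα0 : α ≠ 0 := fun h => by simp [h] at hα3
    have hα1 : α = 1 := by
      have : (α * τ) * 1 = (α * τ) * α := by linear_combination e3
      exact (mul_left_cancel₀ (mul_ne_zero hα0 hτ0) this).symm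
    rw [hα w hw, hα1, one_smul]
  by_cases h3 : (3 : k) = 0
  · have h5 : (5 : k) ≠ 0 := fun h => one_ne_zero (α := k) (by linear_combination 2 * h3 - h)
    obtain ⟨ζ, hζ, hfix, c, m, hm, hV, hP, -⟩ := key h5
    have hA3 := canon_cyc_pow hT (by simp) hd
    have hcA : ∀ w ∈ (canon T tenS2 5).eigenspace 1,
        (canon T (cyc (0 : Fin 10) 1 2) 3 - 1) w ∈ (canon T tenS2 5).eigenspace 1 := by
      intro w hw
      obtain ⟨e, -, he⟩ := (canon_spec (T := T) hT hg).1
      refine Submodule.sub_mem _ ?_ hw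
      rw [he]
      exact Submodule.smul_mem _ e (eigen_invariant hT good_tenS2 (by decide +kernel) 1 w hw)
    have hne1 := canon_ne_one hT hns (by simp) hd
    have hR1 : Module.finrank k (img T 0 1 2) ≠ 1 := rank_ne_one hT hirr (by simp) hd (by omega)
    set N' := canon T (cyc (0 : Fin 10) 1 2) 3 - 1 with hN'
    set P := (canon T tenS2 5).eigenspace 1 with hPdef
    have hI : img T 0 1 2 = LinearMap.range N' := rfl
    have hrange : LinearMap.range N' = P.map N' := by
      refine le_antisymm ?_ (LinearMap.map_le_range)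
      have htop := iSup_inf_eigenspace (n := 5) (A := canon T tenS2 5) (U := (⊤ : Submodule k V))
        (by exact_mod_cast h5) (canon_spec hT good_tenS2).2.1 hζ (fun _ _ => trivial)
      rw [LinearMap.range_eq_map, ← htop, Submodule.map_iSup]
      refine iSup_le fun j => ?_
      rw [top_inf_eq]
      by_cases hj : (j : ℕ) = 0
      · rw [hj, pow_zero]
      · rintro _ ⟨w, hw, rfl⟩
        have := Module.End.mem_eigenspace_iff.1 (hfix j hj hw)
        rw [one_smul] at this
        rw [hN', LinearMap.sub_apply, Module.End.one_apply, this, sub_self]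
        exact zero_mem _
    have hIP : img T 0 1 2 ≤ P := by
      rw [hI, hrange]
      rintro _ ⟨w, hw, rfl⟩
      exact hcA w hw
    have hN3 : ∀ v, N' (N' (N' v)) = 0 := by
      intro v
      have hc : N' * N' * N' = 0 := by
        set A := canon T (cyc (0 : Fin 10) 1 2) 3
        have : (3 : Module.End k V) = 0 := by
          rw [← map_ofNat (algebraMap k (Module.End k V)), h3, map_zero]
        calc N' * N' * N' = A ^ 3 - 1 - 3 * A * N' := by rw [hN']; noncomm_ring
          _ = 0 := by rw [hA3, this, sub_self, zero_mul, zero_mul, sub_zero]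
      simpa using congrArg (fun X => X v) hc
    have r1 := finrank_map_add N' P
    rw [← hrange] at r1
    have r2 := finrank_map_add N' (LinearMap.range N')
    have r3 := finrank_map_add N' ((LinearMap.range N').map N')
    have z3 : ((LinearMap.range N').map N').map N' = ⊥ := by
      rw [Submodule.eq_bot_iff]
      rintro _ ⟨_, ⟨_, ⟨v, rfl⟩, rfl⟩, rfl⟩
      exact hN3 v
    rw [z3, finrank_bot] at r3
    have k2 : Module.finrank k ↥(LinearMap.range N' ⊓ LinearMap.ker N') ≤
        Module.finrank k ↥(P ⊓ LinearMap.ker N') :=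
      Submodule.finrank_mono (inf_le_inf_right _ (hI ▸ hIP))
    have k3 : Module.finrank k ↥((LinearMap.range N').map N' ⊓ LinearMap.ker N') ≤
        Module.finrank k ↥(P ⊓ LinearMap.ker N') := by
      refine Submodule.finrank_mono (inf_le_inf_right _ ?_)
      rintro _ ⟨w, hw, rfl⟩
      exact hcA w ((hI ▸ hIP) hw)
    have hR0 : Module.finrank k (LinearMap.range N') ≠ 0 := by
      rw [Ne, Submodule.finrank_eq_zero, LinearMap.range_eq_bot, sub_eq_zero]
      exact hne1
    rw [hI] at hR1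
    refine Or.inr ⟨by omega, by rw [hI]; omega, fun x => ?_⟩
    obtain ⟨μ, hμ⟩ := scalar_of_canon hT good_tenS2 (U := img T 0 1 2) (μ := 1)
      (fun w hw => Module.End.mem_eigenspace_iff.1 (hIP hw))
    refine scalarOn_five hT (rest 0 1 2) (by decide) (fun y w hw => ?_) (g := tenS2)
      (by decide +kernel) (by decide +kernel) hμ _ ?_
    · rw [hI] at hw ⊢
      obtain ⟨v, rfl⟩ := hw
      refine ⟨sub3 T 0 1 2 y v, ?_⟩
      have h := congrArg (fun X => X v) (sub3_commute hT (by simp) hd y).eq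
      simp only [Module.End.mul_apply] at h
      simp [hN', sub3] at h ⊢
      rw [h]
    · exact (alternatingGroup.mem_range_ofSubtype_iff _ _).1 ⟨x, rfl⟩
  · obtain ⟨ω, hω⟩ := exists_isPrimitiveRoot (k := k) 3 (by exact_mod_cast h3)
    rcases small_ne_three hT hns (by simp) h3 hω (a := 0) (b := 1) (c := 2) (d := 3) (e := 4)
      (f := 5) (g := 6) (h := 7) (i := 8) hd (by unfold D3; decide)
      (by unfold D3; decide) (by decide +kernel) (by decide +kernel) (by decide +kernel) nineRel10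
      (by omega) (tgt k 10) with h | ⟨h8, h1, -⟩
    · exact h
    exfalso
    have h5 : (5 : k) ≠ 0 := by
      intro h
      have h10 : ((10 : ℕ) : k) = 0 := by push_cast; linear_combination (2 : k) * h
      have := tgt_of_zero (k := k) h10
      omega
    obtain ⟨ζ, -, hfix, c, m, -, -, -, j, hj, hne⟩ := key h5
    have hbot : (canon T (cyc (0 : Fin 10) 1 2) 3).eigenspace 1 = ⊥ :=
      Submodule.finrank_eq_zero.1 (by omega)
    exact hne (le_bot_iff.1 (hbot ▸ hfix j hj))

/-- The five-cycle on the last five of eleven points. -/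
def elevenS : alternatingGroup (Fin 11) :=
  ⟨List.formPerm [6, 7, 8, 9, 10], by simp [List.formPerm_cons_cons, mem_alternatingGroup]⟩

theorem good_elevenS : Good elevenS 5 :=
  good_of_isCycle (List.isCycle_formPerm (l := [(6 : Fin 11), 7, 8, 9, 10]) (by decide) (by simp))
    (by decide +kernel) (by decide) (by simp)

/-- The step for eleven points. -/
theorem step_eleven [DecidableEq k] {T : alternatingGroup (Fin 11) → Module.End k V} (hT : IsProj T)
    (hirr : Irred T) (hns : ¬ AllScalar T) : Step T 0 1 2 (tgt k 11) := by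
  have ht := tgt_le k 11
  by_cases hlt : tgt k 11 ≤ Module.finrank k V
  · exact Or.inl hlt
  have hd : D3 (0 : Fin 11) 1 2 := by unfold D3; decide
  by_cases h2 : (2 : k) = 0
  swap
  · by_cases h3 : (3 : k) = 0
    · exact step_of_eq_three h3 hT hirr hns (by simp) hd (f := 7)
        (by simpa using bound_eight.{u, v} h2) (by norm_num) (by omega) (by omega)
    · exact step_of_ne_three h3 hT hns (by simp) hd (f := 7)
        (by simpa using bound_eight.{u, v} h2) (by norm_num) (by omega) (by omega)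
  have h3 : (3 : k) ≠ 0 := fun h => one_ne_zero (α := k) (by linear_combination h - h2)
  have h5 : (5 : k) ≠ 0 := fun h => one_ne_zero (α := k) (by linear_combination h - 2 * h2)
  obtain ⟨ω, hω⟩ := exists_isPrimitiveRoot (k := k) 3 (by exact_mod_cast h3)
  rcases small_ne_three hT hns (by simp) h3 hω (a := 0) (b := 1) (c := 2) (d := 3) (e := 4)
    (f := 5) (g := 6) (h := 7) (i := 8) hd (by unfold D3; decide)
    (by unfold D3; decide) (by decide +kernel) (by decide +kernel) (by decide +kernel) nineRel11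
    (by omega) (tgt k 11) with h | ⟨-, -, hW, hW1, hW2⟩
  · exact h
  exfalso
  have g₁ := good_cyc hd.1 hd.2.1 hd.2.2 (by simp : 8 ≤ Fintype.card (Fin 11))
  have g₂ : Good (cyc (3 : Fin 11) 4 5) 3 :=
    good_cyc (by decide) (by decide) (by decide) (by simp)
  have g₃ : Good (cyc (6 : Fin 11) 7 8) 3 :=
    good_cyc (by decide) (by decide) (by decide) (by simp)
  set W := (canon T (cyc (0 : Fin 11) 1 2) 3).eigenspace ω ⊓
    (canon T (cyc (3 : Fin 11) 4 5) 3).eigenspace ω with hWdef
  let F : Finset (Fin 11) := {6, 7, 8, 9, 10}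
  have hsup : ∀ x, (alternatingGroup.ofSubtype F x : Perm (Fin 11)).support ⊆ F := fun x =>
    (alternatingGroup.mem_range_ofSubtype_iff F _).1 ⟨x, rfl⟩
  have hFinv : ∀ x, ∀ w ∈ W, T (alternatingGroup.ofSubtype F x) w ∈ W := fun x w hw =>
    ⟨eigen_invariant hT g₁ (commute_of_support
        (Finset.disjoint_of_subset_left (hsup x) (by decide +kernel))) _ w hw.1,
      eigen_invariant hT g₂ (commute_of_support
        (Finset.disjoint_of_subset_left (hsup x) (by decide +kernel))) _ w hw.2⟩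
  have hspec := canon_spec (T := T) hT good_elevenS
  set S := canon T elevenS 5 with hS
  obtain ⟨ζ, hζ⟩ := exists_isPrimitiveRoot (k := k) 5 (by exact_mod_cast h5)
  have hζ5 : ζ ^ 5 = 1 := hζ.pow_eq_one
  obtain ⟨hSlift, hS5, -⟩ := hspec
  have hSW : ∀ w ∈ W, S w ∈ W := by
    intro w hw
    obtain ⟨e, -, he⟩ := hSlift
    rw [he]
    exact ⟨Submodule.smul_mem _ e (eigen_invariant hT g₁ (by decide +kernel) ω w hw.1),
      Submodule.smul_mem _ e (eigen_invariant hT g₂ (by decide +kernel) ω w hw.2)⟩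
  set g0 : alternatingGroup (Fin 11) :=
    ⟨swap 0 3 * swap 1 4 * swap 2 5 * List.formPerm [7, 8, 10, 9], by
      simp [List.formPerm_cons_cons, mem_alternatingGroup]⟩ with hg0
  have e12 : g0 * cyc 0 1 2 = cyc 3 4 5 * g0 := by rw [hg0]; decide +kernel
  have e21 : g0 * cyc 3 4 5 = cyc 0 1 2 * g0 := by rw [hg0]; decide +kernel
  have eS : g0 * elevenS = elevenS ^ 2 * g0 := by rw [hg0]; decide +kernel
  have hWg : ∀ w ∈ W, T g0 w ∈ W := by
    intro w hw
    have x1 := congrArg (fun X => X w) (canon_conj hT g₁ g₂ e12)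
    have x2 := congrArg (fun X => X w) (canon_conj hT g₂ g₁ e21)
    simp only [Module.End.mul_apply, Module.End.mem_eigenspace_iff.1 hw.1,
      Module.End.mem_eigenspace_iff.1 hw.2, map_smul] at x1 x2
    exact ⟨Module.End.mem_eigenspace_iff.2 x2.symm, Module.End.mem_eigenspace_iff.2 x1.symm⟩
  have hcan2 : canon T (elevenS ^ 2) 5 = S ^ 2 :=
    canon_pow hT good_elevenS (good_elevenS.conj eS) rfl
      (l := 3) (by rw [← pow_mul, show 2 * 3 = 5 + 1 from rfl, pow_succ, good_elevenS.pow_eq, one_mul])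
  have horbit : ∀ i : Fin 5, Module.finrank k ↥(W ⊓ S.eigenspace (ζ ^ (i : ℕ))) ≤
      Module.finrank k ↥(W ⊓ S.eigenspace (ζ ^ ((![0, 3, 1, 4, 2] i : Fin 5) : ℕ))) := by
    intro i
    rw [((W ⊓ S.eigenspace (ζ ^ (i : ℕ))).equivMapOfInjective _ (T_injective hT g0)).finrank_eq]
    refine Submodule.finrank_mono ?_
    rintro _ ⟨w, ⟨hw, hw'⟩, rfl⟩
    refine ⟨hWg w hw, ?_⟩
    have x := congrArg (fun X => X w) (canon_conj hT good_elevenS (good_elevenS.conj eS) eS)
    simp only [Module.End.mul_apply, ← hS, Module.End.mem_eigenspace_iff.1 hw', map_smul,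
      hcan2] at x
    have hz : ζ ^ ((![0, 3, 1, 4, 2] i : Fin 5) : ℕ) = (ζ ^ (i : ℕ)) ^ 3 := by
      rw [← pow_mul, pow_eq_pow_mod ((i : ℕ) * 3) hζ5]
      fin_cases i <;> rfl
    rw [SetLike.mem_coe, Module.End.mem_eigenspace_iff, hz]
    calc S (T g0 w) = (S ^ 2 * S ^ 2 * S ^ 2) (T g0 w) := by
          rw [← pow_add, ← pow_add, show 2 + 2 + 2 = 5 + 1 from rfl, pow_succ, hS5, one_mul]
      _ = _ := by
          rw [Module.End.mul_apply, Module.End.mul_apply, ← x, map_smul, ← x, map_smul, map_smul,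
            ← x, smul_smul, smul_smul]
          ring_nf
  have hsum := finrank_eigen_sum (U := W) (by exact_mod_cast h5) hS5 hζ hSW
  rw [hW, Fin.sum_univ_five] at hsum
  have o1 := horbit 1; have o2 := horbit 2; have o3 := horbit 3; have o4 := horbit 4
  change _ ≤ Module.finrank k ↥(W ⊓ S.eigenspace (ζ ^ ((3 : Fin 5) : ℕ))) at o1
  change _ ≤ Module.finrank k ↥(W ⊓ S.eigenspace (ζ ^ ((1 : Fin 5) : ℕ))) at o2
  change _ ≤ Module.finrank k ↥(W ⊓ S.eigenspace (ζ ^ ((4 : Fin 5) : ℕ))) at o3
  change _ ≤ Module.finrank k ↥(W ⊓ S.eigenspace (ζ ^ ((2 : Fin 5) : ℕ))) at o4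
  have hfix : ∀ w ∈ W, S w = (1 : k) • w := by
    intro w hw
    rw [one_smul]
    refine apply_eq_self_of_eigen (by exact_mod_cast h5) hS5 hζ hSW (fun i hi => ?_) hw
    rw [← Submodule.finrank_eq_zero]
    obtain rfl | rfl | rfl | rfl : i = 1 ∨ i = 2 ∨ i = 3 ∨ i = 4 := by
      revert hi; revert i; decide
    all_goals omega
  obtain ⟨μ, hμ⟩ := scalar_of_canon hT good_elevenS hfix
  obtain ⟨ν, hν⟩ := scalarOn_five hT F (by decide) hFinv (g := elevenS) (by decide +kernel)
    (by decide +kernel) hμ (cyc 6 7 8) (by decide +kernel)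
  obtain ⟨α, hα⟩ := canon_of_scalar hT g₃ hν
  obtain ⟨w1, hw1, hn1⟩ := Submodule.exists_mem_ne_zero_of_ne_bot
    (show W ⊓ (canon T (cyc (6 : Fin 11) 7 8) 3).eigenspace ω ≠ ⊥ by
      intro h; rw [h, finrank_bot] at hW1; omega)
  obtain ⟨w2, hw2, hn2⟩ := Submodule.exists_mem_ne_zero_of_ne_bot
    (show W ⊓ (canon T (cyc (6 : Fin 11) 7 8) 3).eigenspace (ω ^ 2) ≠ ⊥ by
      intro h; rw [h, finrank_bot] at hW2; omega)
  have a1 := smul_left_injective k hn1 ((hα w1 hw1.1).symm.trans (Module.End.mem_eigenspace_iff.1 hw1.2))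
  have a2 := smul_left_injective k hn2 ((hα w2 hw2.1).symm.trans (Module.End.mem_eigenspace_iff.1 hw2.2))
  have hωω : ω * 1 = ω * ω := by rw [mul_one, ← pow_two, ← a2, a1]
  exact hω.ne_one (by norm_num) (mul_left_cancel₀ (hω.ne_zero (by norm_num)) hωω).symm

end CfsgLib.AltDegree
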