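import Cfsg.Agent.Lib.AltDegree.General

/-!
# Relabelling points, embeddings and powers of canonical lifts
-/

set_option autoImplicit false
set_option linter.unusedSectionVars false
set_option linter.style.haveILetI false

namespace CfsgLib.AltDegree

open Equiv Equiv.Perm

universe u v

variable {k : Type u} [Field k] {V : Type v} [AddCommGroup V] [Module k V]

section Canon

variable [IsAlgClosed k] [Nontrivial V] {G : Type*} [Group G] {T : G → Module.End k V}

/-- The canonical lift of a power that generates the same cyclic group. -/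
theorem canon_pow (hT : IsProj T) {g g' : G} {n m l : ℕ} (hg : Good g n) (hg' : Good g' n)
    (e : g' = g ^ m) (el : g' ^ l = g) : canon T g' n = canon T g n ^ m := by
  obtain ⟨hA, hAn, hinv⟩ := canon_spec (T := T) hT hg
  refine canon_eq hT hg' ⟨e ▸ hA.pow hT m,
    by rw [← pow_mul, mul_comm, pow_mul, hAn, one_pow], fun h hh => ?_⟩
  have h1 : h * g = g⁻¹ * h := by
    have h2 : SemiconjBy h g' g'⁻¹ := hh
    have h3 := h2.pow_right l
    rwa [el, inv_pow, el] at h3
  have h4 : SemiconjBy (T h) (canon T g n) (canon T g n ^ (n - 1)) := hinv h h1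
  have h5 := h4.pow_right m
  rwa [← pow_mul, mul_comm, pow_mul] at h5

theorem canon_comp (hT : IsProj T) {H : Type*} [Group H] (e : H ≃* G) {g : H} {n : ℕ}
    (hg : Good g n) (hg' : Good (e g) n) :
    canon (fun x => T (e x)) g n = canon T (e g) n := by
  obtain ⟨hA, hAn, hinv⟩ := canon_spec (T := T) hT hg'
  refine canon_eq (hT.comp e.toMonoidHom) hg ⟨hA, hAn, fun h hh => hinv (e h) ?_⟩
  rw [← map_mul, hh, map_mul, map_inv]

end Canon

variable {Ω : Type*} [Fintype Ω] [DecidableEq Ω]

theorem exists_perm3 {a b c x y z : Ω} (h1 : D3 x y z) (h2 : D3 a b c) :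
    ∃ σ : Perm Ω, σ x = a ∧ σ y = b ∧ σ z = c := by
  set s1 := swap x a with hs1
  set s2 := swap (s1 y) b * s1 with hs2
  have ex : s1 x = a := swap_apply_left x a
  have e1 : s1 y ≠ a := fun e => h1.1 (s1.injective (ex.trans e.symm))
  have ey : s2 y = b := by rw [hs2, Perm.mul_apply, swap_apply_left]
  have ex2 : s2 x = a := by
    rw [hs2, Perm.mul_apply, ex, swap_apply_of_ne_of_ne e1.symm h2.1]
  have f1 : s2 z ≠ a := fun e => h1.2.1 (s2.injective (ex2.trans e.symm))
  have f2 : s2 z ≠ b := fun e => h1.2.2 (s2.injective (ey.trans e.symm))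
  refine ⟨swap (s2 z) c * s2, ?_, ?_, swap_apply_left _ _⟩
  · rw [Perm.mul_apply, ex2, swap_apply_of_ne_of_ne f1.symm h2.2.1]
  · rw [Perm.mul_apply, ey, swap_apply_of_ne_of_ne f2.symm h2.2.2]

/-- Relabelling the points. -/
def relabel {α : Type*} [Fintype α] [DecidableEq α] (e : α ≃ Ω) :
    alternatingGroup α ≃* alternatingGroup Ω :=
  e.altCongrHom

theorem relabel_apply {α : Type*} [Fintype α] [DecidableEq α] (e : α ≃ Ω) (g : alternatingGroup α)
    (i : α) : (relabel e g : Perm Ω) (e i) = e ((g : Perm α) i) := by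
  show e ((g : Perm α) (e.symm (e i))) = _
  rw [symm_apply_apply]

theorem relabel_cyc {α : Type*} [Fintype α] [DecidableEq α] (e : α ≃ Ω) {a b c : α}
    (h : D3 a b c) : relabel e (cyc a b c) = cyc (e a) (e b) (e c) := by
  refine Subtype.ext (Equiv.ext fun w => ?_)
  obtain ⟨i, rfl⟩ := e.surjective w
  rw [relabel_apply, cyc_coe h.1 h.2.2,
    cyc_coe (e.injective.ne h.1) (e.injective.ne h.2.2), Perm.mul_apply, Perm.mul_apply,
    e.injective.swap_apply, e.injective.swap_apply]

variable [IsAlgClosed k] [Nontrivial V] [FiniteDimensional k V]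
  {T : alternatingGroup Ω → Module.End k V}

/-- The alternatives for a relabelled triple. -/
theorem step_relabel (hT : IsProj T) {α : Type*} [Fintype α] [DecidableEq α] (e : α ≃ Ω)
    (hr : 8 ≤ Fintype.card Ω) {a b c : α} (h3 : D3 a b c) {N : ℕ}
    (h : Step (fun g => T (relabel e g)) a b c N) : Step T (e a) (e b) (e c) N := by
  rcases h with h | ⟨h5, h2, hs⟩
  · exact Or.inl h
  have h3' : D3 (e a) (e b) (e c) := ⟨e.injective.ne h3.1, e.injective.ne h3.2.1, e.injective.ne h3.2.2⟩
  have hcard : 8 ≤ Fintype.card α := by rwa [Fintype.card_congr e]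
  have hc : img (fun g => T (relabel e g)) a b c = img T (e a) (e b) (e c) := by
    rw [img, img, canon_comp hT (relabel e) (good_cyc h3.1 h3.2.1 h3.2.2 hcard)
      (by rw [relabel_cyc e h3]; exact good_cyc h3'.1 h3'.2.1 h3'.2.2 hr), relabel_cyc e h3]
  refine Or.inr ⟨h5, by rwa [← hc], fun x => ?_⟩
  set y := alternatingGroup.ofSubtype (rest (e a) (e b) (e c)) x with hy
  have hfix : ∀ i, e i ∉ rest (e a) (e b) (e c) →
      (((relabel e).symm y : alternatingGroup α) : Perm α) i = i := by
    intro i hi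
    apply e.injective
    rw [← relabel_apply, MulEquiv.apply_symm_apply]
    exact ofSubtype_fix x hi
  obtain ⟨z, hz⟩ := exists_ofSubtype ((relabel e).symm y) (hfix a (by simp [rest]))
    (hfix b (by simp [rest])) (hfix c (by simp [rest]))
  obtain ⟨μ, hμ⟩ := hs z
  refine ⟨μ, fun w hw => ?_⟩
  have := hμ w (hc ▸ hw)
  rwa [sub3, hz, MulEquiv.apply_symm_apply] at this

/-- It suffices to treat one triple for every relabelled representation. -/
theorem tgt_le_of_base [DecidableEq k] {r : ℕ} (hr9 : 9 ≤ r) {T : alternatingGroup (Fin r) → Module.End k V}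
    (hT : IsProj T) (hirr : Irred T) (hns : ¬ AllScalar T) {x y z : Fin r} (hxyz : D3 x y z)
    (h : ∀ T' : alternatingGroup (Fin r) → Module.End k V, IsProj T' → Irred T' → ¬ AllScalar T' →
      Step T' x y z (tgt k r)) : tgt k r ≤ Module.finrank k V := by
  have hmain := tgt_le_of_step hT hirr (by simpa using hr9) (fun a b c h3 => ?_)
  · simpa using hmain
  obtain ⟨σ, rfl, rfl, rfl⟩ := exists_perm3 hxyz h3
  rw [Fintype.card_fin]
  refine step_relabel hT σ (by simp; omega) hxyz (h _ (hT.comp (relabel σ).toMonoidHom) ?_ ?_)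
  · intro W hW
    exact hirr W fun g w hw => by simpa using hW ((relabel σ).symm g) w hw
  · exact fun hh => hns fun g => by simpa using hh ((relabel σ).symm g)

/-- A group of five points acting on an invariant subspace with one scalar element. -/
theorem scalarOn_five (hT : IsProj T) (S : Finset Ω) (hS : 5 ≤ S.card) {U : Submodule k V}
    (hU : ∀ x, ∀ w ∈ U, T (alternatingGroup.ofSubtype S x) w ∈ U) {g : alternatingGroup Ω}
    (hg : (g : Perm Ω).support ⊆ S) (hg1 : g ≠ 1) {μ : k} (hμ : ∀ w ∈ U, T g w = μ • w) :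
    ∀ h : alternatingGroup Ω, (h : Perm Ω).support ⊆ S → ∃ c : k, ∀ w ∈ U, T h w = c • w := by
  intro h hh
  obtain ⟨x, rfl⟩ : g ∈ (alternatingGroup.ofSubtype S).range :=
    (alternatingGroup.mem_range_ofSubtype_iff S g).2 hg
  obtain ⟨y, rfl⟩ : h ∈ (alternatingGroup.ofSubtype S).range :=
    (alternatingGroup.mem_range_ofSubtype_iff S h).2 hh
  haveI : IsSimpleGroup (alternatingGroup S) :=
    alternatingGroup.isSimpleGroup (by rw [Nat.card_eq_fintype_card, Fintype.card_coe]; exact hS)
  have hT' : IsProj fun z => T (alternatingGroup.ofSubtype S z) := hT.comp _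
  by_cases hU0 : U = ⊥
  · exact ⟨0, fun w hw => by rw [hU0, Submodule.mem_bot] at hw; simp [hw]⟩
  haveI : Nontrivial U := (Submodule.nontrivial_iff_ne_bot).2 hU0
  have hall : AllScalar (res (T := fun z => T (alternatingGroup.ofSubtype S z)) hU) := by
    by_contra hns
    apply hg1
    rw [eq_one_of_scalar (hT'.res hU) hns (g := x) (c := μ)
      (LinearMap.ext fun w => Subtype.ext (by simpa using hμ w w.2)), map_one]
  exact (scalarOn_iff hU).2 hall y

end CfsgLib.AltDegree
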